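import Cfsg.Agent.H190.Cov.K128_m3
import Cfsg.Agent.H763.Wei.RealG2
import Cfsg.Agent.H946.KZ.Gap
import Cfsg.Agent.H943.E7V.Iface
import Cfsg.Agent.H102.E7V.Pos_m3
import Cfsg.Agent.H943.E7V.AdmMain
import Cfsg.Agent.ChevStructure.FieldMap
import Cfsg.Agent.H682.TE6.Comm_m3
import Cfsg.Agent.H890.Spr.Sixteen_m3
import Cfsg.Agent.S2130
import Cfsg.Agent.S1063
import Cfsg.Agent.H129.TwE6Idx
import Cfsg.Agent.H967.CopD4_m3
import Cfsg.Agent.H341.ThreeList_m3
import Cfsg.Agent.H946.ExcNum_m3
import Cfsg.Agent.H290.Wei.TopElt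
import Cfsg.Agent.H56.Exc.FacTF4
import Cfsg.Agent.H381.SzSpec
import Cfsg.Agent.S1159
import Cfsg.Agent.H441.Wei.CentU3_m3
import Cfsg.Agent.H740.FiveBase
import Cfsg.Agent.H481.TBound
import Cfsg.Agent.H177.OM.GTwoReal
import Cfsg.Agent.H682.TE6.Kill_m3
import Mathlib
import Cfsg.Agent.S2065
import Cfsg.Agent.S2067
import Cfsg.Agent.S2078
import Cfsg.Agent.S2601
import Cfsg.Agent.S2602
import Cfsg.Agent.H742.PD.BigE6_m3
import Cfsg.Agent.H537.CopSuzEl
import Cfsg.Agent.H981.SCON
import Cfsg.Agent.LieClassical.FieldTransfer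
import Cfsg.Agent.H154.Split.Core_m3
import Cfsg.Agent.H981.Inv.HNTri3
import Cfsg.Agent.H546.SH.Outer
import Cfsg.Agent.H793.Cyc.FiveHN
import Cfsg.Agent.KFacts.HN.Classes
import Cfsg.Agent.Lib.PackCol
import Cfsg.Agent.H609.TH.Expl
import Cfsg.Agent.H51.Tools
import Cfsg.Agent.H58.HSOdd
import Cfsg.Agent.HN.Classes
import Cfsg.Agent.KFacts.HS.Base
import Cfsg.Agent.H587.NR.He
import Cfsg.Agent.H989.Cov.Twelve_m3
import Cfsg.Agent.OrdDiv.Table
import Cfsg.Agent.H679.SpHe
import Cfsg.Agent.KFacts.He.Classes
import Cfsg.Agent.KFacts.He.Outer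
import Cfsg.Agent.S1695
import Cfsg.Agent.H285.Ccp.HNThree_m3
import Cfsg.Agent.H436.MonLoc
import Cfsg.Agent.H332.MonUpper
import Cfsg.Agent.CpAut.TwoInnerB
import Cfsg.Agent.S1705
import Cfsg.Agent.FastGrp
import Cfsg.Agent.Prune
set_option linter.all false

section
prune_inst 0x7ff0fcf8abb8bddeffff7e3faed9dffc11804fffe6dff943ffe8639f0b9f030209e5fba50de010fe0ed6e21410b87853fb7eeeffe06bdc7ffffd5ff41ffbee1ff5f7350811d48c341f380fff83f07f8e7f3fffffffffffffffffffffffffffbeffffffffffff

-- part: H318/Wei/Over
section
prune_inst 0x100011000000100000000000000000000800000000008000000002000200000000000000080000000008000000000040000000800000000000000000000000000000020000000000000000000000000000000000000000000000000000000000000000000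
set_option linter.all false
open scoped Cfsg.Agent.FastGrp

-- part: H318/Wei/Tor
section
/-!
# The torus of class 18 of `E₇(q)` in diagonal form (helper318)

* `diag_all` : the elements commuting with an element of isolated prime order are simultaneously conjugate, over the
  algebraic closure, to powers of one element `t` of the diagonal torus with `α(t) = u ^ Gq α`;
* `diag_E7` : the case of the class 18 of `E₇(q)`.
-/

set_option autoImplicit false
set_option linter.unusedSectionVars false

namespace Cfsg.Agent.H318.Wei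

open CoxeterSystem Cfsg Cfsg.Lie Cfsg.Lie.ChevalleyDatum
open Cfsg.Agent.ChevalleyStructure Cfsg.Agent.ChevalleyStructure.Elts Cfsg.Agent.ChevalleyStructure.CoxeterGeom
  Cfsg.Agent.ChevalleyStructure.CoxeterGeomTypes Cfsg.Agent.ChevalleyStructure.NPerm
open Cfsg.Agent.Tits.Roots Cfsg.Agent.Tits.Core Cfsg.Agent.Nodes Cfsg.Agent.Nodes.Reps Cfsg.Agent.Nodes.BNOf
  Cfsg.Agent.Nodes.RGDChev Cfsg.Agent.Nodes.Bruhat Cfsg.Agent.Nodes.SubComb Cfsg.Agent.Nodes.Coroot
open Cfsg.Agent.KFacts.RgdField Cfsg.Agent.KFacts.RgdChevCoord Cfsg.Agent.BpExc.TorCent Cfsg.Agent.BpExc.TorChev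
open Cfsg.Agent.GpExc.Field Cfsg.Agent.BpExc.Tow Cfsg.Agent.BpExc.TowChev Cfsg.Agent.BpExc.Fr
  Cfsg.Agent.BpExc.LangFr Cfsg.Agent.LangThm Cfsg.Agent.BpExc Cfsg.Agent.H129 Cfsg.Agent.H129.TorusChar
  Cfsg.Agent.H129.TorusCent Cfsg.Agent.H129.TorusTw Cfsg.Agent.H129.TorusMain Cfsg.Agent.H129.TorusUntw
  Cfsg.Agent.H129.TorAct Cfsg.Agent.H129.WData Cfsg.Agent.H129.UntwTwo Cfsg.Agent.H129.CycT Cfsg.Agent.H129.CycCard
  Cfsg.Agent.H129.RealT Cfsg.Agent.H129.CommDiag Cfsg.Agent.H129.E7Common Cfsg.Agent.H436

universe u

section Main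

variable {D : ChevalleyDatum} {l : ℕ} {M : CoxeterMatrix (Fin l)} (hp : IsType D l M)
  {W : Type*} [Group W] (cs : CoxeterSystem M W)

include hp cs in
/-- **The elements commuting with an element of isolated prime order.** -/
theorem diag_all [Finite W] (hl : 0 < l) {F : Type u} [Field F] [Fintype F] {q : ℕ} (hq : Fintype.card F = q)
    {d' : ℕ} {B' : Fin l → Fin l → ℤ} (hB : InvC D l d' B') (hd' : d' ≠ 0)
    {A : Mat l} (hA : ∀ i j, A i j = cartanOf D l i j) {L : List (Fin l × Mat l)} (hL : ChainOK A L)
    {V B : Mat l} {c : Fin l → ℤ} (hcyc : CycOK l (hd L) V B c) {m : ℕ} {R : Fin m → Fin l → ℤ} {prv dep : ℕ → ℕ}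
    (hR : RootOK D l (hd L) R prv dep) {N : ℕ} (hfN : fN c (q : ℤ) = N) (hqN : q.Coprime N) {d : ℕ}
    (hdd : d = d' ∨ d = 1 ∧ ∀ a : F, ∃ b : F, b ^ d' = a) {r : ℕ} (hr : r.Prime) (hrN : r ∣ N) (hrd : ¬ r ∣ d)
    (hrW : ¬ r ∣ Nat.card W) (hG : ∀ s, ¬ (r : ℤ) ∣ Gq B (q : ℤ) (R s)) {x : ↥(D.group F)} (hx : orderOf x = r) :
    ∃ (g t : ↥(D.group (AlgebraicClosure F))) (u : AlgebraicClosure F), t ∈ TT D (AlgebraicClosure F) ∧
      IsPrimitiveRoot u N ∧ (∀ y, cX hp t y = u ^ Gq B (q : ℤ) y) ∧ orderOf t = N ∧
      ∀ a, Commute a x → ∃ j : ℕ,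
        emb hp.inList (algebraMap F (AlgebraicClosure F)) a = g * t ^ j * g⁻¹ := by
  have hlin := lin_refl hp cs hA hL
  have hc := cyc_of hlin hcyc
  obtain ⟨p, e, hpF, hpc, hpk, he, rfl, hk⟩ := _root_.Cfsg.Agent.H129.TorusUntw.exists_closure hq
  have hpN : ¬ p ∣ N := fun h1 => by
    have h2 : p ∣ Nat.gcd (p ^ e) N := Nat.dvd_gcd (dvd_pow_self p he.ne') h1
    rw [hqN] at h2
    exact hpF.out.one_lt.ne' (Nat.dvd_one.1 h2)
  have hN0 : N ≠ 0 := fun h0 => hpN (by rw [h0]; exact dvd_zero p)
  have hd : ∀ y : ↥(D.group (AlgebraicClosure F)), phi D (AlgebraicClosure F) p e y = y →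
      y ^ d ∈ (emb hp.inList (algebraMap F (AlgebraicClosure F))).range := by
    intro y hy
    rcases hdd with rfl | ⟨rfl, hF⟩
    · exact fix_pow_range hp cs _ hq hB hd' hy
    · rw [pow_one]
      exact fix_range hp cs _ hq hB hd' hF hy
  have hgood : ∀ a, IsRoot cs hp.isCartan a → ¬ (r : ℤ) ∣ Gq B ((p ^ e : ℕ) : ℤ) a := fun a ha =>
    not_dvd_G hp cs hlin hc hR hfN hr hrN hqN hG ha
  have he0 : Function.Injective (emb (D := D) hp.inList (algebraMap F (AlgebraicClosure F))) :=
    emb_injective hp.inList _
  have hfix := phi_emb (k := AlgebraicClosure F) hp (algebraMap F (AlgebraicClosure F)) hq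
  obtain ⟨n, z, t, u, X⟩ := TD.exists_of (hp := hp) (cs := cs) (hN := nsys_of_locFin hp cs hk p) hl hk he isFrob_phi
    (fr_phi hp cs) hB hd' (w := cs.wordProd (L.map Prod.fst)) hc hfN hpN
  have hord : orderOf (z * t * z⁻¹) = N := by
    have h3 : z * t * z⁻¹ = MulAut.conj z t := rfl
    rw [h3, ← X.htN]
    exact orderOf_injective (MulAut.conj z).toMonoidHom (MulAut.conj z).injective t
  have hσz : phi D (AlgebraicClosure F) p e z = z * n := by rw [X.hz]; group
  have hσa : phi D (AlgebraicClosure F) p e (z * t * z⁻¹) = z * t * z⁻¹ := by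
    rw [map_mul, map_mul, map_inv, hσz]
    calc z * n * phi D (AlgebraicClosure F) p e t * (z * n)⁻¹ =
        z * (n * phi D (AlgebraicClosure F) p e t * n⁻¹) * z⁻¹ := by group
      _ = z * t * z⁻¹ := by rw [X.hτ]
  have h2 := dvd_card_T0 he0 (hd _ hσa)
  rw [hord] at h2
  have hrT : r ∣ Nat.card ↥(T0 (emb hp.inList (algebraMap F (AlgebraicClosure F))) (z * t * z⁻¹)) :=
    (hr.dvd_mul.1 (hrN.trans h2)).resolve_left hrd
  have : Finite ↥(D.group F) := inferInstance
  obtain ⟨g, hg1, hg2⟩ := centralizer_conj (isCyclic_T0 he0) hr hrT (fun y hy hyr =>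
    X.centralizer_le hk p hN0 he0 hfix hr hrW hgood hy hyr) hx
  have hfo : IsOfFinOrder (z * t * z⁻¹) := by
    rw [← orderOf_pos_iff, hord]
    exact Nat.pos_of_ne_zero hN0
  refine ⟨emb hp.inList (algebraMap F (AlgebraicClosure F)) g⁻¹ * z, t, u, X.ht, X.hu, X.hcX, X.htN,
    fun a hax => ?_⟩
  have haT := (hg2 a).1 (by rw [Subgroup.mem_centralizer_singleton_iff]; exact hax)
  obtain ⟨j, hj⟩ := (hfo.mem_powers_iff_mem_zpowers.2 haT)
  have hj' : (z * t * z⁻¹) ^ j = emb hp.inList (algebraMap F (AlgebraicClosure F)) (g * a * g⁻¹) := hj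
  have e1 : emb hp.inList (algebraMap F (AlgebraicClosure F)) (g * a * g⁻¹) = z * t ^ j * z⁻¹ := by
    rw [← hj', conj_pow]
  refine ⟨j, ?_⟩
  have e2 : emb hp.inList (algebraMap F (AlgebraicClosure F)) a =
      emb hp.inList (algebraMap F (AlgebraicClosure F)) g⁻¹ *
        emb hp.inList (algebraMap F (AlgebraicClosure F)) (g * a * g⁻¹) *
        emb hp.inList (algebraMap F (AlgebraicClosure F)) g := by
    rw [← map_mul, ← map_mul]
    congr 1
    group
  rw [e2, e1, map_inv]
  group

end Main

/-! ### the values of the roots at `-1` -/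

theorem val_neg_one : ∀ s : Fin chevE7.nroots, Gq DataE7h.B (-1) (vec chevE7 7 s) = 0 ∨
    Gq DataE7h.B (-1) (vec chevE7 7 s) = 1 ∨ Gq DataE7h.B (-1) (vec chevE7 7 s) = -1 := by decide +kernel

variable {F : Type u} [Field F] [Fintype F] {q : ℕ}

/-- **The torus of class 18 of `E₇(q)`.** -/
theorem diag_E7 (hq : Fintype.card F = q) {r : ℕ} (hr : Prim q 18 r) {x : ↥(chevE7.group F)} (hx : orderOf x = r) :
    ∃ (g t : ↥(chevE7.group (AlgebraicClosure F))) (u : AlgebraicClosure F), t ∈ TT chevE7 (AlgebraicClosure F) ∧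
      IsPrimitiveRoot u ((q + 1) * (q ^ 6 - q ^ 3 + 1)) ∧ (∀ y, cX typeE7 t y = u ^ Gq DataE7h.B (q : ℤ) y) ∧
      orderOf t = (q + 1) * (q ^ 6 - q ^ 3 + 1) ∧
      ∀ a, Commute a x → ∃ j : ℕ,
        emb typeE7.inList (algebraMap F (AlgebraicClosure F)) a = g * t ^ j * g⁻¹ := by
  have := finite_W7
  have h := prim_eighteen hr
  have hlt := prim_lt hr
  have h0 : q ^ 3 ≤ q ^ 6 := by
    have h1 : 1 ≤ q := by rw [← hq]; exact Fintype.card_pos
    exact Nat.pow_le_pow_right h1 (by norm_num)
  have hm : (((q + 1) * (q ^ 6 - q ^ 3 + 1) : ℕ) : ℤ) = (1 - (q : ℤ) ^ 3 + (q : ℤ) ^ 6) * ((q : ℤ) + 1) := by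
    push_cast [Nat.cast_sub h0]; ring
  refine diag_all typeE7 CoxeterMatrix.E₇.toCoxeterSystem (by norm_num) hq TorusChar.invC_E7 (by norm_num)
    DataE7h.hA DataE7h.chainOK DataE7h.cycOK DataE7h.rootOK (by rw [DataE7h.fN_eq, hm]; ring)
    (UntwData.coprime_of_eq (a := 1 - (q : ℤ) ^ 2 - (q : ℤ) ^ 3 + (q : ℤ) ^ 5 + (q : ℤ) ^ 6) (by rw [hm]; ring))
    (Or.inl rfl) hr.prime (dvd_of_int h hm) (fun h2 => by
      have := Nat.le_of_dvd (by norm_num) h2; omega)
    (not_dvd_W7 hr.prime (by omega) (by omega) (by omega) (by omega)) (fun s hs => ?_) hx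
  rcases DataE7h.dvd_of_G h s hs with h | h
  · exact not_one hr.prime h
  · exact not_prime hr.prime Nat.prime_three (by omega) h

end Cfsg.Agent.H318.Wei
end

-- part: H318/Wei/Norm
section
/-!
# The normaliser of the subgroups of `Z` in `E₇(q)` (helper318)

`norm_Z` : an element of `E₇(q)` normalising a nontrivial subgroup `⟨a⟩` of the cyclic group `Z` of order
`(q + 1) / (2, q - 1)` of the torus of class 18 centralises or inverts `Z`.
-/

set_option autoImplicit false
set_option linter.unusedSectionVars false

namespace Cfsg.Agent.H318.Wei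

open CoxeterSystem Cfsg Cfsg.Lie Cfsg.Lie.ChevalleyDatum
open Cfsg.Agent.ChevalleyStructure Cfsg.Agent.ChevalleyStructure.Elts Cfsg.Agent.ChevalleyStructure.CoxeterGeom
  Cfsg.Agent.ChevalleyStructure.CoxeterGeomTypes Cfsg.Agent.ChevalleyStructure.NPerm
open Cfsg.Agent.Tits.Roots Cfsg.Agent.Tits.Core Cfsg.Agent.Nodes Cfsg.Agent.Nodes.Reps Cfsg.Agent.Nodes.BNOf
  Cfsg.Agent.Nodes.RGDChev Cfsg.Agent.Nodes.Bruhat Cfsg.Agent.Nodes.SubComb Cfsg.Agent.Nodes.Coroot
open Cfsg.Agent.KFacts.RgdField Cfsg.Agent.KFacts.RgdChevCoord Cfsg.Agent.BpExc.TorCent Cfsg.Agent.BpExc.TorChev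
open Cfsg.Agent.GpExc.Field Cfsg.Agent.BpExc.Tow Cfsg.Agent.BpExc.TowChev Cfsg.Agent.BpExc.Fr
  Cfsg.Agent.BpExc.LangFr Cfsg.Agent.LangThm Cfsg.Agent.BpExc Cfsg.Agent.H129 Cfsg.Agent.H129.TorusChar
  Cfsg.Agent.H129.TorusCent Cfsg.Agent.H129.TorusTw Cfsg.Agent.H129.TorusMain Cfsg.Agent.H129.TorusUntw
  Cfsg.Agent.H129.TorAct Cfsg.Agent.H129.WData Cfsg.Agent.H129.UntwTwo Cfsg.Agent.H129.CycT Cfsg.Agent.H129.CycCard
  Cfsg.Agent.H129.RealT Cfsg.Agent.H129.CommDiag Cfsg.Agent.H129.E7Common Cfsg.Agent.H436

universe u

/-- the degree -/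
def dl (y : Fin 7 → ℤ) : ℤ := Gq DataE7h.B (-1) y

theorem dl_add (x y : Fin 7 → ℤ) : dl (x + y) = dl x + dl y := Gq_add _ _ _ _

theorem dl_zero : dl 0 = 0 := Gq_zero _ _

/-- the vector of a root -/
abbrev vv (s : ℕ) : Fin 7 → ℤ := vec chevE7 7 s

theorem tab_vec : vv 93 = sr 0 ∧ vv 73 = sr 2 ∧ vv 69 = sr 3 ∧ vv 64 = sr 5 ∧ vv 67 = sr 4 + sr 5 ∧
    vv 65 = sr 5 + sr 6 ∧ vv 80 = sr 1 + sr 3 + sr 4 := by decide +kernel

theorem tab_dl : dl (vv 93) = 0 ∧ dl (vv 73) = 0 ∧ dl (vv 69) = 0 ∧ dl (vv 64) = 1 ∧ dl (vv 67) = 0 ∧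
    dl (vv 65) = 0 ∧ dl (vv 80) = 0 := by decide +kernel

/-- an additive function vanishing on the roots of degree zero is a multiple of the degree -/
theorem lin_eq (μ : (Fin 7 → ℤ) →+ ℤ) (h : ∀ s < 126, dl (vv s) = 0 → μ (vv s) = 0) (x : Fin 7 → ℤ) :
    μ x = μ (vv 64) * dl x := by
  obtain ⟨v1, v2, v3, v4, v5, v6, v7⟩ := tab_vec
  obtain ⟨d1, d2, d3, d4, d5, d6, d7⟩ := tab_dl
  have m1 := h 93 (by norm_num) d1
  have m2 := h 73 (by norm_num) d2
  have m3 := h 69 (by norm_num) d3
  have m5 := h 67 (by norm_num) d5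
  have m6 := h 65 (by norm_num) d6
  have m7 := h 80 (by norm_num) d7
  rw [v1] at m1 d1
  rw [v2] at m2 d2
  rw [v3] at m3 d3
  rw [v4] at d4 ⊢
  rw [v5] at m5 d5
  rw [v6] at m6 d6
  rw [v7] at m7 d7
  simp only [map_add] at m5 m6 m7
  simp only [dl_add] at d5 d6 d7
  -- agreement on the simple roots
  have key : ∀ i : Fin 7, μ (sr i) = μ (sr 5) * dl (sr i) := by
    intro i
    have hi : i = 0 ∨ i = 1 ∨ i = 2 ∨ i = 3 ∨ i = 4 ∨ i = 5 ∨ i = 6 := by (revert i; simp only [_root_.Fin.forall_fin_succ, Fin.isValue, _root_.zero_ne_one, Fin.reduceEq, _root_.or_self, _root_.or_false, _root_.Fin.succ_ne_zero, _root_.false_or, _root_.Fin.succ_zero_eq_one, _root_.Fin.succ_one_eq_two, _root_.or_true, Fin.reduceSucc, _root_.IsEmpty.forall_iff, _root_.and_self])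
    rcases hi with rfl | rfl | rfl | rfl | rfl | rfl | rfl
    · rw [m1, d1, mul_zero]
    · have e1 : dl (sr 1 : Fin 7 → ℤ) = 1 := by omega
      rw [e1, mul_one]; omega
    · rw [m2, d2, mul_zero]
    · rw [m3, d3, mul_zero]
    · have e1 : dl (sr 4 : Fin 7 → ℤ) = -1 := by omega
      rw [e1]; omega
    · rw [d4, mul_one]
    · have e1 : dl (sr 6 : Fin 7 → ℤ) = -1 := by omega
      rw [e1]; omega
  let ν : (Fin 7 → ℤ) →+ ℤ :=
    { toFun := dl, map_zero' := dl_zero, map_add' := dl_add }
  have hx : x = ∑ i, x i • (sr i : Fin 7 → ℤ) := by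
    funext j
    rw [Finset.sum_apply, Finset.sum_eq_single j]
    · rw [Pi.smul_apply, sr_self, smul_eq_mul, mul_one]
    · intro i _ hij
      rw [Pi.smul_apply, sr_ne (Ne.symm hij), smul_zero]
    · exact fun h => absurd (Finset.mem_univ j) h
  have h1 : μ x = ∑ i, x i * μ (sr i) := by
    conv_lhs => rw [hx]
    rw [map_sum]
    exact Finset.sum_congr rfl fun i _ => by rw [map_zsmul, smul_eq_mul]
  have h2 : dl x = ∑ i, x i * dl (sr i) := by
    have : ν x = ∑ i, x i * ν (sr i) := by
      conv_lhs => rw [hx]
      rw [map_sum]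
      exact Finset.sum_congr rfl fun i _ => by rw [map_zsmul, smul_eq_mul]
    exact this
  rw [h1, h2, Finset.mul_sum]
  exact Finset.sum_congr rfl fun i _ => by rw [key i]; ring

section Conj

variable {k : Type u} [Field k]

local notation "cs7" => CoxeterMatrix.E₇.toCoxeterSystem

theorem dl_root {a : Fin 7 → ℤ} (ha : IsRoot cs7 typeE7.isCartan a) : dl a = 0 ∨ dl a = 1 ∨ dl a = -1 := by
  obtain ⟨s, hs, rfl⟩ := (isRoot_iff typeE7 cs7 a).1 ha
  exact val_neg_one ⟨s, hs⟩

/-- **Conjugation of powers.** -/
theorem conj_pm (hk : LocFin k) (p : ℕ) [Fact p.Prime] [CharP k p] {a b c : ↥(chevE7.group k)}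
    (ha : a ∈ TT chevE7 k) (hb : b ∈ TT chevE7 k) {η θ : k} {o : ℕ} (hη : IsPrimitiveRoot η o) (ho : 2 ≤ o)
    (hca : ∀ y, cX typeE7 a y = η ^ dl y) (hcb : ∀ y, cX typeE7 b y = θ ^ dl y) {m : ℕ}
    (hc : c * a = a ^ m * c) : c * b * c⁻¹ = b ∨ c * b * c⁻¹ = b⁻¹ := by
  have := finite_W7
  have H := tow typeE7 cs7 hk p
  have C := coordsL typeE7 cs7 hk p
  rw [← TL_eq typeE7 hk, ← XL_eq typeE7 hk] at C
  have ham : a ^ m ∈ TT chevE7 k := pow_mem ha m
  have ha' : a ∈ TL (Tj typeE7 (k := k)) := by rw [TL_eq typeE7 hk]; exact ha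
  have hb' : b ∈ TL (Tj typeE7 (k := k)) := by rw [TL_eq typeE7 hk]; exact hb
  have ham' : a ^ m ∈ TL (Tj typeE7 (k := k)) := by rw [TL_eq typeE7 hk]; exact ham
  have hcG : c ∈ GG cs7 typeE7.isCartan (TL (Tj typeE7 (k := k))) (XL (Xj typeE7)) := by
    rw [GG_eq_top typeE7 cs7 hk]; exact Subgroup.mem_top c
  obtain ⟨m', hm', w, n, hn, hna, e⟩ := BpExc.Fr.exists_form H C ha' ham' hcG hc
  have hη0 : η ≠ 0 := hη.ne_zero (by omega)
  have hnan : n * a * n⁻¹ = a ^ m := by rw [hna]; group
  -- the degree of `w⁻¹ β`
  have h1 : ∀ β, IsRoot cs7 typeE7.isCartan β → cX typeE7 (a ^ m) β = η ^ dl (rep cs7 typeE7.isCartan w⁻¹ β) := by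
    intro β hβ
    have h3 := C.chi_rp H.nsys hn (hβ.act w⁻¹) ha'
    rw [hnan, ← rep_mul_apply, mul_inv_cancel, map_one, Module.End.one_apply] at h3
    rw [cX_root typeE7 cs7 ham hβ, h3, ← cX_root typeE7 cs7 ha (hβ.act w⁻¹), hca]
  have hone : ∀ β, IsRoot cs7 typeE7.isCartan β → (η ^ dl β = 1 ↔ dl β = 0) := by
    intro β hβ
    constructor
    · intro h
      have h3 := (hη.zpow_eq_one_iff_dvd _).1 h
      rcases dl_root hβ with h4 | h4 | h4
      · exact h4
      · exfalso
        rw [h4] at h3
        have := Int.le_of_dvd (by norm_num) h3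
        omega
      · exfalso
        rw [h4, dvd_neg] at h3
        have := Int.le_of_dvd (by norm_num) h3
        omega
    · intro h
      rw [h, zpow_zero]
  let μ : (Fin 7 → ℤ) →+ ℤ :=
    { toFun := fun x => dl (rep cs7 typeE7.isCartan w⁻¹ x)
      map_zero' := by rw [map_zero, dl_zero]
      map_add' := fun x y => by rw [map_add, dl_add] }
  have hμ : ∀ x, μ x = dl (rep cs7 typeE7.isCartan w⁻¹ x) := fun _ => rfl
  have hroot : ∀ s < 126, IsRoot cs7 typeE7.isCartan (vv s) := fun s hs =>
    (isRoot_iff typeE7 cs7 _).2 ⟨s, hs, rfl⟩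
  have hlin := lin_eq μ (fun s hs h0 => by
    have h3 := h1 _ (hroot s hs)
    rw [cX_pow typeE7 ha, hca, h0, zpow_zero, one_pow] at h3
    rw [hμ]
    exact (hone _ ((hroot s hs).act w⁻¹)).1 h3.symm)
  have h64 : IsRoot cs7 typeE7.isCartan (vv 64) := hroot 64 (by norm_num)
  have hε : μ (vv 64) = 1 ∨ μ (vv 64) = -1 := by
    rcases dl_root (h64.act w⁻¹) with h3 | h3 | h3
    · exfalso
      have h4 := hlin (rep cs7 typeE7.isCartan w (vv 64))
      rw [hμ, hμ, h3, zero_mul, ← rep_mul_apply, inv_mul_cancel, map_one, Module.End.one_apply, tab_dl.2.2.2.1] at h4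
      exact one_ne_zero h4
    · exact Or.inl h3
    · exact Or.inr h3
  -- the root groups
  have hmb : m' * b = b * m' := by
    have h3 : BpExc.TorCent.MM cs7 typeE7.isCartan (XL (Xj typeE7 (k := k))) (ch typeE7) (a ^ m) ≤
        Subgroup.centralizer {b} := by
      refine RGD.Sup_le fun β hβ => ?_
      have hβr : IsRoot cs7 typeE7.isCartan β := hβ.1
      refine X_le_centralizer C hb' ⟨hβr, ?_⟩
      have h4 : cX typeE7 (a ^ m) β = 1 := by rw [cX_root typeE7 cs7 ham hβr]; exact hβ.2
      rw [h1 β hβr, hone _ (hβr.act w⁻¹), ← hμ, hlin β] at h4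
      have h5 : dl β = 0 := by
        rcases hε with h | h <;> rw [h] at h4 <;> omega
      rw [← cX_root typeE7 cs7 hb hβr, hcb, h5, zpow_zero]
    have h4 := h3 hm'
    rw [Subgroup.mem_centralizer_singleton_iff] at h4
    exact h4
  -- the Weyl group part
  have hnb : n * b * n⁻¹ ∈ TT chevE7 k := by
    have h3 := (Subgroup.mem_normalizer_iff.1 hn.mem_normalizer b).1 hb'
    rwa [TL_eq typeE7 hk] at h3
  have h5 : ∀ β, IsRoot cs7 typeE7.isCartan β → cX typeE7 (n * b * n⁻¹) β = θ ^ (μ (vv 64) * dl β) := by
    intro β hβ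
    have h3 := C.chi_rp H.nsys hn (hβ.act w⁻¹) hb'
    rw [← rep_mul_apply, mul_inv_cancel, map_one, Module.End.one_apply] at h3
    rw [cX_root typeE7 cs7 hnb hβ, h3, ← cX_root typeE7 cs7 hb (hβ.act w⁻¹), hcb, ← hμ, hlin β]
  have h6 : n * b * n⁻¹ = b ∨ n * b * n⁻¹ = b⁻¹ := by
    rcases hε with h | h
    · left
      refine cX_inj typeE7 hnb hb fun i => ?_
      rw [h5 _ (isRoot_sr cs7 typeE7.isCartan i), h, one_mul, hcb]
    · right
      refine cX_inj typeE7 hnb (inv_mem hb) fun i => ?_
      rw [h5 _ (isRoot_sr cs7 typeE7.isCartan i), h]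
      have h7 : cX typeE7 b (sr i) * cX typeE7 b⁻¹ (sr i) = 1 := by
        rw [← cX_mul typeE7 hb (inv_mem hb), mul_inv_cancel, cX_one]
      rw [hcb] at h7
      rw [neg_one_mul, zpow_neg]
      exact (eq_inv_of_mul_eq_one_right h7).symm
  rw [e]
  have h7 : m' * n * b * (m' * n)⁻¹ = m' * (n * b * n⁻¹) * m'⁻¹ := by group
  rw [h7]
  rcases h6 with h | h
  · left
    rw [h, hmb]; group
  · right
    rw [h]
    have h8 : m' * b⁻¹ = b⁻¹ * m' := by
      calc m' * b⁻¹ = b⁻¹ * (b * m') * b⁻¹ := by group
        _ = b⁻¹ * (m' * b) * b⁻¹ := by rw [hmb]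
        _ = b⁻¹ * m' := by group
    rw [h8]; group

end Conj

variable {F : Type u} [Field F] [Fintype F] {q : ℕ}

/-- **The normaliser of a nontrivial subgroup of `Z`.** -/
theorem norm_Z (hq : Fintype.card F = q) {r : ℕ} (hr : Prim q 18 r) {x : ↥(chevE7.group F)} (hx : orderOf x = r)
    {a h b : ↥(chevE7.group F)} (ha : Commute a x) (ha1 : a ≠ 1) (haq : orderOf a ∣ q + 1)
    (hh : h * a * h⁻¹ ∈ Subgroup.zpowers a) (hb : Commute b x) (hbq : orderOf b ∣ q + 1) :
    h * b * h⁻¹ = b ∨ h * b * h⁻¹ = b⁻¹ := by
  obtain ⟨g, t, u, ht, hu, hcX, htN, hall⟩ := diag_E7 hq hr hx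
  obtain ⟨j, hj⟩ := hall a ha
  obtain ⟨j', hj'⟩ := hall b hb
  obtain ⟨p, e, hpF, hpc, hpk, he, hqp, hk⟩ := _root_.Cfsg.Agent.H129.TorusUntw.exists_closure hq
  set E := emb (D := chevE7) typeE7.inList (algebraMap F (AlgebraicClosure F)) with hE
  have hEi : Function.Injective E := emb_injective typeE7.inList _
  have hfin : Finite ↥(chevE7.group F) := inferInstance
  -- orders
  have hord : ∀ (y : ↥(chevE7.group F)) (i : ℕ), E y = g * t ^ i * g⁻¹ → orderOf (t ^ i) = orderOf y := by
    intro y i hy
    have h1 : orderOf (E y) = orderOf y := orderOf_injective E hEi y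
    have h2 : g * t ^ i * g⁻¹ = MulAut.conj g (t ^ i) := rfl
    rw [← h1, hy, h2]
    exact (orderOf_injective (MulAut.conj g).toMonoidHom (MulAut.conj g).injective (t ^ i)).symm
  have hval : ∀ i : ℕ, orderOf (t ^ i) ∣ q + 1 → ∀ y, cX typeE7 (t ^ i) y = (u ^ i) ^ dl y := by
    intro i hi y
    have h1 : (u ^ i) ^ (q + 1) = 1 := by
      rw [← pow_mul, hu.pow_eq_one_iff_dvd, ← htN]
      apply orderOf_dvd_of_pow_eq_one
      rw [pow_mul]
      exact orderOf_dvd_iff_pow_eq_one.1 hi
    obtain ⟨c, hc⟩ := gq_neg_one DataE7h.B (t := q + 1) (q := (q : ℤ)) (by push_cast; exact dvd_refl _) y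
    have hu0 : u ^ i ≠ 0 := pow_ne_zero _ (hu.ne_zero (by (clear * -; positivity)))
    have h2 : Gq DataE7h.B (q : ℤ) y = dl y + ((q + 1 : ℕ) : ℤ) * c := by
      unfold dl
      rw [← hc]; ring
    rw [cX_pow typeE7 ht, hcX, ← zpow_natCast, ← zpow_mul, mul_comm, zpow_mul, zpow_natCast, h2, zpow_add₀ hu0,
      zpow_mul, zpow_natCast, h1, one_zpow, mul_one]
  have hoa := hord a j hj
  have hob := hord b j' hj'
  have hj0 : j ≠ 0 := by
    rintro rfl
    rw [pow_zero, orderOf_one] at hoa
    exact ha1 (orderOf_eq_one_iff.1 hoa.symm)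
  have hη : IsPrimitiveRoot (u ^ j) (orderOf a) := by
    have h1 : orderOf (u ^ j) = orderOf a := by
      rw [← hoa, orderOf_pow' u hj0, orderOf_pow' t hj0, ← hu.eq_orderOf, htN]
    rw [← h1]
    exact IsPrimitiveRoot.orderOf _
  have ho2 : 2 ≤ orderOf a := by
    have h1 := (orderOf_pos a :)
    have h2 : orderOf a ≠ 1 := fun h => ha1 (orderOf_eq_one_iff.1 h)
    omega
  -- the conjugating element
  obtain ⟨m, hm⟩ := (isOfFinOrder_of_finite a).mem_powers_iff_mem_zpowers.2 hh
  have hm' : a ^ m = h * a * h⁻¹ := hm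
  have hc : (g⁻¹ * E h * g) * t ^ j = (t ^ j) ^ m * (g⁻¹ * E h * g) := by
    have h1 : E h * E a = E a ^ m * E h := by
      rw [← map_mul, ← map_pow, hm', ← map_mul]
      congr 1
      group
    have h2 : t ^ j = g⁻¹ * E a * g := by rw [hj]; group
    have h3 : (t ^ j) ^ m = g⁻¹ * E a ^ m * g := by
      rw [h2]
      have := conj_pow (a := g⁻¹) (b := E a) (i := m)
      rw [inv_inv] at this
      exact this
    rw [h3]
    nth_rewrite 1 [h2]
    calc g⁻¹ * E h * g * (g⁻¹ * E a * g) = g⁻¹ * (E h * E a) * g := by group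
      _ = g⁻¹ * (E a ^ m * E h) * g := by rw [h1]
      _ = _ := by group
  have h4 := conj_pm hk p (pow_mem ht j) (pow_mem ht j') hη ho2 (hval j (by rw [hoa]; exact haq))
    (hval j' (by rw [hob]; exact hbq)) hc
  have e1 : E (h * b * h⁻¹) = g * ((g⁻¹ * E h * g) * t ^ j' * (g⁻¹ * E h * g)⁻¹) * g⁻¹ := by
    rw [map_mul, map_mul, map_inv, hj']; group
  rcases h4 with h4 | h4
  · left
    apply hEi
    rw [e1, h4, hj']
  · right
    apply hEi
    rw [e1, h4, map_inv, hj']; group

end Cfsg.Agent.H318.Wei
end

-- part: H318/Wei/T18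
section
/-!
# The torus of class 18 of `E₇(q)` (helper318)

* `torus18` : a cyclic subgroup `T` of order `(q + 1)(q⁶ - q³ + 1) / (2, q - 1)` containing the centralisers of its
  elements of order `r`, `r` a primitive prime divisor of `q¹⁸ - 1`, and inverted by an element;
* `inv18` : every element of that order is inverted.
-/

set_option autoImplicit false
set_option linter.unusedSectionVars false

namespace Cfsg.Agent.H318.Wei

open Cfsg Cfsg.Lie Cfsg.Agent.H129 Cfsg.Agent.H129.TorusTw Cfsg.Agent.H129.RealT Cfsg.Agent.H129.CycCard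
  Cfsg.Agent.H129.CycT Cfsg.Agent.H129.CommDiag Cfsg.Agent.H129.E7Common Cfsg.Agent.H436 Cfsg.Agent.H101.RO
  Cfsg.Agent.H563.KG Cfsg.Agent.Nodes.RGDChev Cfsg.Agent.H56.Exc

universe u

variable {F : Type u} [Field F] [Fintype F] {q : ℕ}

theorem finE7 : Finite CoxeterMatrix.E₇.Group := Nat.finite_of_card_ne_zero (by rw [cardW_E7]; norm_num)

theorem gcd_two {q : ℕ} (hq : 2 ≤ q) : Nat.gcd 2 (q - 1) = if Odd q then 2 else 1 := by
  split_ifs with h
  · obtain ⟨m, hm⟩ := h
    exact Nat.gcd_eq_left ⟨m, by omega⟩
  · rw [Nat.not_odd_iff_even] at h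
    obtain ⟨m, hm⟩ := h
    rw [← Nat.coprime_iff_gcd_eq_one, Nat.Prime.coprime_iff_not_dvd Nat.prime_two]
    omega

/-- **The torus of class 18.** -/
theorem torus18 (hF : Fintype.card F = q) : ∃ T : Subgroup ↥(chevE7.group F), IsCyclic ↥T ∧
    Nat.gcd 2 (q - 1) * Nat.card ↥T = (q + 1) * (q ^ 6 - q ^ 3 + 1) ∧
    (∀ r, Prim q 18 r → ∀ y ∈ T, orderOf y = r → Subgroup.centralizer {y} ≤ T) ∧
    ∃ w : ↥(chevE7.group F), ∀ b ∈ T, w * b * w⁻¹ = b⁻¹ := by
  have := finE7
  have hq2 : 2 ≤ q := by rw [← hF]; exact Fintype.one_lt_card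
  have hp : IsType Cfsg.Lie.chevE7 7 CoxeterMatrix.E₇ := by simp
  have h0 : q ^ 3 ≤ q ^ 6 := Nat.pow_le_pow_right (by omega) (by norm_num)
  have hN18 : (((q + 1) * (q ^ 6 - q ^ 3 + 1) : ℕ) : ℤ) =
      1 + (q : ℤ) - (q : ℤ) ^ 3 - (q : ℤ) ^ 4 + (q : ℤ) ^ 6 + (q : ℤ) ^ 7 := by
    push_cast [Nat.cast_sub h0]; ring
  have hq18 : q.Coprime ((q + 1) * (q ^ 6 - q ^ 3 + 1)) :=
    UntwData.coprime_of_eq (a := 1 - (q : ℤ) ^ 2 - (q : ℤ) ^ 3 + (q : ℤ) ^ 5 + (q : ℤ) ^ 6) (by rw [hN18]; ring)
  obtain ⟨r, hr⟩ := exists_prim hq2 (show 3 ≤ 18 by norm_num) (by omega)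
  have key : ∀ r, Prim q 18 r → ¬ r ∣ Nat.card CoxeterMatrix.E₇.Group ∧
      ∀ s, ¬ (r : ℤ) ∣ Gq DataE7h.B (q : ℤ) (DataE7h.R s) := by
    intro r hr
    have hlt := E7Common.prim_lt hr
    refine ⟨not_dvd_W7 hr.prime (by omega) (by omega) (by omega) (by omega), fun s hs => ?_⟩
    rcases DataE7h.dvd_of_G (prim_eighteen hr) s hs with h | h
    · exact not_one hr.prime h
    · exact not_prime hr.prime Nat.prime_three (by omega) h
  have hrN : r ∣ (q + 1) * (q ^ 6 - q ^ 3 + 1) := by
    have h1 : (r : ℤ) ∣ (((q + 1) * (q ^ 6 - q ^ 3 + 1) : ℕ) : ℤ) := by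
      rw [hN18]
      have := (prim_eighteen hr).mul_right ((q : ℤ) + 1)
      have e : (1 - (q : ℤ) ^ 3 + (q : ℤ) ^ 6) * ((q : ℤ) + 1) =
        1 + (q : ℤ) - (q : ℤ) ^ 3 - (q : ℤ) ^ 4 + (q : ℤ) ^ 6 + (q : ℤ) ^ 7 := by ring
      rwa [e] at this
    exact Int.natCast_dvd_natCast.1 h1
  rw [gcd_two hq2]
  rcases Nat.even_or_odd q with he | ho
  · rw [if_neg (Nat.not_odd_iff_even.2 he)]
    obtain ⟨T, h1, h3, h4, h5, h6⟩ := UntwT.untw_T hp CoxeterMatrix.E₇.toCoxeterSystem (by norm_num) hF
      TorusChar.invC_E7 (by norm_num) DataE7h.hA DataE7h.chainOK DataE7h.cycOK DataE7h.rootOK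
      (N := (q + 1) * (q ^ 6 - q ^ 3 + 1))
      (by rw [DataE7h.fN_eq, hN18]) hq18 (d := 1) (Or.inr ⟨rfl, sq_surj hF he⟩)
    refine ⟨T, h1, ?_, fun r hr => h5 r hr.prime (key r hr).1 (key r hr).2, ?_⟩
    · rw [one_mul]
      rw [one_mul] at h4
      exact Nat.dvd_antisymm h3 h4
    · obtain ⟨y, hy⟩ := h6 r hr.prime hrN (key r hr).1 (key r hr).2
      refine ⟨y ^ 9, fun b hb => ?_⟩
      refine inv_of_act (r := (q + 1) * (q ^ 6 - q ^ 3 + 1)) (j := 9) ?_ hy hb ?_
      · have h7 : (((q + 1) * (q ^ 6 - q ^ 3 + 1) : ℕ) : ℤ) ∣ (((q ^ 1) ^ 9 + 1 : ℕ) : ℤ) := by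
          refine ⟨(q : ℤ) ^ 2 - q + 1, ?_⟩
          rw [hN18]
          push_cast
          ring
        exact Int.natCast_dvd_natCast.1 h7
      · refine dvd_trans ?_ h3
        have := orderOf_dvd_natCard (⟨b, hb⟩ : ↥T)
        rwa [Subgroup.orderOf_mk] at this
  · rw [if_pos ho]
    obtain ⟨T, h1, h3, h5, h6⟩ := HalfT.half_E7 hF ho hp DataE7h.hA DataE7h.chainOK DataE7h.cycOK DataE7h.rootOK
      (N := (q + 1) * (q ^ 6 - q ^ 3 + 1)) (by rw [DataE7h.fN_eq, hN18]) hq18
    exact ⟨T, h1, h3, fun r hr => h5 r hr.prime (key r hr).1 (key r hr).2, h6 ⟨r, hr.prime, hrN, (key r hr).1, (key r hr).2⟩⟩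

/-- the elements of the order of the torus are inverted, and generate the centralisers of their powers of class 18 -/
theorem inv18 (hF : Fintype.card F = q) {x : ↥(chevE7.group F)}
    (hx : Nat.gcd 2 (q - 1) * orderOf x = (q + 1) * (q ^ 6 - q ^ 3 + 1)) :
    (∃ w : ↥(chevE7.group F), w * x * w⁻¹ = x⁻¹) ∧
      ∀ r, Prim q 18 r → ∀ y ∈ Subgroup.zpowers x, orderOf y = r → Subgroup.centralizer {y} = Subgroup.zpowers x := by
  have hfin : Finite ↥(chevE7.group F) := inferInstance
  have hq2 : 2 ≤ q := by rw [← hF]; exact Fintype.one_lt_card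
  obtain ⟨T, h1, h2, h3, w, hw⟩ := torus18 hF
  have hd : 0 < Nat.gcd 2 (q - 1) := Nat.gcd_pos_of_pos_left _ (by norm_num)
  have hcard : Nat.card ↥T = orderOf x := Nat.eq_of_mul_eq_mul_left hd (h2.trans hx.symm)
  have hle : ∀ r, Prim q 18 r → ∀ y ∈ Subgroup.zpowers x, orderOf y = r → ∃ g : ↥(chevE7.group F),
      Subgroup.centralizer {g * y * g⁻¹} ≤ T ∧ g * x * g⁻¹ ∈ T := by
    intro r hr y hy hyr
    have hrT : r ∣ Nat.card ↥T := by
      rw [hcard, ← hyr]
      exact orderOf_dvd_of_mem_zpowers hy
    obtain ⟨g, hg⟩ := Cfsg.Agent.H763.Wei.conj_into h1 hr.prime hrT (h3 r hr) hyr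
    have ho : orderOf (g * y * g⁻¹) = r := by
      rw [← hyr, ← MulAut.conj_apply]
      exact (MulAut.conj g).orderOf_eq y
    refine ⟨g, h3 r hr _ hg ho, h3 r hr _ hg ho ?_⟩
    rw [Subgroup.mem_centralizer_singleton_iff]
    obtain ⟨k, rfl⟩ := hy
    have h4 : Commute x (x ^ k) := (Commute.refl x).zpow_right k
    calc g * x * g⁻¹ * (g * x ^ k * g⁻¹) = g * (x * x ^ k) * g⁻¹ := by group
      _ = g * (x ^ k * x) * g⁻¹ := by rw [h4.eq]
      _ = _ := by group
  have hgen : ∀ {g : ↥(chevE7.group F)}, g * x * g⁻¹ ∈ T → T = Subgroup.zpowers (g * x * g⁻¹) := by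
    intro g hg
    refine (Subgroup.eq_of_le_of_card_ge (by rwa [Subgroup.zpowers_le]) ?_).symm
    rw [hcard, Nat.card_zpowers, ← MulAut.conj_apply, (MulAut.conj g).orderOf_eq x]
  constructor
  · obtain ⟨r, hr⟩ := exists_prim hq2 (show 3 ≤ 18 by norm_num) (by omega)
    have hrx : r ∣ orderOf x := by
      have h4 : r ∣ Nat.gcd 2 (q - 1) * orderOf x := by
        rw [hx]
        have h0 : q ^ 3 ≤ q ^ 6 := Nat.pow_le_pow_right (by omega) (by norm_num)
        have h5 : (r : ℤ) ∣ (((q + 1) * (q ^ 6 - q ^ 3 + 1) : ℕ) : ℤ) := by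
          push_cast [Nat.cast_sub h0]
          have := (prim_eighteen hr).mul_left ((q : ℤ) + 1)
          have e : ((q : ℤ) + 1) * (1 - (q : ℤ) ^ 3 + (q : ℤ) ^ 6) = (q + 1) * (q ^ 6 - q ^ 3 + 1) := by ring
          rwa [e] at this
        exact Int.natCast_dvd_natCast.1 h5
      refine (hr.prime.dvd_mul.1 h4).resolve_left fun h5 => ?_
      have h6 := Nat.le_of_dvd (by norm_num) (h5.trans (Nat.gcd_dvd_left _ _))
      have := E7Common.prim_lt hr
      omega
    obtain ⟨y, hy, hyr⟩ : ∃ y ∈ Subgroup.zpowers x, orderOf y = r := by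
      obtain ⟨k, hk⟩ := hrx
      have h0 : 0 < orderOf x := (orderOf_pos x :)
      have hk0 : k ≠ 0 := by rintro rfl; omega
      refine ⟨x ^ k, ⟨k, zpow_natCast x k⟩, ?_⟩
      rw [orderOf_pow_of_dvd hk0 (by rw [hk]; exact dvd_mul_left _ _), hk, Nat.mul_div_cancel _ (Nat.pos_of_ne_zero hk0)]
    obtain ⟨g, -, hg⟩ := hle r hr y hy hyr
    refine ⟨g⁻¹ * w * g, ?_⟩
    have h4 := hw _ hg
    calc g⁻¹ * w * g * x * (g⁻¹ * w * g)⁻¹ = g⁻¹ * (w * (g * x * g⁻¹) * w⁻¹) * g := by group
      _ = g⁻¹ * (g * x * g⁻¹)⁻¹ * g := by rw [h4]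
      _ = _ := by group
  · intro r hr y hy hyr
    obtain ⟨g, hg1, hg2⟩ := hle r hr y hy hyr
    refine le_antisymm (fun z hz => ?_) fun z hz => ?_
    · have h4 : g * z * g⁻¹ ∈ T := by
        apply hg1
        rw [Subgroup.mem_centralizer_singleton_iff] at hz ⊢
        calc g * z * g⁻¹ * (g * y * g⁻¹) = g * (z * y) * g⁻¹ := by group
          _ = g * (y * z) * g⁻¹ := by rw [hz]
          _ = _ := by group
      rw [hgen hg2] at h4
      obtain ⟨k, hk⟩ := h4
      refine ⟨k, ?_⟩
      have hk' : (g * x * g⁻¹) ^ k = g * z * g⁻¹ := hk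
      rw [conj_zpow] at hk'
      have h5 := congrArg (fun a => g⁻¹ * a * g) hk'
      simpa only [mul_assoc, _root_.inv_mul_cancel_left, _root_.inv_mul_cancel, _root_.mul_one] using h5
    · rw [Subgroup.mem_centralizer_singleton_iff]
      obtain ⟨i, rfl⟩ := hz
      obtain ⟨j, rfl⟩ := hy
      exact (((Commute.refl x).zpow_right j).zpow_left i).eq

end Cfsg.Agent.H318.Wei
end

-- part: H540/E72/Fix
section
/-!
# Fixed spaces of subgroups of odd order in the 56-dimensional module, in integers (S5935)

* `fix_nat` : `∑_{k ∈ K} bc(f k) = d |K|`, `d ≤ n`, for `K` of odd order.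
* `Tr t`    : an integer valued function `t` on `S` with the values of the Brauer character at the elements of order
  1, 3, 5, 7, 13 and the divisibility property for the subgroups whose elements have these orders.
* `exists_tr` : `Adm S → ∃ t, Tr t`.
-/

set_option autoImplicit false

namespace Cfsg.Agent.H540.E72

open Cfsg IsLocalRing Module Cfsg.Agent.H657 Cfsg.Agent.H943.E7V

variable {M : Ideal AlgInt} {V : ValuationSubring ℂ} {S : Type*} [Group S]

/-- the dimension of the fixed space of a group of odd order -/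
theorem fix_nat (hM : IsPModular 2 M) (hV : Above M V) {n : ℕ}
    (σ : Representation (ResidueField V) S (Fin n → ResidueField V)) {K : Type*} [Group K] [Fintype K]
    (hK : ¬ 2 ∣ Nat.card K) (f : K →* S) :
    ∃ d : ℕ, d ≤ n ∧ ∑ k : K, bc 2 σ (f k) = (d : ℂ) * Nat.card K := by
  obtain ⟨d, h1, h2⟩ := H484.Pos.pos hM hV (σ.comp f) Characters.Core.isIrr_one (fun g hg => by
    exfalso
    apply hg
    intro h
    exact hK (h.trans (orderOf_dvd_natCard g)))
  refine ⟨d, h1, ?_⟩
  rw [Nat.card_eq_fintype_card, h2]
  simp only [Pi.one_apply, mul_one, one_mul]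
  rfl

/-- the orders at which the values are recorded -/
def Ok (n : ℕ) : Prop := n = 1 ∨ n = 3 ∨ n = 5 ∨ n = 7 ∨ n = 13

/-- the values of the 56-dimensional module of `E₇(2)`, in integers -/
structure Tr (t : S → ℤ) : Prop where
  one : t 1 = 56
  conj : ∀ g h : S, t (g * h * g⁻¹) = t h
  three : ∀ g, orderOf g = 3 → t g = 2 ∨ t g = 20 ∨ t g = -7 ∨ t g = -25
  five : ∀ g, orderOf g = 5 → t g = 6
  seven : ∀ g, orderOf g = 7 → t g = 14 ∨ t g = 0 ∨ t g = -7
  thirteen : ∀ g, orderOf g = 13 → t g = 4
  inv : ∀ g, orderOf g = 3 → t g⁻¹ = t g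
  seven_pow : ∀ g, orderOf g = 7 → ∀ j : ℕ, Nat.Coprime j 7 → t (g ^ j) = t g
  /-- the fixed space of a subgroup of odd order with elements of orders 1, 3, 5, 7, 13 -/
  fix : ∀ (K : Type) [Group K] [Fintype K] (f : K →* S), Function.Injective f → ¬ 2 ∣ Nat.card K →
    (∀ k : K, Ok (orderOf k)) → ∃ d : ℕ, d ≤ 56 ∧ ∑ k : K, t (f k) = (d : ℤ) * Nat.card K
  /-- the same for subgroups -/
  fix' : ∀ (K : Subgroup S) [Fintype K], ¬ 2 ∣ Nat.card K →
    (∀ k ∈ K, Ok (orderOf k)) → ∃ d : ℕ, d ≤ 56 ∧ ∑ k : K, t (k : S) = (d : ℤ) * Nat.card K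

theorem fix_int (hM : IsPModular 2 M) (hV : Above M V) {n : ℕ}
    (σ : Representation (ResidueField V) S (Fin n → ResidueField V)) {t : S → ℤ}
    (ht : ∀ g, Ok (orderOf g) → bc 2 σ g = t g) {K : Type*} [Group K] [Fintype K] (f : K →* S)
    (hf : Function.Injective f) (hK : ¬ 2 ∣ Nat.card K) (hok : ∀ k : K, Ok (orderOf k)) :
    ∃ d : ℕ, d ≤ n ∧ ∑ k : K, t (f k) = (d : ℤ) * Nat.card K := by
  obtain ⟨d, h1, h2⟩ := fix_nat hM hV σ hK f
  refine ⟨d, h1, ?_⟩
  have h3 : ∑ k : K, bc 2 σ (f k) = ((∑ k : K, t (f k) : ℤ) : ℂ) := by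
    push_cast
    refine Finset.sum_congr rfl fun k _ => ht _ ?_
    rw [orderOf_injective f hf]
    exact hok k
  rw [h3] at h2
  exact_mod_cast h2

theorem exists_tr (h : Adm S) : ∃ t : S → ℤ, Tr t := by
  classical
  obtain ⟨M, V, hM, hV, σ, H⟩ := h
  have hex : ∀ g : S, Ok (orderOf g) → ∃ z : ℤ, bc 2 σ g = z := by
    intro g hg
    rcases hg with h | h | h | h | h
    · rw [orderOf_eq_one_iff] at h
      exact ⟨56, by rw [h, H.one]; norm_num⟩
    · rcases H.three g h with h | h | h | h
      · exact ⟨2, by rw [h]; norm_num⟩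
      · exact ⟨20, by rw [h]; norm_num⟩
      · exact ⟨-7, by rw [h]; norm_num⟩
      · exact ⟨-25, by rw [h]; norm_num⟩
    · exact ⟨6, by rw [H.five g h]; norm_num⟩
    · rcases H.seven g h with h | h | h
      · exact ⟨14, by rw [h]; norm_num⟩
      · exact ⟨0, by rw [h]; norm_num⟩
      · exact ⟨-7, by rw [h]; norm_num⟩
    · exact ⟨4, by rw [H.thirteen g h]; norm_num⟩
  let t : S → ℤ := fun g => if hg : ∃ z : ℤ, bc 2 σ g = z then hg.choose else 0
  have ht : ∀ g, Ok (orderOf g) → bc 2 σ g = t g := by
    intro g hg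
    have h1 : ∃ z : ℤ, bc 2 σ g = z := hex g hg
    have h2 : t g = h1.choose := dif_pos h1
    rw [h2]
    exact h1.choose_spec
  refine ⟨t, ?_, ?_, ?_, ?_, ?_, ?_, ?_, ?_, ?_, ?_⟩
  · have h1 := ht 1 (Or.inl orderOf_one)
    rw [H.one] at h1
    exact_mod_cast h1.symm
  · intro g h
    have h1 : bc 2 σ (g * h * g⁻¹) = bc 2 σ h := bc_conj 2 σ h g
    show (if hg : ∃ z : ℤ, bc 2 σ (g * h * g⁻¹) = z then hg.choose else 0) = t h
    simp only [h1]
    rfl
  · intro g hg
    have h1 := ht g (Or.inr (Or.inl hg))
    rcases H.three g hg with h | h | h | h <;> rw [h] at h1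
    · left; exact_mod_cast h1.symm
    · right; left; exact_mod_cast h1.symm
    · right; right; left; exact_mod_cast h1.symm
    · right; right; right; exact_mod_cast h1.symm
  · intro g hg
    have h1 := ht g (Or.inr (Or.inr (Or.inl hg)))
    rw [H.five g hg] at h1
    exact_mod_cast h1.symm
  · intro g hg
    have h1 := ht g (Or.inr (Or.inr (Or.inr (Or.inl hg))))
    rcases H.seven g hg with h | h | h <;> rw [h] at h1
    · left; exact_mod_cast h1.symm
    · right; left; exact_mod_cast h1.symm
    · right; right; exact_mod_cast h1.symm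
  · intro g hg
    have h1 := ht g (Or.inr (Or.inr (Or.inr (Or.inr hg))))
    rw [H.thirteen g hg] at h1
    exact_mod_cast h1.symm
  · intro g hg
    have h1 := ht g (Or.inr (Or.inl hg))
    have h2 := ht g⁻¹ (Or.inr (Or.inl (by rw [orderOf_inv, hg])))
    rw [H.three_inv g hg, h1] at h2
    exact_mod_cast h2.symm
  · intro g hg j hj
    have h1 := ht g (Or.inr (Or.inr (Or.inr (Or.inl hg))))
    have h2 := ht (g ^ j) (Or.inr (Or.inr (Or.inr (Or.inl (by
      rw [Nat.Coprime.orderOf_pow (by rw [hg]; exact hj.symm), hg])))))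
    rw [H.seven_pow g hg j hj, h1] at h2
    exact_mod_cast h2.symm
  · intro K _ _ f hf hK hok
    exact fix_int hM hV σ ht f hf hK hok
  · intro K _ hK hok
    exact fix_int hM hV σ ht K.subtype K.subtype_injective hK (fun k => by
      rw [← Subgroup.orderOf_coe]
      exact hok k k.2)

end Cfsg.Agent.H540.E72
end

-- part: H318/Wei/Seven
section
/-!
# No group `7³ : 19` in `E₇(2)` (helper318)

`no_seven` : an elementary abelian subgroup of order `7³` of `E₇(2)` is not normalised by an element of order 19 without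
fixed points in it (the 56-dimensional module).
-/

set_option autoImplicit false

namespace Cfsg.Agent.H318.Wei

open Cfsg Cfsg.Agent.H943.E7V Cfsg.Agent.H540.E72

section Count

variable {G : Type*} [Group G] [Finite G]

/-- the number of elements `a ≠ 1` of `R` with `t a = v` is divisible by `19` -/
theorem dvd_count (t : G → ℤ) (ht : ∀ g h : G, t (g * h * g⁻¹) = t h) (R : Subgroup G) {y : G} (hy : orderOf y = 19)
    (hyR : y ∈ Subgroup.normalizer (R : Set G)) (hfix : ∀ a ∈ R, Commute y a → a = 1) (v : ℤ) :
    19 ∣ Nat.card {a : G // a ∈ R ∧ a ≠ 1 ∧ t a = v} := by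
  have h19 : Fact (Nat.Prime 19) := ⟨by norm_num⟩
  have hle : Subgroup.zpowers y ≤ Subgroup.normalizer (R : Set G) := by rwa [Subgroup.zpowers_le]
  let act : MulAction (Subgroup.zpowers y) {a : G // a ∈ R ∧ a ≠ 1 ∧ t a = v} :=
    { smul := fun g a => ⟨g * a * (g : G)⁻¹, (Subgroup.mem_normalizer_iff.1 (hle g.2) a).1 a.2.1, by
        intro h
        apply a.2.2.1
        have h2 := congrArg (fun z => (g : G)⁻¹ * z * g) h
        simpa only [mul_assoc, _root_.ne_eq, _root_.inv_mul_cancel_left, _root_.inv_mul_cancel, _root_.mul_one] using h2, by rw [ht]; exact a.2.2.2⟩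
      one_smul := fun a => by
        apply Subtype.ext
        show ((1 : Subgroup.zpowers y) : G) * a * ((1 : Subgroup.zpowers y) : G)⁻¹ = a
        simp only [_root_.OneMemClass.coe_one, _root_.ne_eq, _root_.one_mul, _root_.inv_one, _root_.mul_one]
      mul_smul := fun g h a => by
        apply Subtype.ext
        show ((g * h : Subgroup.zpowers y) : G) * a * ((g * h : Subgroup.zpowers y) : G)⁻¹ =
          g * (h * a * (h : G)⁻¹) * (g : G)⁻¹
        rw [Subgroup.coe_mul]
        group }
  have hP : IsPGroup 19 (Subgroup.zpowers y) := IsPGroup.of_card (n := 1) (by rw [Nat.card_zpowers, hy, pow_one])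
  have h1 := hP.card_modEq_card_fixedPoints {a : G // a ∈ R ∧ a ≠ 1 ∧ t a = v}
  have h2 : Nat.card (MulAction.fixedPoints (Subgroup.zpowers y) {a : G // a ∈ R ∧ a ≠ 1 ∧ t a = v}) = 0 := by
    rw [Nat.card_eq_zero]
    left
    refine ⟨fun a => ?_⟩
    have h3 := congrArg Subtype.val (a.2 ⟨y, Subgroup.mem_zpowers y⟩)
    have h4 : y * (a.1 : G) * y⁻¹ = (a.1 : G) := h3
    exact a.1.2.2.1 (hfix _ a.1.2.1 (by rwa [mul_inv_eq_iff_eq_mul] at h4))
  rw [h2] at h1
  exact (Nat.modEq_zero_iff_dvd).1 h1

theorem no_seven (hA : Adm G) (R : Subgroup G) (h7 : ∀ a ∈ R, a ^ 7 = 1) (hcard : Nat.card R = 343) {y : G}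
    (hy : orderOf y = 19) (hyR : y ∈ Subgroup.normalizer (R : Set G)) (hfix : ∀ a ∈ R, Commute y a → a = 1) : False := by
  classical
  obtain ⟨t, ht⟩ := exists_tr hA
  have : Fintype R := Fintype.ofFinite _
  have ho : ∀ k ∈ R, k ≠ 1 → orderOf k = 7 := by
    intro k hk h1
    have h2 := orderOf_dvd_of_pow_eq_one (h7 k hk)
    rcases (Nat.dvd_prime (by norm_num)).1 h2 with h | h
    · exact absurd (orderOf_eq_one_iff.1 h) h1
    · exact h
  obtain ⟨d, hd, hsum⟩ := ht.fix' R (by rw [hcard]; norm_num) fun k hk => by
    by_cases h1 : k = 1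
    · left; rw [h1, orderOf_one]
    · right; right; right; left; exact ho k hk h1
  rw [hcard] at hsum
  set A := Finset.univ.filter (fun k : R => (k : G) ≠ 1 ∧ t k = 14) with hAd
  set B := Finset.univ.filter (fun k : R => (k : G) ≠ 1 ∧ t k = -7) with hBd
  have hcA : ∀ v : ℤ, (Finset.univ.filter (fun k : R => (k : G) ≠ 1 ∧ t k = v)).card =
      Nat.card {a : G // a ∈ R ∧ a ≠ 1 ∧ t a = v} := by
    intro v
    rw [← Fintype.card_coe, ← Nat.card_eq_fintype_card]
    refine Nat.card_congr ⟨fun k => ⟨k.1, k.1.2, (Finset.mem_filter.1 k.2).2⟩,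
      fun a => ⟨⟨a.1, a.2.1⟩, Finset.mem_filter.2 ⟨Finset.mem_univ _, a.2.2⟩⟩, fun k => rfl, fun a => rfl⟩
  obtain ⟨a, ha⟩ : 19 ∣ A.card := by rw [hAd, hcA]; exact dvd_count t ht.conj R hy hyR hfix 14
  obtain ⟨b, hb⟩ : 19 ∣ B.card := by rw [hBd, hcA]; exact dvd_count t ht.conj R hy hyR hfix (-7)
  have h1 : ∑ k : R, t (k : G) = 56 + 14 * (A.card : ℤ) - 7 * (B.card : ℤ) := by
    have h2 : ∀ k : R, t (k : G) = (if (k : G) = 1 then 56 else 0) + 14 * (if (k : G) ≠ 1 ∧ t k = 14 then 1 else 0) -
        7 * (if (k : G) ≠ 1 ∧ t k = -7 then 1 else 0) := by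
      intro k
      by_cases h3 : (k : G) = 1
      · simp [h3, ht.one]
      · rcases ht.seven k (ho k k.2 h3) with h4 | h4 | h4 <;> simp [h3, h4]
    rw [Finset.sum_congr rfl fun k _ => h2 k, Finset.sum_sub_distrib, Finset.sum_add_distrib, ← Finset.mul_sum,
      ← Finset.mul_sum, Finset.sum_boole, Finset.sum_boole, Finset.sum_ite]
    have h3 : (Finset.univ.filter (fun k : R => (k : G) = 1)) = {1} := by
      ext k
      simp only [_root_.OneMemClass.coe_eq_one, _root_.Finset.mem_filter, _root_.Finset.mem_univ, _root_.true_and, _root_.Finset.mem_singleton]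
    rw [h3]
    simp [hAd, hBd]
  have h2 : A.card + B.card ≤ 342 := by
    have h3 : Disjoint A B := by
      rw [Finset.disjoint_left]
      intro k hk hk'
      have h4 := (Finset.mem_filter.1 hk).2.2
      have h5 := (Finset.mem_filter.1 hk').2.2
      omega
    have h4 : A ∪ B ⊆ Finset.univ.erase 1 := by
      intro k hk
      rw [Finset.mem_erase]
      refine ⟨fun h => ?_, Finset.mem_univ _⟩
      rcases Finset.mem_union.1 hk with h5 | h5
      · exact (Finset.mem_filter.1 h5).2.1 (by rw [h]; rfl)
      · exact (Finset.mem_filter.1 h5).2.1 (by rw [h]; rfl)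
    have h5 := Finset.card_le_card h4
    rw [Finset.card_union_of_disjoint h3, Finset.card_erase_of_mem (Finset.mem_univ _), Finset.card_univ,
      ← Nat.card_eq_fintype_card, hcard] at h5
    exact h5
  rw [h1, ha, hb] at hsum
  rw [ha, hb] at h2
  push_cast at hsum
  (clear * - h2 hsum; omega)

end Count

/-- `E₇(2)` -/
theorem adm_E7 {F : Type*} [Field F] [Fintype F] (hF : Fintype.card F = 2) : Adm ↥(Cfsg.Lie.chevE7.group F) := by
  have e : F ≃+* ZMod 2 := by
    have : Fintype (ZMod 2) := inferInstance
    have hp : CharP F 2 := by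
      obtain ⟨p, hp⟩ := CharP.exists F
      have h1 : Fact p.Prime := ⟨CharP.char_is_prime F p⟩
      obtain ⟨n, -, h2⟩ := FiniteField.card F p
      rw [hF] at h2
      have h3 : p ∣ 2 := by rw [h2]; exact dvd_pow_self p n.pos.ne'
      have h4 := (Nat.prime_dvd_prime_iff_eq h1.out Nat.prime_two).1 h3
      rwa [h4] at hp
    exact FiniteField.ringEquivOfCardEq (by rw [hF, ZMod.card])
  let f := Cfsg.Agent.ChevStructure.FieldMap.groupEquivOfRingEquiv Cfsg.Lie.chevE7 e
  exact Adm.comap Cfsg.Agent.H943.E7V.AdmMain.adm f.toMonoidHom f.injective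

end Cfsg.Agent.H318.Wei
end

-- part: H318/Wei/Red
section
/-!
# Overgroups of the torus of class 18 of `E₇(q)` with a normal subgroup of order prime to `n` (helper318)

`le_norm_of_not_red` : an overgroup of `⟨x⟩` with a nontrivial normal subgroup of order prime to `ncl 18 q` normalises
the subgroup `Z` of order `(q + 1) / (2, q - 1)` of `⟨x⟩`.
-/

set_option autoImplicit false
set_option linter.unusedSectionVars false

namespace Cfsg.Agent.H318.Wei

open Cfsg Cfsg.Lie Cfsg.Agent.OrdDiv Cfsg.Agent.H436 Cfsg.Agent.H563.KG Cfsg.Agent.H56.Exc Cfsg.Agent.H325.Loc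
  Cfsg.Agent.H290.ElReg Cfsg.Agent.H264.FKS Cfsg.Agent.H363.Wei Cfsg.Agent.H682.TE6 Cfsg.Agent.H325.IsoFree

variable {F : Type} [Field F] [Fintype F] {q : ℕ}

/-- the number `q⁶ - q³ + 1` -/
theorem ph18_eq {q : ℕ} (hq : 1 ≤ q) : Ph 18 q = q ^ 6 - q ^ 3 + 1 := by
  have h0 : q ^ 3 ≤ q ^ 6 := Nat.pow_le_pow_right hq (by norm_num)
  have h1 : ((Ph 18 q : ℕ) : ℤ) = ((q ^ 6 - q ^ 3 + 1 : ℕ) : ℤ) := by
    rw [cast_Ph18 _ hq]; push_cast [Nat.cast_sub h0]; ring
  exact_mod_cast h1

/-- the order of the torus -/
structure OrdX (q N : ℕ) : Prop where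
  eq : Nat.gcd 2 (q - 1) * N = (q + 1) * (q ^ 6 - q ^ 3 + 1)

theorem OrdX.pos {N : ℕ} (h : OrdX q N) : 0 < N := by
  rcases Nat.eq_zero_or_pos N with h0 | h0
  · have := h.eq
    rw [h0, mul_zero] at this
    have h1 : 0 < (q + 1) * (q ^ 6 - q ^ 3 + 1) := by positivity
    omega
  · exact h0

theorem OrdX.ncl_dvd {N : ℕ} (hq : 2 ≤ q) (h : OrdX q N) : ncl 18 q ∣ N := by
  have h1 : ncl 18 q ∣ Nat.gcd 2 (q - 1) * N := by
    rw [h.eq, ← ph18_eq (by omega : 1 ≤ q)]
    exact (ncl_dvd_Ph 18 q).mul_left _
  refine Nat.Coprime.dvd_of_dvd_mul_left ?_ h1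
  rw [Nat.coprime_iff_gcd_eq_one]
  by_contra hcon
  obtain ⟨r, hr, hrd⟩ := Nat.exists_prime_and_dvd hcon
  have h2 := prim_of_dvd c18 (by omega) hr (hrd.trans (Nat.gcd_dvd_left _ _))
  have h3 := Cfsg.Agent.H129.E7Common.prim_lt h2
  have h4 := Nat.le_of_dvd (by norm_num) ((hrd.trans (Nat.gcd_dvd_right _ _)).trans (Nat.gcd_dvd_left _ _))
  omega

/-- the other primes divide `q + 1` -/
theorem OrdX.dvd_add_one {N t : ℕ} (hq : 2 ≤ q) (h : OrdX q N) (ht : t.Prime) (htN : t ∣ N) (htn : ¬ t ∣ ncl 18 q) :
    t ∣ q + 1 := by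
  refine add_of_eighteen (by omega) ht (fun h1 => htn (dvd_ncl c18 (by omega) h1)) ?_
  rw [ph18_eq (by omega), ← h.eq]
  exact htN.mul_left _

theorem ncl18_big {q : ℕ} (hq : 3 ≤ q) : 133 < ncl 18 q := by
  by_contra hcon
  have h1 := le_four18 (q := q) (by omega)
  have h2 : q = 3 ∨ q = 4 := by omega
  rcases h2 with rfl | rfl
  · exact hcon (by decide +kernel)
  · exact hcon (by decide +kernel)

theorem ncl18_two : ncl 18 2 = 19 := by decide +kernel

/-- the order of `E₇(2)` -/
theorem e7_two {t k : ℕ} (ht : t.Prime) (ht2 : t ≠ 2) (ht7 : t ≠ 7) (ht19 : t ≠ 19) (hk : 0 < k)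
    (h : t ^ k ∣ num (.e7 2)) : ¬ 19 ∣ t ^ k - 1 := by
  have h0 : num (.e7 2) = 2 ^ 63 * (3 ^ 11 * (5 ^ 2 * (7 ^ 3 * (11 * (13 * (17 * (19 * (31 * (43 * (73 * 127)))))))))) := by
    decide +kernel
  have ht' : t ∣ num (.e7 2) := (dvd_pow_self t hk.ne').trans h
  have hcase : t = 3 ∨ t = 5 ∨ t = 11 ∨ t = 13 ∨ t = 17 ∨ t = 31 ∨ t = 43 ∨ t = 73 ∨ t = 127 := by
    rw [h0] at ht'
    have key : ∀ {a : ℕ} (b : ℕ) {c : ℕ}, a.Prime → t ∣ a ^ b * c → t = a ∨ t ∣ c := by
      intro a b c ha hd
      rcases ht.dvd_mul.1 hd with h1 | h1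
      · exact Or.inl ((Nat.prime_dvd_prime_iff_eq ht ha).1 (ht.dvd_of_dvd_pow h1))
      · exact Or.inr h1
    have key1 : ∀ {a : ℕ} {c : ℕ}, a.Prime → t ∣ a * c → t = a ∨ t ∣ c := by
      intro a c ha hd
      rcases ht.dvd_mul.1 hd with h1 | h1
      · exact Or.inl ((Nat.prime_dvd_prime_iff_eq ht ha).1 h1)
      · exact Or.inr h1
    rcases key 63 (by norm_num) ht' with h1 | h1
    · omega
    rcases key 11 (by norm_num) h1 with h1 | h1
    · omega
    rcases key 2 (by norm_num) h1 with h1 | h1
    · omega
    rcases key 3 (by norm_num) h1 with h1 | h1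
    · omega
    rcases key1 (by norm_num) h1 with h1 | h1
    · omega
    rcases key1 (by norm_num) h1 with h1 | h1
    · omega
    rcases key1 (by norm_num) h1 with h1 | h1
    · omega
    rcases key1 (by norm_num) h1 with h1 | h1
    · omega
    rcases key1 (by norm_num) h1 with h1 | h1
    · omega
    rcases key1 (by norm_num) h1 with h1 | h1
    · omega
    rcases key1 (by norm_num) h1 with h1 | h1
    · omega
    · have := (Nat.prime_dvd_prime_iff_eq ht (by norm_num : Nat.Prime 127)).1 h1
      omega
  have one : ∀ s : ℕ, ¬ s ^ 2 ∣ num (.e7 2) → s ^ k ∣ num (.e7 2) → k = 1 := fun s h1 h2 => by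
    have := pow_bound (K := 1) h1 h2
    omega
  rcases hcase with rfl | rfl | rfl | rfl | rfl | rfl | rfl | rfl | rfl
  · have h1 := pow_bound (K := 11) (by rw [h0]; decide +kernel) h
    interval_cases k <;> decide
  · have h1 := pow_bound (K := 2) (by rw [h0]; decide +kernel) h
    interval_cases k <;> decide
  all_goals
    have h1 := one _ (by rw [h0]; decide +kernel) h
    subst h1
    decide

/-- the powers of `x` -/
theorem exists_pow_of_dvd {G : Type*} [Group G] [Finite G] {x : G} {k : ℕ} (h : k ∣ orderOf x) (hk : k ≠ 0) :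
    ∃ y ∈ Subgroup.zpowers x, orderOf y = k := by
  obtain ⟨c, hc⟩ := h
  have h0 : 0 < orderOf x := orderOf_pos x
  have hc0 : c ≠ 0 := by rintro rfl; omega
  refine ⟨x ^ c, ⟨c, zpow_natCast x c⟩, ?_⟩
  rw [orderOf_pow_of_dvd hc0 (by rw [hc]; exact dvd_mul_left _ _), hc, Nat.mul_div_cancel _ (Nat.pos_of_ne_zero hc0)]

/-- the conjugates of the generator of `Z` -/
theorem mem_norm_of_conj_pm {G : Type*} [Group G] [Finite G] {h z : G} (h1 : h * z * h⁻¹ = z ∨ h * z * h⁻¹ = z⁻¹) :
    h ∈ Subgroup.normalizer (Subgroup.zpowers z : Set G) := by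
  apply Cfsg.Agent.H363.Wei.mem_norm_zpowers
  rcases h1 with h1 | h1 <;> rw [h1]
  · exact Subgroup.mem_zpowers z
  · exact inv_mem (Subgroup.mem_zpowers z)

/-- the abelian normal subgroups -/
theorem commute_y (tb : OrderTable.{0}) {p f : ℕ} (hp : p.Prime) (_hf : 1 ≤ f) [CharP F p] (hF : Fintype.card F = p ^ f)
    {x : ↥(chevE7.group F)} (hx : OrdX (p ^ f) (orderOf x)) {H : Subgroup ↥(chevE7.group F)} {y : H}
    (hyx : (y : ↥(chevE7.group F)) ∈ Subgroup.zpowers x) (hy : orderOf y = ncl 18 (p ^ f)) {t : ℕ} (ht : t.Prime)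
    (htp : t ≠ p) (htn : ¬ t ∣ ncl 18 (p ^ f)) {A : Subgroup H} (hAn : A.Normal)
    (hAc : ∀ a ∈ A, ∀ b ∈ A, a * b = b * a) (hAt : ∀ a ∈ A, a ^ t = 1) : ∀ u ∈ A, Commute u y := by
  have := Fact.mk ht
  have := Fact.mk hp
  have hfin : Finite ↥(chevE7.group F) := inferInstance
  have hq2 : 2 ≤ p ^ f := by rw [← hF]; exact Fintype.one_lt_card
  have hPt : IsPGroup t A := fun a => ⟨1, by rw [pow_one]; exact Subtype.ext (hAt a a.2)⟩
  have hbig : ∀ r, r.Prime → r ∣ ncl 18 (p ^ f) → Big H r (M7 (p ^ f) 18) (E7 18) := fun r hr hrn =>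
    (big7 (Or.inr (Or.inr (Or.inr rfl))) hF (prim_of_dvd c18 (by omega) hr hrn)).subgroup H
  obtain ⟨τ, hτ⟩ := (fth_E7 (F := F)).sub H.subtype H.subtype_injective
  have hcard : Fintype.card (Fin 133) = 133 := Fintype.card_fin _
  by_cases hq3 : 3 ≤ p ^ f
  · exact commute_abelian hτ hp hbig hy ht htp hPt hAc htn (Or.inl (by rw [hcard]; exact ncl18_big hq3))
  have hqe : p ^ f = 2 := by omega
  have hp2 : p = 2 := by
    have h1 : p ∣ 2 := by rw [← hqe]; exact dvd_pow_self p (by omega)
    exact (Nat.prime_dvd_prime_iff_eq hp Nat.prime_two).1 h1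
  have hn19 : ncl 18 (p ^ f) = 19 := by rw [hqe]; exact ncl18_two
  have hT := named_e7 (F := F) tb
  rw [hF, hqe] at hT
  have hH : Nat.card H ∣ num (.e7 2) := by
    refine (Subgroup.card_subgroup_dvd_card H).trans ?_
    rw [← hT.eq]
    exact Dvd.intro_left _ rfl
  have ht19 : t ≠ 19 := by
    rintro rfl
    rw [hn19] at htn
    exact htn dvd_rfl
  by_cases ht7 : t = 7
  · subst ht7
    -- `7³ : 19`
    have hfix : ∀ a ∈ A, Commute y a → a = 1 := by
      intro a ha hc
      obtain ⟨r, hr⟩ := exists_prim hq2 (show 3 ≤ 18 by norm_num) (by omega)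
      have hrn : r ∣ ncl 18 (p ^ f) := dvd_ncl c18 (by omega) hr
      obtain ⟨y', hy', hyr⟩ := exists_pow_of_dvd (x := y) (by rw [hy]; exact hrn) hr.prime.ne_zero
      obtain ⟨k, hk⟩ := hy'
      have hk' : y ^ k = y' := hk
      have h1 : ((y' : H) : ↥(chevE7.group F)) ∈ Subgroup.zpowers x := by
        rw [← hk', Subgroup.coe_zpow]
        exact zpow_mem hyx k
      have h2 := (inv18 hF hx.eq).2 r hr _ h1 (by rw [Subgroup.orderOf_coe, hyr])
      have h3 : ((a : H) : ↥(chevE7.group F)) ∈ Subgroup.zpowers x := by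
        rw [← h2, Subgroup.mem_centralizer_singleton_iff, ← hk', Subgroup.coe_zpow]
        have h4 : Commute ((a : H) : ↥(chevE7.group F)) (y : ↥(chevE7.group F)) :=
          congrArg Subtype.val hc.symm.eq
        exact (h4.zpow_right k).eq
      have h4 : orderOf ((a : H) : ↥(chevE7.group F)) ∣ orderOf x := orderOf_dvd_of_mem_zpowers h3
      have h5 : orderOf ((a : H) : ↥(chevE7.group F)) ∣ 7 := by
        rw [Subgroup.orderOf_coe]
        exact orderOf_dvd_of_pow_eq_one (hAt a ha)
      have h6 := hx.eq
      rw [hqe] at h6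
      norm_num at h6
      have h7 : orderOf ((a : H) : ↥(chevE7.group F)) = 1 := by
        rcases (Nat.dvd_prime (by norm_num)).1 h5 with h | h
        · exact h
        · exfalso
          rw [h, h6] at h4
          norm_num at h4
      rw [Subgroup.orderOf_coe] at h7
      exact orderOf_eq_one_iff.1 h7
    have hy19 : orderOf y = 19 := by rw [hy, hn19]
    obtain ⟨k, hk⟩ := IsPGroup.iff_card.1 hPt
    by_cases hk0 : k = 0
    · intro u hu
      have h1 : A = ⊥ := by rw [← Subgroup.card_eq_one, hk, hk0, pow_zero]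
      rw [h1, Subgroup.mem_bot] at hu
      rw [hu]
      exact Commute.one_left y
    exfalso
    have h1 := _root_.Cfsg.Agent.H563.KG.dvd_card_sub_one (A := A) (by norm_num : Nat.Prime 19) hy19 fun a ha hc => hfix a ha hc
    rw [hk] at h1
    have h2 : 7 ^ k ∣ num (.e7 2) := by
      rw [← hk]
      exact (Subgroup.card_subgroup_dvd_card A).trans hH
    have h3 : k ≤ 3 := pow_bound (K := 3) (by
      have h0 : num (.e7 2) = 2 ^ 63 * (3 ^ 11 * (5 ^ 2 * (7 ^ 3 * (11 * (13 * (17 * (19 * (31 * (43 * (73 * 127)))))))))) := by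
        decide +kernel
      rw [h0]; decide +kernel) h2
    have h4 : k = 3 := by
      interval_cases k
      · exact absurd rfl hk0
      · norm_num at h1
      · norm_num at h1
      · rfl
    have hA343 : Nat.card A = 343 := by rw [hk, h4]; norm_num
    exact no_seven (Cfsg.Agent.H943.E7V.Adm.comap (adm_E7 (by rw [hF, hqe])) H.subtype H.subtype_injective) A hAt
      hA343 hy19 (by rw [Subgroup.normalizer_eq_top_iff.2 hAn]; exact Subgroup.mem_top y) hfix
  · refine commute_abelian hτ hp hbig hy ht htp hPt hAc htn (Or.inr ⟨by rw [hn19]; norm_num, fun k hk htk => ?_⟩)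
    rw [hn19]
    exact e7_two ht (by omega) ht7 ht19 hk (htk.trans hH)

/-- **A normal subgroup of order prime to `n`.** -/
theorem le_norm_of_not_red (tb : OrderTable.{0}) (hE : CycFixSolv.{0}) (hF : Fintype.card F = q) {x : ↥(chevE7.group F)}
    (hx : OrdX q (orderOf x)) {H : Subgroup ↥(chevE7.group F)} (hxH : x ∈ H)
    (hnr : ¬ Red H (fun r => r.Prime ∧ r ∣ ncl 18 q)) :
    H ≤ Subgroup.normalizer (Subgroup.zpowers (x ^ (q ^ 6 - q ^ 3 + 1)) : Set ↥(chevE7.group F)) := by
  obtain ⟨p, f, _, hp, hf, hq⟩ := exists_pf F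
  obtain rfl : q = p ^ f := by rw [← hF, hq]
  have := Fact.mk hp
  have hfin : Finite ↥(chevE7.group F) := inferInstance
  have hq2 : 2 ≤ p ^ f := by rw [← hF]; exact Fintype.one_lt_card
  unfold Red at hnr
  push Not at hnr
  obtain ⟨N, hN, hNr, hN0⟩ := hnr
  obtain ⟨r, hr⟩ := exists_prim hq2 (show 3 ≤ 18 by norm_num) (by omega)
  have hrn : r ∣ ncl 18 (p ^ f) := dvd_ncl c18 (by omega) hr
  have hnx := hx.ncl_dvd hq2
  have hn0 : ncl 18 (p ^ f) ≠ 0 := (ncl_pos 18 (by omega)).ne'
  obtain ⟨y₀, hy₀x, hy₀⟩ := exists_pow_of_dvd hnx hn0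
  have hle : Subgroup.zpowers x ≤ H := by rwa [Subgroup.zpowers_le]
  let y : H := ⟨y₀, hle hy₀x⟩
  have hy : orderOf y = ncl 18 (p ^ f) := by rw [← hy₀]; exact Subgroup.orderOf_mk _ _
  have hbigr : Big H r (M7 (p ^ f) 18) (E7 18) := (big7 (Or.inr (Or.inr (Or.inr rfl))) hF hr).subgroup H
  have hrH : r ∣ Nat.card H := (hrn.trans (hy ▸ dvd_rfl)).trans (orderOf_dvd_natCard y)
  have hNs : Group.IsSolvable N := isSolvable_of_big hE hbigr hrH (hNr r ⟨hr.prime, hrn⟩)
  obtain ⟨t, ht, A, hAn, hAN, hA0, hAc, hAt⟩ := exists_elem' hN hNs hN0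
  have := Fact.mk ht
  have hPt : IsPGroup t A := fun a => ⟨1, by rw [pow_one]; exact Subtype.ext (hAt a a.2)⟩
  obtain ⟨k, hk⟩ := IsPGroup.iff_card.1 hPt
  have hk0 : k ≠ 0 := by
    rintro rfl
    rw [pow_zero, Subgroup.card_eq_one] at hk
    exact hA0 hk
  have htN : t ∣ Nat.card N := (by rw [hk]; exact dvd_pow_self t hk0 : t ∣ Nat.card A).trans (Subgroup.card_dvd_of_le hAN)
  have htn : ¬ t ∣ ncl 18 (p ^ f) := fun h => hNr t ⟨ht, h⟩ htN
  have htp : t ≠ p := by
    rintro rfl
    have hpiso : PIso t r ↥(chevE7.group F) := piso_E7_18 (F := F) (by rw [hF]; exact hr)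
    exact hA0 (pcore_of_piso (hpiso.sub H) hrH A hAn hPt)
  have hcom := commute_y tb hp hf hF hx (y := y) hy₀x hy ht htp htn hAn hAc hAt
  -- a nontrivial element of `A`
  obtain ⟨⟨a, haA⟩, ha1⟩ := Subgroup.ne_bot_iff_exists_ne_one.1 hA0
  have ha1' : (a : ↥(chevE7.group F)) ≠ 1 := fun h => ha1 (Subtype.ext (Subtype.ext h))
  obtain ⟨x₀, hx₀y, hx₀⟩ := exists_pow_of_dvd (x := y₀) (by rw [hy₀]; exact hrn) hr.prime.ne_zero
  have hx₀x : x₀ ∈ Subgroup.zpowers x := (Subgroup.zpowers_le.2 hy₀x) hx₀y
  have hcent := (inv18 hF hx.eq).2 r hr x₀ hx₀x hx₀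
  have hcomx : ∀ u ∈ A, Commute (u : ↥(chevE7.group F)) x₀ := by
    intro u hu
    obtain ⟨j, hj⟩ := hx₀y
    have hj' : y₀ ^ j = x₀ := hj
    have h1 : Commute (u : ↥(chevE7.group F)) y₀ := congrArg Subtype.val (hcom u hu).eq
    rw [← hj']
    exact h1.zpow_right j
  have hAx : ∀ u ∈ A, (u : ↥(chevE7.group F)) ∈ Subgroup.zpowers x := by
    intro u hu
    rw [← hcent, Subgroup.mem_centralizer_singleton_iff]
    exact (hcomx u hu).eq
  have hao : orderOf (a : ↥(chevE7.group F)) = t := by
    rw [Subgroup.orderOf_coe]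
    exact orderOf_eq_prime (hAt a haA) fun h => ha1 (Subtype.ext h)
  have htq : t ∣ p ^ f + 1 := hx.dvd_add_one hq2 ht (hao ▸ orderOf_dvd_of_mem_zpowers (hAx a haA)) htn
  have hcyc : IsCyclic ↥(Subgroup.zpowers x) := inferInstance
  intro h hh
  apply mem_norm_of_conj_pm
  refine norm_Z hF hr hx₀ (hcomx a haA) ha1' (by rw [hao]; exact htq) ?_ ?_ ?_
  · have h1 : (⟨h, hh⟩ : H) * a * (⟨h, hh⟩ : H)⁻¹ ∈ A := hAn.conj_mem a haA _
    refine mem_zpowers_of_cyclic hcyc (hAx a haA) (hAx _ h1) ?_
    show orderOf (h * (a : ↥(chevE7.group F)) * h⁻¹) ∣ _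
    rw [← MulAut.conj_apply, (MulAut.conj h).orderOf_eq]
  · obtain ⟨j, hj⟩ := hx₀x
    have hj' : x ^ j = x₀ := hj
    rw [← hj']
    exact ((Commute.refl x).pow_left _).zpow_right j
  · apply orderOf_dvd_of_pow_eq_one
    rw [← pow_mul, ← orderOf_dvd_iff_pow_eq_one, mul_comm, ← hx.eq]
    exact dvd_mul_left _ _

end Cfsg.Agent.H318.Wei
end

-- part: H870/Wei/TE6Three
section
/-!
# The centraliser of an element of order 19 or 37 of `²E₆(3)` (helper870, for S3938)

`te6_three_cent`. The entrywise Frobenius `Fr : a ↦ a ^ 3` of the group over the algebraic closure has the fixed points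
`E₆(3)`. If `y * Fr s * y⁻¹ = s`, then Lang's theorem gives `y = z⁻¹ * Fr z` and `z * s * z⁻¹` is a fixed point of `Fr`,
but `r` does not divide the order of `E₆(3)`.
-/

set_option autoImplicit false
set_option linter.unusedSectionVars false

namespace Cfsg.Agent.H870.Wei

open CoxeterSystem Cfsg Cfsg.Lie Cfsg.Lie.ChevalleyDatum
open Cfsg.Agent.ChevalleyStructure Cfsg.Agent.ChevalleyStructure.Elts Cfsg.Agent.ChevalleyStructure.CoxeterGeom
  Cfsg.Agent.ChevalleyStructure.CoxeterGeomTypes Cfsg.Agent.Nodes
open Cfsg.Agent.GpExc.Field Cfsg.Agent.BpExc.LangFr Cfsg.Agent.LangThm Cfsg.Agent.H129.TorusChar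
  Cfsg.Agent.H129.TorusUntw Cfsg.Agent.BpExc.TowChev
open Cfsg.Agent.OrdDiv Cfsg.Agent.H436 Cfsg.Agent.H967.CopMat Cfsg.Agent.H967.CopTw

/-- `r` does not divide the order of `E₆(3)` -/
theorem not_dvd_card {r : ℕ} (hr : Prim 3 18 r) : ¬ r ∣ Nat.card ↥(chevE6.group (ZMod 3)) := by
  intro h
  have h1 := S1063.result (F := ZMod 3) (q := 3) (ZMod.card 3)
  have h2 : r ∣ 3 ^ 36 * (3 ^ 2 - 1) * (3 ^ 5 - 1) * (3 ^ 6 - 1) * (3 ^ 8 - 1) * (3 ^ 9 - 1) * (3 ^ 12 - 1) := by
    rw [← h1]
    exact h.mul_left _
  have hp := hr.prime.prime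
  have key : ∀ m, 0 < m → m < 18 → ¬ r ∣ 3 ^ m - 1 := fun m hm hm' hd =>
    absurd (Nat.le_of_dvd hm ((hr.dvd_iff m).1 hd)) (by omega)
  rcases hp.dvd_or_dvd h2 with h2 | h2
  · rcases hp.dvd_or_dvd h2 with h2 | h2
    · rcases hp.dvd_or_dvd h2 with h2 | h2
      · rcases hp.dvd_or_dvd h2 with h2 | h2
        · rcases hp.dvd_or_dvd h2 with h2 | h2
          · rcases hp.dvd_or_dvd h2 with h2 | h2
            · exact hr.not_dvd (hp.dvd_of_dvd_pow h2)
            · exact key 2 (by norm_num) (by norm_num) h2
          · exact key 5 (by norm_num) (by norm_num) h2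
        · exact key 6 (by norm_num) (by norm_num) h2
      · exact key 8 (by norm_num) (by norm_num) h2
    · exact key 9 (by norm_num) (by norm_num) h2
  · exact key 12 (by norm_num) (by norm_num) h2

/-- the entrywise Frobenius does not fix the class of an element of order `r` -/
theorem not_conj {F : Type} [Field F] [Fintype F] [CharP F 3] [Fact (Nat.Prime 3)] {r : ℕ}
    (hr : Prim 3 18 r) {s y : ↥(chevE6.group F)} (hs : orderOf s = r) :
    y * emb RGDTwE6.hp.inList (frobenius F 3) s * y⁻¹ ≠ s := by
  intro h
  let f : F →+* AlgebraicClosure F := algebraMap F (AlgebraicClosure F)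
  have hk : CharP (AlgebraicClosure F) 3 := charP_of_injective_algebraMap f.injective 3
  let f3 : ZMod 3 →+* AlgebraicClosure F := ZMod.castHom (dvd_refl 3) _
  let cs := CoxeterMatrix.E₆.toCoxeterSystem
  obtain ⟨z, hz⟩ := lang_all RGDTwE6.hp cs (p := 3) (e := 1) one_pos isFrob_phi
    (fr_phi (k := AlgebraicClosure F) (p := 3) (e := 1) RGDTwE6.hp cs) 1 (emb RGDTwE6.hp.inList f y)
  have hz' : phi chevE6 (AlgebraicClosure F) 3 1 z = z * emb RGDTwE6.hp.inList f y := by
    rw [hz, map_one, one_mul]
    group
  have h1 : phi chevE6 (AlgebraicClosure F) 3 1 (emb RGDTwE6.hp.inList f s) =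
      emb RGDTwE6.hp.inList f (emb RGDTwE6.hp.inList (frobenius F 3) s) := by
    rw [phi_eq RGDTwE6.hp, emb_comp, emb_comp]
    congr 1
    have : (iterateFrobenius (AlgebraicClosure F) 3 1).comp f = f.comp (frobenius F 3) := by
      ext a
      simp only [frobenius_def, _root_.iterateFrobenius_one, _root_.RingHom.coe_comp, _root_.Function.comp_apply, _root_.map_pow]
    rw [this]
  have h2 : phi chevE6 (AlgebraicClosure F) 3 1 (z * emb RGDTwE6.hp.inList f s * z⁻¹) =
      z * emb RGDTwE6.hp.inList f s * z⁻¹ := by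
    rw [map_mul, map_mul, map_inv, hz', h1]
    have h3 : emb RGDTwE6.hp.inList f y * emb RGDTwE6.hp.inList f (emb RGDTwE6.hp.inList (frobenius F 3) s) *
        (emb RGDTwE6.hp.inList f y)⁻¹ = emb RGDTwE6.hp.inList f s := by
      rw [← map_mul, ← map_inv, ← map_mul, h]
    calc _ = z * (emb RGDTwE6.hp.inList f y * emb RGDTwE6.hp.inList f (emb RGDTwE6.hp.inList (frobenius F 3) s) *
        (emb RGDTwE6.hp.inList f y)⁻¹) * z⁻¹ := by group
      _ = _ := by rw [h3]
  have hcube : ∀ a : ZMod 3, ∃ b : ZMod 3, b ^ 3 = a := fun a => ⟨a, ZMod.pow_card a⟩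
  obtain ⟨x, hx⟩ := fix_range RGDTwE6.hp cs f3 (by rw [ZMod.card, pow_one]) invC_E6 (by norm_num)
    hcube h2
  have h4 : orderOf x = r := by
    rw [← orderOf_injective _ (emb_injective RGDTwE6.hp.inList f3) x, hx, ← hs,
      ← orderOf_injective _ (emb_injective RGDTwE6.hp.inList f) s]
    exact orderOf_injective (MulAut.conj z).toMonoidHom (MulAut.conj z).injective (emb RGDTwE6.hp.inList f s)
  exact not_dvd_card hr (h4 ▸ orderOf_dvd_natCard x)

theorem charP_three {F : Type} [Field F] [Fintype F] (hF : Fintype.card F = 3 ^ 2) : CharP F 3 := by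
  obtain ⟨p, hp⟩ := CharP.exists F
  obtain ⟨n, hpp, hn⟩ := FiniteField.card F p
  have h1 : p ∣ 3 ^ 2 := by
    rw [← hF, hn]
    exact dvd_pow_self p n.pos.ne'
  have h2 := (Nat.prime_dvd_prime_iff_eq hpp Nat.prime_three).1 (hpp.dvd_of_dvd_pow h1)
  exact h2 ▸ hp

/-- **The centraliser of an element of order 19 or 37 of `²E₆(3)`** in an almost simple group lies in the socle. -/
theorem te6_three_cent {A : Type*} [Group A] [Finite A] (S : Subgroup A) [S.Normal]
    (hC : Subgroup.centralizer (S : Set A) = ⊥) (hS : IsNamed (.te6 3) ↥S)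
    {r : ℕ} (hr : Prim 3 18 r) {s : A} (hs : s ∈ S) (ho : orderOf s = r) :
    Subgroup.centralizer {s} ≤ S := by
  obtain ⟨F, _, _, hF, ⟨e⟩⟩ := hS.real
  have hp3 : Fact (Nat.Prime 3) := ⟨Nat.prime_three⟩
  have hch : CharP F 3 := charP_three hF
  let τ : MulAut ↥(twistedE6 F 3) := fieldAut (stab_e6 3) (frobeniusEquiv F 3)
  have hout : (Cfsg.Inn ↥(twistedE6 F 3)).index = 2 := by
    have h := S2130.result (K := F) 3 1 hF le_rfl
    rw [show (3 : ℕ) ^ 1 = 3 by norm_num] at h
    rw [show 2 * Nat.gcd 3 (3 + 1) * 1 = 2 by norm_num] at h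
    exact h
  have hle : twistedE6 F 3 ≤ chevE6.group F :=
    H129.TwE6Fr.tw_le Nat.prime_three.isPrimePow hF
  have key : ∀ y : ↥(twistedE6 F 3), y * τ (e ⟨s, hs⟩) * y⁻¹ ≠ e ⟨s, hs⟩ := by
    intro y h
    refine not_conj hr (s := Subgroup.inclusion hle (e ⟨s, hs⟩)) (y := Subgroup.inclusion hle y) ?_ ?_
    · rw [orderOf_injective _ (Subgroup.inclusion_injective hle), MulEquiv.orderOf_eq e,
        Subgroup.orderOf_mk, ho]
    · apply Subtype.ext
      have := congrArg (fun g : ↥(twistedE6 F 3) => (g : GL chevE6.Idx F)) h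
      exact this
  intro x hx
  by_contra hxS
  let β : MulAut ↥(twistedE6 F 3) := MulAut.congr e (MulAut.conjNormal x)
  have hxs : x * s = s * x := (Subgroup.mem_centralizer_singleton_iff.1 hx)
  have hβ : ∀ t : ↥S, β (e t) = e (MulAut.conjNormal x t) := fun t => by
    show e (MulAut.conjNormal x (e.symm (e t))) = _
    rw [e.symm_apply_apply]
  have hβs : β (e ⟨s, hs⟩) = e ⟨s, hs⟩ := by
    rw [hβ]
    congr 1
    apply Subtype.ext
    rw [MulAut.conjNormal_apply]
    show x * s * x⁻¹ = s
    rw [hxs, mul_inv_cancel_right]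
  have hβI : β ∉ Cfsg.Inn ↥(twistedE6 F 3) := by
    rintro ⟨y, hy⟩
    apply hxS
    have h1 : x * ((e.symm y : ↥S) : A)⁻¹ = 1 := by
      have h2 : x * ((e.symm y : ↥S) : A)⁻¹ ∈ Subgroup.centralizer (S : Set A) := by
        rw [Subgroup.mem_centralizer_iff]
        intro t ht
        have h3 := hβ (e.symm (y⁻¹ * e ⟨t, ht⟩ * y))
        rw [e.apply_symm_apply, ← hy, MulAut.conj_apply] at h3
        have h4 : (⟨t, ht⟩ : ↥S) = MulAut.conjNormal x (e.symm (y⁻¹ * e ⟨t, ht⟩ * y)) := by
          apply e.injective
          rw [← h3]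
          group
        have h5 := congrArg Subtype.val h4
        rw [MulAut.conjNormal_apply, map_mul, map_mul, map_inv, e.symm_apply_apply] at h5
        have h6 : t = x * (((e.symm y : ↥S) : A)⁻¹ * t * ((e.symm y : ↥S) : A)) * x⁻¹ := h5
        calc t * (x * ((e.symm y : ↥S) : A)⁻¹)
            = x * (((e.symm y : ↥S) : A)⁻¹ * t * ((e.symm y : ↥S) : A)) * x⁻¹ *
              (x * ((e.symm y : ↥S) : A)⁻¹) := by rw [← h6]
          _ = x * ((e.symm y : ↥S) : A)⁻¹ * t := by group
      rwa [hC, Subgroup.mem_bot] at h2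
    rw [mul_inv_eq_one.1 h1]
    exact (e.symm y).2
  have hτI : τ ∉ Cfsg.Inn ↥(twistedE6 F 3) := by
    rintro ⟨y, hy⟩
    apply key y⁻¹
    rw [← hy, MulAut.conj_apply]
    group
  have h2 : β * τ⁻¹ ∈ Cfsg.Inn ↥(twistedE6 F 3) := by
    rw [Subgroup.mul_mem_iff_of_index_two hout]
    exact ⟨fun h => absurd h hβI, fun h => absurd (inv_mem_iff.1 h) hτI⟩
  obtain ⟨y, hy⟩ := h2
  apply key y
  have h3 : MulAut.conj y (τ (e ⟨s, hs⟩)) = (β * τ⁻¹) (τ (e ⟨s, hs⟩)) := by rw [hy]
  rw [MulAut.conj_apply, MulAut.mul_apply, MulAut.inv_apply_self, hβs] at h3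
  exact h3

end Cfsg.Agent.H870.Wei
end

-- part: H154/Wei/Elt
section
/-!
# S3938, `E₇(q)`: elements of `PSU_4(Q)` and `PSU_9(2)` (helper154)

* `elt_psu4` : `PSU_4(Q)` has elements of order `N`, `N` odd dividing `Q ^ 3 + 1`;
* `elt86` : `PSU_9(2)` has an element of order 86.
-/

set_option autoImplicit false

namespace Cfsg.Agent.H154.Wei

open Matrix Cfsg Cfsg.Agent.OrdDiv Cfsg.Agent.H436 Cfsg.Agent.H186 Cfsg.Agent.H103.PGUUpper Cfsg.Agent.H72.AdjPSU Cfsg.Agent.ClassicalGeometry.GUBasic
  Cfsg.Agent.H103.UniBlock Cfsg.Agent.H127 Cfsg.Agent.H290.Wei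

/-- `PSU_4(Q)`, `N ∣ Q ^ 3 + 1` odd -/
theorem elt_psu4 {S : Type*} [Group S] {Q N : ℕ} (h : IsNamed (.psu 4 Q) S) (hodd : Odd N) (hN : N ∣ Q ^ 3 + 1) :
    ∃ g : S, orderOf g = N := by
  obtain ⟨F, _, _, hF, e⟩ := h.real
  refine exists_congr ?_ e
  obtain ⟨p, hp⟩ := CharP.exists F
  have : Fact p.Prime := ⟨CharP.char_is_prime F p⟩
  obtain ⟨j, hj, -⟩ := UnitRoots.exists_eq_pow hF p
  obtain ⟨A, hA, ho⟩ := exists_singer_unitary (p := p) hj hF (m := 3) (by decide)
  have hq := two_le hF
  have hδ0 : (A : Matrix (Fin 3) (Fin 3) F).det ≠ 0 :=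
    ((Matrix.isUnit_iff_isUnit_det _).1 A.isUnit).ne_zero
  set δ : F := (A : Matrix (Fin 3) (Fin 3) F).det with hδ
  have hδ1 : δ ^ (Q + 1) = 1 := _root_.Cfsg.Agent.H72.AdjPSU.det_pow hF hA
  have hB : Uni Q (δ⁻¹ • (1 : Matrix (Fin 1) (Fin 1) F)) := by
    refine ⟨1, isUnit_one, ?_⟩
    rw [st_smul, st_one hF, mul_one, Matrix.smul_mul, Matrix.one_mul, smul_smul, ← pow_succ, inv_pow, hδ1, inv_one,
      one_smul]
  refine exists_order_of_index hF (by norm_num) (ι := Fin 3 ⊕ Fin 1) (finSumFinEquiv (m := 3) (n := 1)).symm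
    (A := fromBlocks (A : Matrix (Fin 3) (Fin 3) F) 0 0 (δ⁻¹ • (1 : Matrix (Fin 1) (Fin 1) F)))
    (uni_fromBlocks (by omega) hA hB) ?_ ?_ N dvd_rfl
  · rw [Matrix.det_fromBlocks_zero₂₁, Matrix.det_smul, Matrix.det_one, Fintype.card_fin, pow_one, mul_one, ← hδ,
      mul_inv_cancel₀ hδ0]
  · intro k c hk
    rw [fromBlocks_pow] at hk
    obtain ⟨h3, h4⟩ := fromBlocks_eq_smul hk
    have h5 : (δ⁻¹) ^ k = c := by
      rw [smul_pow, one_pow] at h4
      have := congrFun (congrFun h4 0) 0
      simpa using this
    have h6 : δ ^ k = c ^ 3 := by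
      have := congrArg Matrix.det h3
      rw [Matrix.det_pow, Matrix.det_smul, Matrix.det_one, Fintype.card_fin, mul_one] at this
      exact this
    have h7 : c ^ 4 = 1 := by
      rw [pow_succ, ← h6, ← h5, ← mul_pow, mul_inv_cancel₀ hδ0, one_pow]
    have h8 : (A : Matrix (Fin 3) (Fin 3) F) ^ (k * 4) = 1 := by
      rw [pow_mul, h3, smul_pow, one_pow, h7, one_smul]
    have h9 : Q ^ 3 + 1 ∣ k * 4 := by
      rw [← ho]
      apply orderOf_dvd_of_pow_eq_one
      apply Units.ext
      rw [Units.val_pow_eq_pow_val, h8, Units.val_one]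
    have h10 : Nat.Coprime N 4 := Nat.Coprime.pow_right 2 (Nat.coprime_two_right.2 hodd)
    exact h10.dvd_of_dvd_mul_right (hN.trans h9)

/-- `PSU_9(2)` has an element of order 86. -/
theorem elt86 {S : Type*} [Group S] (h : IsNamed (.psu 9 2) S) : ∃ g : S, orderOf g = 86 := by
  obtain ⟨F, _, _, hF, e⟩ := h.real
  refine exists_congr ?_ e
  have hc : CharP F 2 := by
    obtain ⟨p, hp⟩ := CharP.exists F
    have hpp : p.Prime := CharP.char_is_prime F p
    obtain ⟨n, -, hn⟩ := FiniteField.card F p
    have h1 : p ∣ 2 ^ 2 := by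
      rw [← hF, hn]
      exact dvd_pow_self p n.pos.ne'
    have h2 := (Nat.prime_dvd_prime_iff_eq hpp Nat.prime_two).1 (hpp.dvd_of_dvd_pow h1)
    rw [← h2]
    exact hp
  have : Fact (Nat.Prime 2) := ⟨Nat.prime_two⟩
  exact exists_order_of_blocks hF (by norm_num) (hasBlock_odd hF (a := 7) (d := 43) (by decide) (by norm_num)
    (by norm_num)) (hasBlock_char hF 2) (by norm_num) (by norm_num) (by norm_num) (by norm_num) 86 (by norm_num)

end Cfsg.Agent.H154.Wei
end

-- part: H154/Wei/Names18
section
/-!
# S3938, `E₇(q)`, class 18, own characteristic (helper154)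
-/

set_option autoImplicit false

namespace Cfsg.Agent.H154.Wei

open Cfsg Cfsg.Agent.OrdDiv Cfsg.Agent.H436
  Cfsg.Agent.H56.Exc Cfsg.Agent.H915.GN Cfsg.Agent.H264.FKS Cfsg.Agent.H563.KG
  Cfsg.Agent.H290.Wei Cfsg.Agent.H946.KZ

section num

variable {q e u : ℕ}

theorem not_dvd_M (hq : 1 ≤ q) (h : Prim q e u) (he : ¬ e ∣ 2) (he18 : e ≠ 18) : ¬ u ∣ (q + 1) * Ph 18 q := by
  have hsq : q ^ 2 - 1 = (q + 1) * (q - 1) := by
    have := Nat.sq_sub_sq q 1
    rwa [one_pow] at this
  intro hd
  rcases h.prime.dvd_mul.1 hd with h1 | h1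
  · apply he
    refine (h.dvd_iff 2).1 ?_
    rw [hsq]
    exact h1.mul_right _
  · rw [← ncl_mul 18 q] at h1
    rcases h.prime.dvd_mul.1 h1 with h2 | h2
    · exact he18 (h.unique (prim_of_dvd (Or.inr (Or.inr (Or.inr (Or.inr (Or.inl rfl))))) hq h.prime h2))
    · have h3 : u ∣ 3 := h2.trans (Nat.gcd_dvd_left 3 _)
      have h4 : u = 3 := (Nat.prime_dvd_prime_iff_eq h.prime Nat.prime_three).1 h3
      subst h4
      apply he
      refine (h.dvd_iff 2).1 ?_
      rw [hsq]
      have h5 := h.not_dvd
      have h6 : q % 3 = 1 ∨ q % 3 = 2 := by omega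
      rcases h6 with h6 | h6
      · exact Dvd.dvd.mul_left (by omega) _
      · exact Dvd.dvd.mul_right (by omega) _

theorem pf_two {p f : ℕ} (hp : p.Prime) (h : p ^ f = 2) : p = 2 ∧ f = 1 := by
  have h1 : p ∣ 2 := by
    rw [← h]
    apply dvd_pow_self
    rintro rfl
    norm_num at h
  have h2 := (Nat.prime_dvd_prime_iff_eq hp Nat.prime_two).1 h1
  subst h2
  refine ⟨rfl, Nat.pow_right_injective le_rfl (show 2 ^ f = 2 ^ 1 from h)⟩

end num

variable {p f : ℕ} {S : Type} [Group S]

theorem M_two : (2 + 1) * Ph 18 2 = 171 := by decide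

/-- the case `q = 2`: elements of order 513 -/
theorem kill_513 {r : ℕ} (hr : Prim 2 18 r) (hb : Big S r ((2 + 1) * Ph 18 2) 18) (h : ∃ g : S, orderOf g = 513) :
    False := by
  have h1 : r ∣ 2 ^ 9 + 1 := prim_dvd_plus (j := 9) hr (by norm_num) (by norm_num)
  have h2 := dvd_of_big hb (N := 513) h1 (by norm_num) h
  rw [M_two] at h2
  exact absurd h2 (by decide)

theorem exists_r (hp : p.Prime) (hf : 1 ≤ f) {e : ℕ} (he : 3 ≤ e) (h6 : ¬ (p ^ f = 2 ∧ e = 6)) :
    ∃ r, Prim (p ^ f) e r :=
  exists_prim (hp.two_le.trans (Nat.le_self_pow (by omega) p)) he h6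

section kills

variable (hp : p.Prime) (hf : 1 ≤ f)
  (hb : ∀ r, Prim (p ^ f) 18 r → Big S r ((p ^ f + 1) * Ph 18 (p ^ f)) 18)

include hp hf hb

theorem kill_psl2 {f₁ : ℕ} (h1 : f₁ * 2 = f * 18) (h : IsNamed (.psl 2 (p ^ f₁)) S) : False := by
  have hq1 : 1 ≤ p ^ f := Nat.one_le_pow _ _ hp.pos
  obtain ⟨r, hr⟩ := exists_r hp hf (e := 18) (by norm_num) (by norm_num)
  by_cases h2 : p ^ f = 2
  · obtain ⟨rfl, rfl⟩ := pf_two hp h2
    obtain rfl : f₁ = 9 := by omega
    rw [pow_one] at hr hb
    exact kill_513 hr (hb r hr) (elt_psl h (by norm_num) (by norm_num) (by norm_num))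
  · obtain ⟨u, hu⟩ := exists_r hp hf (e := 6) (by norm_num) (fun h => h2 h.1)
    exact not_dvd_M hq1 hu (by norm_num) (by norm_num)
      (kill_psl hr hu (by norm_num) (hb r hr) h (j := 18) h1 (by norm_num) (by norm_num) (a := 1) (b := 9)
        (by omega) (by norm_num) (by norm_num))

theorem kill_psl3 {f₁ : ℕ} (h1 : f₁ * 3 = f * 18) (h : IsNamed (.psl 3 (p ^ f₁)) S) : False := by
  have hq1 : 1 ≤ p ^ f := Nat.one_le_pow _ _ hp.pos
  obtain ⟨r, hr⟩ := exists_r hp hf (e := 18) (by norm_num) (by norm_num)
  obtain ⟨u, hu⟩ := exists_r hp hf (e := 9) (by norm_num) (by norm_num)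
  exact not_dvd_M hq1 hu (by norm_num) (by norm_num)
    (kill_psl hr hu (by norm_num) (hb r hr) h (j := 18) h1 (by norm_num) (by norm_num) (a := 1) (b := 6)
      (by omega) (by norm_num) (by norm_num))

theorem kill_psp2 {f₁ : ℕ} (h1 : f₁ * 4 = f * 18) (h : IsNamed (.psp 2 (p ^ f₁)) S) : False := by
  have hq1 : 1 ≤ p ^ f := Nat.one_le_pow _ _ hp.pos
  have h2 : p ^ f ≠ 2 := by
    intro h2
    obtain ⟨rfl, rfl⟩ := pf_two hp h2
    omega
  obtain ⟨r, hr⟩ := exists_r hp hf (e := 18) (by norm_num) (by norm_num)
  obtain ⟨u, hu⟩ := exists_r hp hf (e := 6) (by norm_num) (fun h => h2 h.1)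
  exact not_dvd_M hq1 hu (by norm_num) (by norm_num)
    (kill_psp hr hu (by norm_num) (by norm_num) (by norm_num) (hb r hr) h (by norm_num) (j := 9) (by omega)
      (by norm_num) (by norm_num) (by norm_num) (by norm_num))

theorem kill_psp3 {f₁ : ℕ} (h1 : f₁ * 6 = f * 18) (h : IsNamed (.psp 3 (p ^ f₁)) S) : False := by
  have hq1 : 1 ≤ p ^ f := Nat.one_le_pow _ _ hp.pos
  obtain ⟨r, hr⟩ := exists_r hp hf (e := 18) (by norm_num) (by norm_num)
  by_cases h2 : p ^ f = 2
  · obtain ⟨rfl, rfl⟩ := pf_two hp h2
    obtain rfl : f₁ = 3 := by omega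
    rw [pow_one] at hr hb
    exact kill_513 hr (hb r hr) (elt_psp h (by norm_num) (by decide) (by norm_num))
  · obtain ⟨u, hu⟩ := exists_r hp hf (e := 6) (by norm_num) (fun h => h2 h.1)
    exact not_dvd_M hq1 hu (by norm_num) (by norm_num)
      (kill_psp hr hu (by norm_num) (by norm_num) (by norm_num) (hb r hr) h (by norm_num) (j := 9) (by omega)
        (by norm_num) (by norm_num) (by norm_num) (by norm_num))

theorem kill_oodd3 {f₁ : ℕ} (h1 : f₁ * 6 = f * 18) (h : IsNamed (.oodd 3 (p ^ f₁)) S) : False := by
  have hq1 : 1 ≤ p ^ f := Nat.one_le_pow _ _ hp.pos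
  have h2 : p ^ f ≠ 2 := by
    intro h2
    obtain ⟨rfl, rfl⟩ := pf_two hp h2
    obtain rfl : f₁ = 3 := by omega
    have := h.cond.2.1
    exact absurd this (by decide)
  obtain ⟨r, hr⟩ := exists_r hp hf (e := 18) (by norm_num) (by norm_num)
  obtain ⟨u, hu⟩ := exists_r hp hf (e := 6) (by norm_num) (fun h => h2 h.1)
  exact not_dvd_M hq1 hu (by norm_num) (by norm_num)
    (kill_oodd hr hu (by norm_num) (by norm_num) (by norm_num) (hb r hr) h (j := 9) (by omega)
      (by norm_num) (by norm_num) (by norm_num) (by norm_num))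

theorem kill_psu4 {f₁ : ℕ} (h1 : f₁ * 6 = f * 18) (h : IsNamed (.psu 4 (p ^ f₁)) S) : False := by
  have hq1 : 1 ≤ p ^ f := Nat.one_le_pow _ _ hp.pos
  obtain ⟨r, hr⟩ := exists_r hp hf (e := 18) (by norm_num) (by norm_num)
  by_cases h2 : p ^ f = 2
  · obtain ⟨rfl, rfl⟩ := pf_two hp h2
    obtain rfl : f₁ = 3 := by omega
    rw [pow_one] at hr hb
    exact kill_513 hr (hb r hr) (elt_psu4 h (by decide) (by norm_num))
  · obtain ⟨u, hu⟩ := exists_r hp hf (e := 6) (by norm_num) (fun h => h2 h.1)
    have h3 : (p ^ f₁) ^ 3 = (p ^ f) ^ 9 := by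
      rw [← pow_mul, ← pow_mul]
      congr 1
      omega
    have h4 : r * u ∣ (p ^ f₁) ^ 3 + 1 := by
      rw [h3]
      exact mul_dvd hr hu (by norm_num) (prim_dvd_plus (j := 9) hr (by norm_num) (by norm_num))
        (prim_dvd_plus (j := 9) hu (by norm_num) (by norm_num))
    have h5 : Odd (r * u) := (prim_odd hr (by norm_num)).mul (prim_odd hu (by norm_num))
    exact not_dvd_M hq1 hu (by norm_num) (by norm_num)
      ((dvd_mul_left u r).trans (dvd_of_big (hb r hr) (dvd_mul_right r u) h5.pos (elt_psu4 h h5 h4)))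

theorem kill_psu9 {m : ℕ} (hm : 9 ≤ m) (h2 : p ^ f ≠ 2) (h : IsNamed (.psu m (p ^ f)) S) : False := by
  have hq1 : 1 ≤ p ^ f := Nat.one_le_pow _ _ hp.pos
  obtain ⟨r, hr⟩ := exists_r hp hf (e := 18) (by norm_num) (by norm_num)
  obtain ⟨u, hu⟩ := exists_r hp hf (e := 6) (by norm_num) (fun h => h2 h.1)
  exact not_dvd_M hq1 hu (by norm_num) (by norm_num)
    (kill_psu hr hu (by norm_num) (hb r hr) h (k := 9) (by decide) hm (j := 9) rfl
      (by norm_num) (by norm_num) (by norm_num) (by norm_num) (a := 1) (b := 2) rfl (by norm_num) (by norm_num))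

theorem kill_oplus4 {f₁ : ℕ} (h1 : f₁ * 6 = f * 18) (h : IsNamed (.oplus 4 (p ^ f₁)) S) : False := by
  have hq1 : 1 ≤ p ^ f := Nat.one_le_pow _ _ hp.pos
  obtain ⟨r, hr⟩ := exists_r hp hf (e := 18) (by norm_num) (by norm_num)
  by_cases h2 : p ^ f = 2
  · obtain ⟨rfl, rfl⟩ := pf_two hp h2
    obtain rfl : f₁ = 3 := by omega
    rw [pow_one] at hr hb
    exact kill_513 hr (hb r hr) (elt_oplus h (by norm_num) (by decide) (by norm_num))
  · obtain ⟨u, hu⟩ := exists_r hp hf (e := 6) (by norm_num) (fun h => h2 h.1)
    exact not_dvd_M hq1 hu (by norm_num) (by norm_num)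
      (kill_oplus hr hu (by norm_num) (by norm_num) (by norm_num) (hb r hr) h (j := 9) (by omega)
        (by norm_num) (by norm_num) (by norm_num) (by norm_num))

end kills

section multiplicity

/-- the part of the order of `E₇(s ^ 2)` which is prime to the primes of class 9 over `s` -/
theorem not_dvd_X {s r : ℕ} (hr : Prim s 9 r) : ¬ r ∣ (s ^ 2) ^ 63 * (((s ^ 2) ^ 2 - 1) * ((s ^ 2) ^ 6 - 1) *
    ((s ^ 2) ^ 8 - 1) * ((s ^ 2) ^ 10 - 1) * ((s ^ 2) ^ 12 - 1) * ((s ^ 2) ^ 14 - 1)) := by
  have hk : ∀ k, ¬ 9 ∣ 2 * k → ¬ r ∣ (s ^ 2) ^ k - 1 := by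
    intro k hk h
    rw [← pow_mul] at h
    exact hk ((hr.dvd_iff _).1 h)
  intro h
  rcases hr.prime.dvd_mul.1 h with h | h
  · rw [← pow_mul] at h
    exact hr.not_dvd_pow _ h
  rcases hr.prime.dvd_mul.1 h with h | h
  · rcases hr.prime.dvd_mul.1 h with h | h
    · rcases hr.prime.dvd_mul.1 h with h | h
      · rcases hr.prime.dvd_mul.1 h with h | h
        · rcases hr.prime.dvd_mul.1 h with h | h
          · exact hk 2 (by norm_num) h
          · exact hk 6 (by norm_num) h
        · exact hk 8 (by norm_num) h
      · exact hk 10 (by norm_num) h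
    · exact hk 12 (by norm_num) h
  · exact hk 14 (by norm_num) h

theorem num_e7_eq (q : ℕ) : num (.e7 q) = q ^ 63 * ((q ^ 2 - 1) * (q ^ 6 - 1) * (q ^ 8 - 1) * (q ^ 10 - 1) *
    (q ^ 12 - 1) * (q ^ 14 - 1)) * (q ^ 18 - 1) := by
  show q ^ 63 * ((q ^ 2 - 1) * (q ^ 6 - 1) * (q ^ 8 - 1) * (q ^ 10 - 1) * (q ^ 12 - 1) *
    (q ^ 14 - 1) * (q ^ 18 - 1)) = _
  ring

theorem kill_f4 {S : Type} [Group S] {p f f₁ : ℕ} (hp : p.Prime) (hf : 1 ≤ f) (h1 : f₁ * 12 = f * 18)
    (h : IsNamed (.f4 (p ^ f₁)) S) (hd : Nat.card S ∣ num (.e7 (p ^ f))) : False := by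
  obtain ⟨g, rfl⟩ : ∃ g, f = g * 2 := ⟨f / 2, by omega⟩
  obtain rfl : f₁ = g * 3 := by omega
  obtain ⟨s, hs⟩ : ∃ s, s = p ^ g := ⟨_, rfl⟩
  have hs2 : 2 ≤ s := by
    rw [hs]
    exact hp.two_le.trans (Nat.le_self_pow (by omega) p)
  rw [pow_mul, ← hs] at h hd
  obtain ⟨r, hr⟩ := exists_prim hs2 (show 3 ≤ 9 by norm_num) (by norm_num)
  have h2 : Nat.card S = (s ^ 3) ^ 24 * (((s ^ 3) ^ 2 - 1) * ((s ^ 3) ^ 6 - 1) * ((s ^ 3) ^ 8 - 1) *
      ((s ^ 3) ^ 12 - 1)) := by
    have := h.eq
    change 1 * Nat.card S = _ at this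
    rw [one_mul] at this
    exact this
  rw [h2, num_e7_eq] at hd
  have h3 : (s ^ 3) ^ 12 = (s ^ 2) ^ 18 := by rw [← pow_mul, ← pow_mul]
  rw [h3] at hd
  have h4 : 0 < (s ^ 2) ^ 18 - 1 := by
    have : 1 < (s ^ 2) ^ 18 := Nat.one_lt_pow (by norm_num) (Nat.one_lt_pow (by norm_num) (by omega))
    omega
  have h5 : (s ^ 3) ^ 6 - 1 ∣ (s ^ 2) ^ 63 * (((s ^ 2) ^ 2 - 1) * ((s ^ 2) ^ 6 - 1) *
      ((s ^ 2) ^ 8 - 1) * ((s ^ 2) ^ 10 - 1) * ((s ^ 2) ^ 12 - 1) * ((s ^ 2) ^ 14 - 1)) := by
    refine Nat.dvd_of_mul_dvd_mul_right h4 (Dvd.dvd.trans ?_ hd)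
    refine Dvd.dvd.mul_left ?_ _
    refine Nat.mul_dvd_mul ?_ dvd_rfl
    exact Dvd.dvd.mul_right (dvd_mul_left _ _) _
  refine not_dvd_X hr (Dvd.dvd.trans ?_ h5)
  rw [← pow_mul]
  exact (hr.dvd_iff _).2 (by norm_num)

theorem kill_td4 {S : Type} [Group S] {p f f₁ : ℕ} (hp : p.Prime) (hf : 1 ≤ f) (h1 : f₁ * 12 = f * 18)
    (h : IsNamed (.td4 (p ^ f₁)) S) (hd : Nat.card S ∣ num (.e7 (p ^ f))) : False := by
  obtain ⟨g, rfl⟩ : ∃ g, f = g * 2 := ⟨f / 2, by omega⟩
  obtain rfl : f₁ = g * 3 := by omega
  obtain ⟨s, hs⟩ : ∃ s, s = p ^ g := ⟨_, rfl⟩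
  have hs2 : 2 ≤ s := by
    rw [hs]
    exact hp.two_le.trans (Nat.le_self_pow (by omega) p)
  rw [pow_mul, ← hs] at h hd
  obtain ⟨r, hr⟩ := exists_prim hs2 (show 3 ≤ 9 by norm_num) (by norm_num)
  have h2 : Nat.card S = (s ^ 3) ^ 12 * (((s ^ 3) ^ 2 - 1) * ((s ^ 3) ^ 6 - 1) * ((s ^ 3) ^ 8 + (s ^ 3) ^ 4 + 1)) := by
    have := h.eq
    change 1 * Nat.card S = _ at this
    rw [one_mul] at this
    exact this
  rw [h2, num_e7_eq] at hd
  have h3 : (s ^ 2) ^ 18 - 1 = ((s ^ 3) ^ 4 - 1) * ((s ^ 3) ^ 8 + (s ^ 3) ^ 4 + 1) := by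
    have h6 : 1 ≤ (s ^ 3) ^ 4 := Nat.one_le_pow _ _ (Nat.one_le_pow _ _ (by omega))
    have h7 : 1 ≤ (s ^ 2) ^ 18 := Nat.one_le_pow _ _ (Nat.one_le_pow _ _ (by omega))
    have h8 : (((s ^ 2) ^ 18 - 1 : ℕ) : ℤ) = ((((s ^ 3) ^ 4 - 1) * ((s ^ 3) ^ 8 + (s ^ 3) ^ 4 + 1) : ℕ) : ℤ) := by
      rw [Nat.cast_mul, Nat.cast_sub h6, Nat.cast_sub h7]
      push_cast
      ring
    exact_mod_cast h8
  have h4 : 0 < (s ^ 3) ^ 8 + (s ^ 3) ^ 4 + 1 := Nat.succ_pos _
  have h5 : (s ^ 3) ^ 6 - 1 ∣ (s ^ 2) ^ 63 * (((s ^ 2) ^ 2 - 1) * ((s ^ 2) ^ 6 - 1) *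
      ((s ^ 2) ^ 8 - 1) * ((s ^ 2) ^ 10 - 1) * ((s ^ 2) ^ 12 - 1) * ((s ^ 2) ^ 14 - 1)) * ((s ^ 3) ^ 4 - 1) := by
    refine Nat.dvd_of_mul_dvd_mul_right h4 (Dvd.dvd.trans ?_ (hd.trans (by rw [h3, ← mul_assoc])))
    refine Dvd.dvd.mul_left ?_ _
    refine Nat.mul_dvd_mul ?_ dvd_rfl
    exact dvd_mul_left _ _
  have h9 : r ∣ (s ^ 3) ^ 6 - 1 := by
    rw [← pow_mul]
    exact (hr.dvd_iff _).2 (by norm_num)
  rcases hr.prime.dvd_mul.1 (h9.trans h5) with h10 | h10
  · exact not_dvd_X hr h10
  · rw [← pow_mul] at h10
    exact absurd ((hr.dvd_iff _).1 h10) (by norm_num)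

end multiplicity

theorem kill_psu10 {S : Type} [Group S] (h : IsNamed (.psu 10 2) S) (hd : Nat.card S ∣ num (.e7 2)) : False := by
  have h1 := h.eq
  have h2 : den (.psu 10 2) = 3 := by decide +kernel
  rw [h2] at h1
  have h3 : num (.psu 10 2) ∣ 3 * num (.e7 2) := by
    rw [← h1]
    exact Nat.mul_dvd_mul_left 3 hd
  revert h3
  decide +kernel

/-! ### the twisted groups of rank one and two -/

section twisted

variable {S : Type} [Group S]

theorem ph_le {q N : ℕ} (h : N = ncl 18 q) : Ph 18 q ≤ N * 3 := by
  rw [h]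
  exact Ph_le 18 q (by decide)

theorem prime_eq {p k f₁ n : ℕ} (hp : p.Prime) (hk : k.Prime) (hn : n ≠ 0) (h : p ^ f₁ = k ^ n) : p = k ∧ f₁ = n := by
  have h1 : k ∣ p ^ f₁ := by
    rw [h]
    exact dvd_pow_self k hn
  have h2 := (Nat.prime_dvd_prime_iff_eq hk hp).1 (hk.dvd_of_dvd_pow h1)
  subst h2
  exact ⟨rfl, Nat.pow_right_injective hp.two_le h⟩

theorem kill_sz {p f f₁ : ℕ} (hp : p.Prime) (hf : 1 ≤ f) (h1 : f₁ * 4 = f * 18) (h : IsNamed (.sz (p ^ f₁)) S)
    (hy : ∃ y : S, orderOf y = ncl 18 (p ^ f)) : False := by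
  obtain ⟨F, _, _, m, hm, hF, hQ, ⟨e⟩⟩ := h.real
  obtain ⟨y, hy⟩ := hy
  obtain ⟨rfl, hfm⟩ := prime_eq hp Nat.prime_two (by omega) hQ
  obtain ⟨g, rfl⟩ : ∃ g, f = g * 2 := ⟨f / 2, by (clear * - h1; omega)⟩
  obtain rfl : f₁ = g * 9 := by (clear * - h1; omega)
  have h2 : Ph 18 (2 ^ (g * 2)) ≤ orderOf y * 3 := ph_le hy
  have h3 : orderOf y ≤ 2 ^ (g * 9) * 2 := by
    rw [← MulEquiv.orderOf_eq e y]
    have e1 : 2 ^ (2 * m + 1) = 2 * (2 ^ m * 2 ^ m) := by ring
    have e2 : 2 ^ (m + 1) = 2 * 2 ^ m := by ring
    have e3 : 2 ≤ 2 ^ m := Nat.le_self_pow (by omega) 2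
    have e4 : 2 * 2 ^ m ≤ 2 ^ m * 2 ^ m := Nat.mul_le_mul_right _ e3
    rw [hQ]
    rcases Cfsg.Agent.H381.SzSpec.spec hm (hF.trans hQ) (e y) with h4 | ⟨n, hn, h4⟩
    · have := Nat.le_of_dvd (by norm_num) h4
      omega
    · rcases (Cfsg.Agent.H98.SzPartition.mem_torusOrders_iff m n).1 hn with rfl | rfl | rfl
      · have := Nat.le_of_dvd (by omega) h4
        (clear * - this; omega)
      · have := Nat.le_of_dvd (by omega) h4
        omega
      · have := Nat.le_of_dvd (by omega) h4
        omega
  obtain ⟨s, hs⟩ : ∃ s, s = 2 ^ g := ⟨_, rfl⟩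
  have hs2 : 2 ≤ s := by
    rw [hs]
    exact Nat.le_self_pow (by omega) 2
  have h5 : 2 ^ (g * 2) = s ^ 2 := by rw [hs, ← pow_mul]
  have h6 : 2 ^ (g * 9) = s ^ 9 := by rw [hs, ← pow_mul]
  rw [h5, Ph18_eq (Nat.one_le_pow _ _ (by omega))] at h2
  rw [h6] at h3
  have h7 : (s ^ 2) ^ 3 = s ^ 6 := by rw [← pow_mul]
  rw [h7] at h2
  have h8 : s ^ 9 = s ^ 6 * s ^ 3 := by rw [← pow_add]
  have h9 : 8 ≤ s ^ 3 := Nat.pow_le_pow_left hs2 3
  have h10 : s ^ 6 = s ^ 3 * s ^ 3 := by rw [← pow_add]
  have h11 : 0 < s ^ 6 := Nat.pow_pos (by omega)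
  have h12 : s ^ 6 * (s ^ 6 - 1) < s ^ 6 * (6 * s ^ 3) := by
    calc s ^ 6 * (s ^ 6 - 1) < Ph 18 (s ^ 2) := by
          rw [Ph18_eq (Nat.one_le_pow _ _ (by omega)), h7]; omega
      _ ≤ orderOf y * 3 := by rw [Ph18_eq (Nat.one_le_pow _ _ (by omega)), h7]; exact h2
      _ ≤ s ^ 9 * 2 * 3 := Nat.mul_le_mul_right _ h3
      _ = s ^ 6 * (6 * s ^ 3) := by rw [h8]; ring
  have h13 := Nat.lt_of_mul_lt_mul_left h12
  have h14 : 8 * s ^ 3 ≤ s ^ 6 := by
    rw [h10]
    exact Nat.mul_le_mul_right _ h9
  omega

theorem kill_ree {p f f₁ : ℕ} (hp : p.Prime) (hf : 1 ≤ f) (h1 : f₁ * 6 = f * 18) (h : IsNamed (.ree (p ^ f₁)) S)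
    (hy : ∃ y : S, orderOf y = ncl 18 (p ^ f)) : False := by
  obtain ⟨F, _, _, m, hm, hF, hQ, ⟨e⟩⟩ := h.real
  obtain ⟨y, hy⟩ := hy
  obtain ⟨rfl, hfm⟩ := prime_eq hp Nat.prime_three (by omega) hQ
  obtain rfl : f₁ = f * 3 := by omega
  have h2 : Ph 18 (3 ^ f) ≤ orderOf y * 3 := ph_le hy
  have h3 : orderOf y ≤ 3 ^ (f * 3) * 2 := by
    rw [← MulEquiv.orderOf_eq e y]
    have e1 : 3 ^ (2 * m + 1) = 3 * (3 ^ m * 3 ^ m) := by ring
    have e2 : 3 ^ (m + 1) = 3 * 3 ^ m := by ring
    have e3 : 3 ≤ 3 ^ m := Nat.le_self_pow (by omega) 3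
    have e4 : 3 * 3 ^ m ≤ 3 ^ m * 3 ^ m := Nat.mul_le_mul_right _ e3
    rw [hQ]
    rcases (Cfsg.Agent.S1159.result hm (hF.trans hQ) (orderOf (e y))).1 ⟨e y, rfl⟩ with h4 | h4 | h4 | h4 | h4 | h4
    · have := Nat.le_of_dvd (by norm_num) h4
      omega
    · have := Nat.le_of_dvd (by norm_num) h4
      omega
    · have := Nat.le_of_dvd (by omega) h4
      (clear * - this; omega)
    · have := Nat.le_of_dvd (by omega) h4
      (clear * - this; omega)
    · have := Nat.le_of_dvd (by omega) h4
      omega
    · have := Nat.le_of_dvd (by omega) h4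
      omega
  have hq3 : 1 ≤ 3 ^ f := Nat.one_le_pow _ _ (by norm_num)
  rw [Ph18_eq hq3, ← pow_mul] at h2
  have h4 : 27 ≤ 3 ^ (f * 3) := by
    calc 27 = 3 ^ (1 * 3) := by norm_num
      _ ≤ 3 ^ (f * 3) := Nat.pow_le_pow_right (by norm_num) (Nat.mul_le_mul_right _ hf)
  generalize 3 ^ (f * 3) = Q at h2 h3 h4
  have h5 : Q * (Q - 1) < Q * 6 := by
    calc Q * (Q - 1) < orderOf y * 3 := h2
      _ ≤ Q * 2 * 3 := Nat.mul_le_mul_right _ h3
      _ = Q * 6 := by ring
  have h6 := Nat.lt_of_mul_lt_mul_left h5
  omega

theorem kill_tf4 {p f f₁ : ℕ} (hp : p.Prime) (hf : 1 ≤ f) (h1 : f₁ * 12 = f * 18) (h : IsNamed (.tf4 (p ^ f₁)) S)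
    (hy : ∃ y : S, orderOf y = ncl 18 (p ^ f)) : False := by
  obtain ⟨F, _, _, m, hm, hF, hQ, ⟨e⟩⟩ := h.real
  obtain ⟨y, hy⟩ := hy
  obtain ⟨rfl, hfm⟩ := prime_eq hp Nat.prime_two (by omega) hQ
  obtain ⟨g, rfl⟩ : ∃ g, f = g * 2 := ⟨f / 2, by (clear * - h1; omega)⟩
  obtain rfl : f₁ = g * 3 := by (clear * - h1; omega)
  have hx : 2 ≤ 2 ^ m := Nat.le_self_pow (by omega) 2
  have hF' := hF.trans hQ
  have hy' : ∃ y : ↥(Cfsg.Lie.twistedF4 F (2 ^ m)), orderOf y = ncl 18 (2 ^ (g * 2)) :=
    ⟨e y, (MulEquiv.orderOf_eq e y).trans hy⟩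
  have hq1 : 1 ≤ 2 ^ (g * 2) := Nat.one_le_pow _ _ (by norm_num)
  have hPh : (Ph 18 (2 ^ (g * 2)) : ℤ) = mP (2 ^ m) * mM (2 ^ m) := by
    rw [mP_mul_mM hx]
    have h2 := cast_Ph18 (q := 2 ^ (g * 2)) ℤ hq1
    rw [h2]
    have h3 : (((2 ^ (g * 2) : ℕ)) : ℤ) ^ 3 = (2 * (((2 ^ m : ℕ)) : ℤ) ^ 2) ^ 2 := by
      have h4 : (2 ^ (g * 2)) ^ 3 = (2 * (2 ^ m) ^ 2) ^ 2 := by
        rw [q_TF, ← hfm, ← pow_mul, ← pow_mul]
        congr 1
        ring
      exact_mod_cast h4
    have h5 : (((2 ^ (g * 2) : ℕ)) : ℤ) ^ 6 = ((((2 ^ (g * 2) : ℕ)) : ℤ) ^ 3) ^ 2 := by rw [← pow_mul]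
    rw [h5, h3]
    ring
  have hPh' : Ph 18 (2 ^ (g * 2)) = mP (2 ^ m) * mM (2 ^ m) := by exact_mod_cast hPh
  have key : ∀ r : ℕ, r.Prime → Prim (2 * (2 ^ m) ^ 2) 12 r → r ∣ mP (2 ^ m) * mM (2 ^ m) →
      r ∣ ncl 18 (2 ^ (g * 2)) := by
    intro r hr hpr hd
    rw [← hPh', ← ncl_mul 18 (2 ^ (g * 2))] at hd
    rcases hr.dvd_mul.1 hd with h2 | h2
    · exact h2
    · exfalso
      have h3 : r ∣ 3 := h2.trans (Nat.gcd_dvd_left 3 _)
      have h4 := Nat.le_of_dvd (by norm_num) h3
      have h5 := prim_lt hpr (by norm_num)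
      omega
  have hP1 : mP (2 ^ m) ≠ 1 := by
    unfold mP
    omega
  have hM1 : mM (2 ^ m) ≠ 1 := by
    intro h2
    have h3 := cast_mM hx
    rw [h2] at h3
    obtain ⟨t, ht⟩ := Nat.exists_eq_add_of_le hx
    rw [ht] at h3
    push_cast at h3
    have e : 1 - 2 * (2 + (t : ℤ)) + 2 * (2 + (t : ℤ)) ^ 2 - 4 * (2 + (t : ℤ)) ^ 3 + 4 * (2 + (t : ℤ)) ^ 4 =
      1 + (36 + 86 * t + 74 * t ^ 2 + 28 * t ^ 3 + 4 * t ^ 4) := by ring
    rw [e] at h3
    have : (0 : ℤ) < 36 + 86 * t + 74 * t ^ 2 + 28 * t ^ 3 + 4 * t ^ 4 := by (clear * -; positivity)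
    (clear * - h3 this; omega)
  obtain ⟨r, hr, hrP⟩ := Nat.exists_prime_and_dvd hP1
  obtain ⟨r', hr', hrM⟩ := Nat.exists_prime_and_dvd hM1
  have h2 := dvd_of_big (big_TF4_plus hF' hm hr hrP) (key r hr (prim_of_mP hm hr hrP) (hrP.mul_right _))
    (ncl_pos 18 hq1) hy'
  have h3 := dvd_of_big (big_TF4_minus hF' hm hr' hrM) (key r' hr' (prim_of_mM hm hr' hrM) (hrM.mul_left _))
    (ncl_pos 18 hq1) hy'
  exact not_dvd_both hm hr hrP ((key r hr (prim_of_mP hm hr hrP) (hrP.mul_right _)).trans h3)

end twisted

/-- **(N1) own characteristic.** -/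
theorem names_e7_18 {p f : ℕ} (hp : p.Prime) (hf : 1 ≤ f) {S : Type} [Group S] [Finite S] {g : Grp}
    (hg : IsNamed g S) (hch : HasChar p g) (hd : Nat.card S ∣ num (.e7 (p ^ f))) (hn : ncl 18 (p ^ f) ∣ Nat.card S)
    (hb : ∀ r, Prim (p ^ f) 18 r → Big S r ((p ^ f + 1) * Ph 18 (p ^ f)) 18)
    (hy : ∃ y : S, orderOf y = ncl 18 (p ^ f)) :
    g = .psu 3 ((p ^ f) ^ 3) ∨ g = .g2 ((p ^ f) ^ 3) ∨ g = .te6 (p ^ f) ∨ g = .e7 (p ^ f) ∨
      (p ^ f = 2 ∧ g = .psu 9 2) := by
  have hq1 : 1 ≤ p ^ f := Nat.one_le_pow _ _ hp.pos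
  have hz : ZT p f 18 (Nat.card S) := fun s hs =>
    (dvd_ncl (Or.inr (Or.inr (Or.inr (Or.inr (Or.inl rfl))))) hq1 (Cfsg.Agent.H264.GN.prim_pow hf hs)).trans hn
  obtain ⟨f₁, hf₁, h⟩ := charp_e7_18 hp hf hg.cond hch hg.eq hd hz
  have e3 : f₁ * 6 = f * 18 → p ^ f₁ = (p ^ f) ^ 3 := by
    intro h
    obtain rfl : f₁ = f * 3 := by omega
    rw [pow_mul]
  have e1 : f₁ * 18 = f * 18 → f₁ = f := fun h => by omega
  rcases h with ⟨h, rfl⟩ | ⟨h, rfl⟩ | ⟨h, rfl⟩ | ⟨h, rfl⟩ | ⟨h, rfl⟩ | ⟨h, rfl⟩ | ⟨h, rfl⟩ | ⟨h, rfl⟩ | ⟨h, rfl⟩ | ⟨h, rfl⟩ |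
    ⟨h, rfl⟩ | ⟨h, rfl⟩ | ⟨h, rfl⟩ | ⟨h, rfl⟩ | ⟨h, rfl⟩ | ⟨h, rfl⟩ | ⟨h, rfl⟩ | ⟨h, rfl⟩
  · exact (kill_psl2 hp hf hb h hg).elim
  · exact (kill_psl3 hp hf hb h hg).elim
  · exact (kill_psp2 hp hf hb h hg).elim
  · exact (kill_psp3 hp hf hb h hg).elim
  · exact (kill_oodd3 hp hf hb h hg).elim
  · rw [e3 h]
    exact Or.inl rfl
  · exact (kill_psu4 hp hf hb h hg).elim
  · obtain rfl := e1 h
    by_cases h2 : p ^ f₁ = 2
    · rw [h2]
      exact Or.inr (Or.inr (Or.inr (Or.inr ⟨rfl, rfl⟩)))
    · exact (kill_psu9 hp hf hb le_rfl h2 hg).elim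
  · obtain rfl := e1 h
    by_cases h2 : p ^ f₁ = 2
    · rw [h2] at hg hd
      exact (kill_psu10 hg hd).elim
    · exact (kill_psu9 hp hf hb (by norm_num) h2 hg).elim
  · exact (kill_oplus4 hp hf hb h hg).elim
  · rw [e3 h]
    exact Or.inr (Or.inl rfl)
  · exact (kill_f4 hp hf h hg hd).elim
  · obtain rfl := e1 h
    exact Or.inr (Or.inr (Or.inr (Or.inl rfl)))
  · obtain rfl := e1 h
    exact Or.inr (Or.inr (Or.inl rfl))
  · exact (kill_td4 hp hf h hg hd).elim
  · exact (kill_sz hp hf h hg hy).elim
  · exact (kill_ree hp hf h hg hy).elim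
  · exact (kill_tf4 hp hf h hg hy).elim

end Cfsg.Agent.H154.Wei
end

-- part: H318/Wei/KillA
section
/-!
# The sections of `E₇(q)` containing the torus of class 18 (helper318, S3938)

`kill_psu3`, `kill_g2`, `kill_te6` : an almost simple group with socle `U₃(q³)`, `G₂(q³)`, `²E₆(q)` has no element `x` of
order `(q + 1)(q⁶ - q³ + 1) / (2, q - 1)` with a power of order `r`, `r` a primitive prime divisor of `q¹⁸ - 1`, in the
socle (for `G₂(q³)`: if every element of the socle inverting the power inverts `x`, and the automizer of class 9 of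
`E₇(3)`).
-/

set_option autoImplicit false

namespace Cfsg.Agent.H318.Wei

open Cfsg Cfsg.Agent.OrdDiv Cfsg.Agent.H436 Cfsg.Agent.H56.Exc Cfsg.Agent.H563.KG Subgroup

/-- the order of an element divides the orders of the centralisers of its powers -/
theorem order_dvd_cent {A : Type*} [Group A] [Finite A] {x s : A} (h : Commute x s) :
    orderOf x ∣ Nat.card ↥(centralizer ({s} : Set A)) := by
  have h2 : x ∈ centralizer ({s} : Set A) := by
    rw [mem_centralizer_singleton_iff]
    exact h.eq
  have := _root_.orderOf_dvd_natCard (⟨x, h2⟩ : centralizer ({s} : Set A))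
  rwa [Subgroup.orderOf_mk] at this

theorem commute_of_mem {A : Type*} [Group A] {x s : A} (h : s ∈ zpowers x) : Commute x s := by
  obtain ⟨k, rfl⟩ := h
  exact (Commute.refl x).zpow_right k

/-- a multiple of the order -/
theorem OrdX.add_one_dvd {q N k : ℕ} (hx : OrdX q N) (h : N ∣ k * (q ^ 6 - q ^ 3 + 1)) :
    q + 1 ∣ Nat.gcd 2 (q - 1) * k := by
  have h1 : (q + 1) * (q ^ 6 - q ^ 3 + 1) ∣ (Nat.gcd 2 (q - 1) * k) * (q ^ 6 - q ^ 3 + 1) := by
    rw [← hx.eq, mul_assoc]
    exact mul_dvd_mul_left _ h
  exact Nat.dvd_of_mul_dvd_mul_right (by omega) h1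

/-- **`U₃(q³)`** -/
theorem kill_psu3 {A : Type} [Group A] [Finite A] (S : Subgroup A) [S.Normal]
    (hC : centralizer (S : Set A) = ⊥) {p f : ℕ} (hp : p.Prime) (hf : 1 ≤ f)
    (hS : IsNamed (.psu 3 ((p ^ f) ^ 3)) ↥S) {x s : A} (hx : OrdX (p ^ f) (orderOf x)) {r : ℕ}
    (hr : Prim p (f * 18) r) (hs : s ∈ S) (ho : orderOf s = r) (hsx : s ∈ zpowers x) : False := by
  have hq2 : 2 ≤ p ^ f := hp.two_le.trans (Nat.le_self_pow (by omega) p)
  have e1 : (p ^ f) ^ 3 = p ^ (3 * f) := by rw [← pow_mul, mul_comm]
  have h8 : 2 ^ 3 ≤ (p ^ f) ^ 3 := Nat.pow_le_pow_left hq2 3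
  rw [e1] at hS
  have h1 := Cfsg.Agent.H441.Wei.card_cent_psu3 hp (a := 3 * f) (by omega) (by rw [← e1]; omega) S hC hS (r := r)
    (by rw [show 6 * (3 * f) = f * 18 by ring]; exact hr) hs ho
  have h2 := (order_dvd_cent (commute_of_mem hsx)).trans h1
  rw [← e1, ← pow_mul] at h2
  have h3 := hx.add_one_dvd (k := 1) (by rw [one_mul]; exact h2)
  rw [mul_one] at h3
  have h4 := Nat.le_of_dvd (Nat.gcd_pos_of_pos_left _ (by norm_num)) h3
  have h5 : Nat.gcd 2 (p ^ f - 1) ≤ 2 := Nat.gcd_le_left _ (by norm_num)
  omega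

/-- Frattini -/
theorem exists_frattini {A : Type*} [Group A] [Finite A] {r m e : ℕ} (h : Big A r m e) (S : Subgroup A) [hSn : S.Normal]
    (hrS : r ∣ Nat.card S) : ∃ u : S, orderOf u = r ∧ normalizer (zpowers (u : A) : Set A) ⊔ S = ⊤ := by
  have hr := h.prime
  have : Fact r.Prime := ⟨hr⟩
  obtain ⟨P₀⟩ : Nonempty (Sylow r S) := inferInstance
  have hbS := h.subgroup S
  have hP₀1 : (P₀ : Subgroup S) ≠ ⊥ := by
    intro h1
    have h2 := P₀.card_eq_multiplicity
    rw [h1, Subgroup.card_bot] at h2
    have h3 : 1 ≤ (Nat.card S).factorization r :=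
      (hr.dvd_iff_one_le_factorization Nat.card_pos.ne').1 hrS
    have h4 := Nat.one_lt_pow (Nat.one_le_iff_ne_zero.1 h3) hr.one_lt
    omega
  obtain ⟨x, hxP₀, hx, -⟩ := exists_central_orderOf P₀.2 hP₀1
  have hcyc : IsCyclic ↥((P₀ : Subgroup S).map S.subtype) := h.isCyclic_of_isPGroup (P₀.2.map _)
  have hF := Sylow.normalizer_sup_eq_top P₀
  refine ⟨x, hx, ?_⟩
  rw [eq_top_iff, ← hF]
  refine sup_le_sup_right ?_ S
  intro y hy
  apply Cfsg.Agent.H363.Wei.mem_norm_zpowers
  have h1 : y * (x : A) * y⁻¹ ∈ (P₀ : Subgroup S).map S.subtype :=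
    (mem_normalizer_iff.1 hy (x : A)).1 ⟨x, hxP₀, rfl⟩
  exact mem_zpowers_of_cyclic hcyc ⟨x, hxP₀, rfl⟩ h1 (by
    rw [show orderOf (y * (x : A) * y⁻¹) = orderOf (x : A) from by
      rw [← MulAut.conj_apply]; exact (MulAut.conj y).orderOf_eq _])

/-- a real element of odd order in the socle, an element outside the socle: the normaliser has order divisible by 4 -/
theorem four_dvd {A : Type*} [Group A] [Finite A] {r m e : ℕ} (h : Big A r m e) (hr2 : r ≠ 2) (S : Subgroup A)
    [hSn : S.Normal] (hrS : r ∣ Nat.card S) (hidx : 2 ∣ S.index)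
    (hreal : ∀ u : S, orderOf u = r → ∃ t : S, t * u * t⁻¹ = u⁻¹) : 4 ∣ e * m := by
  obtain ⟨u, hu, hN⟩ := exists_frattini h S hrS
  obtain ⟨t, ht⟩ := hreal u hu
  have huA : orderOf (u : A) = r := by rw [Subgroup.orderOf_coe, hu]
  have h1 := h.card_normalizer_dvd huA
  refine dvd_trans ?_ h1
  set N := normalizer (zpowers (u : A) : Set A) with hNdef
  have h2 : S.index = S.relIndex N := by
    rw [← relIndex_top_right, ← hN, sup_comm, relIndex_sup_left]
  have htA : (t : A) * u * (t : A)⁻¹ = (u : A)⁻¹ := congrArg Subtype.val ht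
  have htN : (t : A) ∈ N := by
    apply Cfsg.Agent.H363.Wei.mem_norm_zpowers
    rw [htA]
    exact inv_mem (mem_zpowers _)
  -- the order of `t` is even
  have h3 : 2 ∣ orderOf (t : A) := by
    by_contra hodd
    have h4 : Commute ((t : A) ^ 2) (u : A) := by
      show (t : A) ^ 2 * u = u * (t : A) ^ 2
      have h5 : (t : A) * u = (u : A)⁻¹ * t := by rw [← htA]; group
      have h6 : (t : A) * (u : A)⁻¹ = u * t := by
        have := congrArg (fun z => (u : A) * (z * 1) * (u : A)⁻¹) h5
        simp only [mul_one] at this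
        have e2 : (u : A) * ((u : A)⁻¹ * t) * (u : A)⁻¹ = t * (u : A)⁻¹ := by group
        rw [e2] at this
        rw [← this]
        group
      rw [pow_two, mul_assoc, h5, ← mul_assoc, h6, mul_assoc]
    have h5 : Commute (t : A) (u : A) := by
      have hco : Nat.Coprime 2 (orderOf (t : A)) := (Nat.Prime.coprime_iff_not_dvd Nat.prime_two).2 hodd
      obtain ⟨k, hk⟩ := exists_pow_eq_self_of_coprime hco
      rw [← hk]
      exact h4.pow_left k
    have h6 : (u : A) = (u : A)⁻¹ := by
      rw [← htA, h5.eq]
      group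
    have h7 : (u : A) ^ 2 = 1 := by
      rw [pow_two]
      nth_rewrite 2 [h6]
      exact mul_inv_cancel _
    have h8 := orderOf_dvd_of_pow_eq_one h7
    rw [huA] at h8
    exact hr2 ((Nat.prime_dvd_prime_iff_eq h.prime Nat.prime_two).1 h8)
  have h4 : 2 ∣ Nat.card ↥(S.subgroupOf N) := by
    refine h3.trans ?_
    have := _root_.orderOf_dvd_natCard (⟨⟨(t : A), htN⟩, t.2⟩ : ↥(S.subgroupOf N))
    rw [← Subgroup.orderOf_coe, ← Subgroup.orderOf_coe] at this
    exact this
  have h5 : Nat.card ↥(S.subgroupOf N) * S.relIndex N = Nat.card N := Subgroup.card_mul_index _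
  rw [← h5]
  exact mul_dvd_mul h4 (h2 ▸ hidx)

theorem phi_cast {q : ℕ} (hq : 1 ≤ q) : ((q ^ 6 - q ^ 3 + 1 : ℕ) : ℤ) = (q : ℤ) ^ 6 - (q : ℤ) ^ 3 + 1 := by
  have h0 : q ^ 3 ≤ q ^ 6 := Nat.pow_le_pow_right hq (by norm_num)
  push_cast [Nat.cast_sub h0]
  ring

theorem gcd3_dvd {q : ℕ} (hq : 1 ≤ q) : Nat.gcd 3 (q + 1) ∣ q ^ 6 - q ^ 3 + 1 := by
  rw [← Int.natCast_dvd_natCast, phi_cast hq]
  have h1 : ((Nat.gcd 3 (q + 1) : ℕ) : ℤ) ∣ (q : ℤ) + 1 := by
    exact_mod_cast Int.natCast_dvd_natCast.2 (Nat.gcd_dvd_right 3 (q + 1))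
  have h2 : ((Nat.gcd 3 (q + 1) : ℕ) : ℤ) ∣ 3 := by
    exact_mod_cast Int.natCast_dvd_natCast.2 (Nat.gcd_dvd_left 3 (q + 1))
  have e1 : (q : ℤ) ^ 6 - (q : ℤ) ^ 3 + 1 = ((q : ℤ) + 1) * (((q : ℤ) ^ 2 - q + 1) * ((q : ℤ) ^ 3 - 2)) + 3 := by ring
  rw [e1]
  exact dvd_add (h1.mul_right _) h2

/-- `q + 1` does not divide `2 f (2, q - 1)` -/
theorem eq_three {p f : ℕ} (hp : p.Prime) (hf : 1 ≤ f) (h : p ^ f + 1 ∣ Nat.gcd 2 (p ^ f - 1) * (2 * f)) : p ^ f = 3 := by
  have hg0 : 0 < Nat.gcd 2 (p ^ f - 1) := Nat.gcd_pos_of_pos_left _ (by norm_num)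
  have hg2 : Nat.gcd 2 (p ^ f - 1) ≤ 2 := Nat.gcd_le_left _ (by norm_num)
  have hle := Nat.le_of_dvd (Nat.mul_pos hg0 (by omega)) h
  have h2f : f < 2 ^ f := Nat.lt_two_pow_self
  rcases hp.eq_two_or_odd with rfl | hodd
  · exfalso
    have hg1 : Nat.gcd 2 (2 ^ f - 1) = 1 := by
      rcases (Nat.dvd_prime Nat.prime_two).1 (Nat.gcd_dvd_left 2 (2 ^ f - 1)) with h1 | h1
      · exact h1
      · exfalso
        have h3 := Nat.gcd_dvd_right 2 (2 ^ f - 1)
        rw [h1] at h3
        have h4 : 2 ∣ 2 ^ f := dvd_pow_self 2 (by omega)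
        omega
    rw [hg1, one_mul] at hle
    obtain ⟨k, rfl⟩ : ∃ k, f = k + 1 := ⟨f - 1, by omega⟩
    have h5 : k < 2 ^ k := Nat.lt_two_pow_self
    rw [pow_succ] at hle
    omega
  · have hp3 : 3 ≤ p := by
      have := hp.two_le
      omega
    have h3 : 3 ^ f ≤ p ^ f := Nat.pow_le_pow_left hp3 f
    have h4 : Nat.gcd 2 (p ^ f - 1) * (2 * f) ≤ 4 * f := by
      calc _ ≤ 2 * (2 * f) := Nat.mul_le_mul_right _ hg2
        _ = 4 * f := by ring
    have h5 : ∀ k : ℕ, 4 * (k + 2) ≤ 3 ^ (k + 2) := by
      intro k
      induction k with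
      | zero => norm_num
      | succ k ih =>
        rw [pow_succ]
        omega
    by_cases hf1 : f = 1
    · subst hf1
      rw [pow_one] at *
      omega
    · exfalso
      have h6 := h5 (f - 2)
      rw [Nat.sub_add_cancel (by omega)] at h6
      omega

/-- **`²E₆(q)`** -/
theorem kill_te6 {A : Type} [Group A] [Finite A] (S : Subgroup A) [S.Normal]
    (hC : centralizer (S : Set A) = ⊥) {p f : ℕ} (hp : p.Prime) (hf : 1 ≤ f)
    (hS : IsNamed (.te6 (p ^ f)) ↥S) {x s : A} (hx : OrdX (p ^ f) (orderOf x)) {r : ℕ}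
    (hr : Prim (p ^ f) 18 r) (hs : s ∈ S) (ho : orderOf s = r) (hsx : s ∈ zpowers x) : False := by
  have hpF := Fact.mk hp
  have hq2 : 2 ≤ p ^ f := hp.two_le.trans (Nat.le_self_pow (by omega) p)
  have hqp : IsPrimePow (p ^ f) := hp.isPrimePow.pow (by omega)
  obtain ⟨F, _, _, hF, ⟨φ⟩⟩ := hS.real
  have hF' : Fintype.card F = p ^ (2 * f) := by rw [hF, ← pow_mul, mul_comm]
  have : CharP F p := charP_of_card_eq_prime_pow hF'
  have h1 := Cfsg.Agent.S2130.result (K := F) p f hF' hf
  rw [← Cfsg.Agent.H934.OutB.card_out_congr φ] at h1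
  have hidx : S.index ∣ 2 * Nat.gcd 3 (p ^ f + 1) * f := by
    rw [← h1]
    exact Cfsg.Agent.H816.OutEmb.index_dvd S (by rw [hC]; exact bot_le)
  -- the centraliser in `S`
  have hcent : ∀ z : A, z ∈ S → Commute z s → orderOf z ∣ (((p ^ f) ^ 6 - (p ^ f) ^ 3 + 1) / Nat.gcd 3 (p ^ f + 1)) := by
    intro z hz hzs
    have h2 := (Cfsg.Agent.H190.Exc.te6_18 hqp hF hr).2 (φ ⟨s, hs⟩) (by
      rw [MulEquiv.orderOf_eq, Subgroup.orderOf_mk, ho])
    have h3 : Commute (φ ⟨z, hz⟩) (φ ⟨s, hs⟩) := by
      have : Commute (⟨z, hz⟩ : S) ⟨s, hs⟩ := Subtype.ext hzs.eq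
      exact this.map φ
    have hfin : Finite ↥(Lie.twistedE6 F (p ^ f)) := Finite.of_equiv S φ.toEquiv
    have h4 := order_dvd_cent h3
    rw [MulEquiv.orderOf_eq, Subgroup.orderOf_mk] at h4
    exact h4.trans h2
  have hcx := commute_of_mem hsx
  have h2 : x ^ S.index ∈ S := S.pow_index_mem x
  have h3 := hcent _ h2 (hcx.pow_left _)
  have h4 : orderOf x ∣ S.index * orderOf (x ^ S.index) := by
    apply orderOf_dvd_of_pow_eq_one
    rw [pow_mul, pow_orderOf_eq_one]
  have h5 : orderOf x ∣ (2 * f) * ((p ^ f) ^ 6 - (p ^ f) ^ 3 + 1) := by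
    refine h4.trans ((mul_dvd_mul hidx h3).trans ?_)
    have e1 : 2 * Nat.gcd 3 (p ^ f + 1) * f * (((p ^ f) ^ 6 - (p ^ f) ^ 3 + 1) / Nat.gcd 3 (p ^ f + 1)) =
        (2 * f) * (Nat.gcd 3 (p ^ f + 1) * (((p ^ f) ^ 6 - (p ^ f) ^ 3 + 1) / Nat.gcd 3 (p ^ f + 1))) := by ring
    rw [e1, Nat.mul_div_cancel' (gcd3_dvd (by omega))]
  have hq3 := eq_three hp hf (hx.add_one_dvd h5)
  -- `q = 3`
  rw [hq3] at hx hr hcent hS
  have hxS : x ∈ S := by
    refine Cfsg.Agent.H870.Wei.te6_three_cent S hC hS hr hs ho ?_
    rw [mem_centralizer_singleton_iff]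
    exact hcx.eq
  have h6 := hcent x hxS hcx
  have h7 := hx.add_one_dvd (k := 1) (by
    rw [one_mul]
    exact h6.trans (Nat.div_dvd_of_dvd (gcd3_dvd (by omega))))
  revert h7
  decide

theorem prim_9_757 : Prim 3 9 757 :=
  Cfsg.Agent.H563.KG.prim_of_dvd c9 (by norm_num) (by norm_num) (by decide +kernel)

theorem prim_757 : Prim (3 ^ 3) 3 757 := by
  refine ⟨by norm_num, fun m => ?_, by norm_num⟩
  rw [← pow_mul, prim_9_757.dvd_iff]
  omega

/-- **`G₂(q³)`** -/
theorem kill_g2 {A : Type} [Group A] [Finite A] (S : Subgroup A) [S.Normal] {p f : ℕ} (hp : p.Prime) (hf : 1 ≤ f)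
    (hS : IsNamed (.g2 ((p ^ f) ^ 3)) ↥S) {x s : A} (hx : OrdX (p ^ f) (orderOf x)) {r : ℕ}
    (hr : Prim (p ^ f) 18 r) (hs : s ∈ S) (ho : orderOf s = r) (hsx : s ∈ zpowers x)
    (hreal : ∀ t : A, t * s * t⁻¹ = s⁻¹ → t * x * t⁻¹ = x⁻¹)
    (hbig : p ^ f = 3 → Big A 757 757 18) : False := by
  have hpF := Fact.mk hp
  have hq2 : 2 ≤ p ^ f := hp.two_le.trans (Nat.le_self_pow (by omega) p)
  have hr6 : Prim ((p ^ f) ^ 3) 6 r := by
    refine ⟨hr.prime, fun m => ?_, fun h => hr.not_dvd_pow _ h⟩
    rw [← pow_mul, hr.dvd_iff]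
    omega
  obtain ⟨t, ht⟩ := Cfsg.Agent.H763.Wei.g2_real hS (Or.inl hr6) (s := ⟨s, hs⟩) (by rw [Subgroup.orderOf_mk, ho])
  have htx := hreal t (congrArg Subtype.val ht)
  have hx2 : x ^ 2 ∈ S := by
    have h1 : (t : A) * (x * (t : A)⁻¹ * x⁻¹) ∈ S :=
      mul_mem t.2 (Normal.conj_mem inferInstance _ (inv_mem t.2) x)
    have h2 : (t : A) * (x * (t : A)⁻¹ * x⁻¹) = (x ^ 2)⁻¹ := by
      calc _ = ((t : A) * x * (t : A)⁻¹) * x⁻¹ := by group
        _ = _ := by rw [htx, pow_two, mul_inv_rev]
    rw [h2] at h1
    simpa using inv_mem h1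
  obtain ⟨F, _, _, hF, ⟨φ⟩⟩ := id hS.real
  have hQ1 : (p ^ f) ^ 3 ≤ ((p ^ f) ^ 3) ^ 2 := Nat.le_self_pow (by norm_num) _
  have hb2 : Big S r (((p ^ f) ^ 3) ^ 2 - (p ^ f) ^ 3 + 1) 6 := by
    refine Big.congr (big_G2_6 hF ?_ hr6) φ.symm
    push_cast [Nat.cast_sub hQ1]
    ring
  have hcent : ∀ z : A, z ∈ S → Commute z s → orderOf z ∣ (p ^ f) ^ 6 - (p ^ f) ^ 3 + 1 := by
    intro z hz hzs
    have h2 := hb2.card ⟨s, hs⟩ (by rw [Subgroup.orderOf_mk, ho])
    have h3 : Commute (⟨z, hz⟩ : S) ⟨s, hs⟩ := Subtype.ext hzs.eq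
    have h4 := order_dvd_cent h3
    rw [Subgroup.orderOf_mk] at h4
    rw [← pow_mul] at h2
    exact h4.trans h2
  have hcx := commute_of_mem hsx
  have h3 := hcent _ hx2 (hcx.pow_left _)
  have h4 : orderOf x ∣ 2 * orderOf (x ^ 2) := by
    apply orderOf_dvd_of_pow_eq_one
    rw [pow_mul, pow_orderOf_eq_one]
  have h5 := hx.add_one_dvd (h4.trans (mul_dvd_mul_left 2 h3))
  have hg0 : 0 < Nat.gcd 2 (p ^ f - 1) := Nat.gcd_pos_of_pos_left _ (by norm_num)
  have hq3 : p ^ f = 3 := eq_three hp hf (by
    have e1 : Nat.gcd 2 (p ^ f - 1) * (2 * f) = Nat.gcd 2 (p ^ f - 1) * 2 * f := by ring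
    rw [e1]
    exact h5.mul_right f)
  rw [hq3] at hx hcent hS
  have hxS : x ∉ S := by
    intro hxS
    have h6 := hcent x hxS hcx
    have h7 := hx.add_one_dvd (k := 1) (by rw [one_mul]; exact h6)
    revert h7
    decide
  -- the index of `S` is even
  have hidx : 2 ∣ S.index := by
    have h6 : orderOf (QuotientGroup.mk' S x) ∣ 2 := by
      apply orderOf_dvd_of_pow_eq_one
      rw [← map_pow]
      exact (QuotientGroup.eq_one_iff _).2 hx2
    have h7 : orderOf (QuotientGroup.mk' S x) = 2 := by
      rcases (Nat.dvd_prime Nat.prime_two).1 h6 with h8 | h8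
      · exfalso
        rw [orderOf_eq_one_iff] at h8
        exact hxS ((QuotientGroup.eq_one_iff _).1 h8)
      · exact h8
    rw [← h7, Subgroup.index]
    exact _root_.orderOf_dvd_natCard _
  have hb := hbig hq3
  have hc : 757 ∣ Nat.card S := by
    have h6 := hS.eq
    have h7 : (757 : ℕ) ∣ num (.g2 (3 ^ 3)) := by decide +kernel
    rw [← h6] at h7
    exact ((by norm_num : Nat.Prime 757).dvd_mul.1 h7).resolve_left (by decide +kernel)
  have h8 := four_dvd hb (by norm_num) S hc hidx fun u hu =>
    Cfsg.Agent.H763.Wei.g2_real hS (Or.inr prim_757) hu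
  norm_num at h8

end Cfsg.Agent.H318.Wei
end

-- part: H296/Wei/Name18
section
/-!
# The name of a simple subgroup of `E₇(q)` containing the torus of class 18 (helper296, for helper318's E7 row)

After helper363's `Wei.Name30` and helper563's `KG.Tab`; the tables have exceptions here.
-/

set_option autoImplicit false
set_option exponentiation.threshold 700

namespace Cfsg.Agent.H296.Wei

open Cfsg Cfsg.Agent.OrdDiv Cfsg.Agent.H436 Cfsg.Agent.H902 Cfsg.Agent.H902.Names Cfsg.Agent.H290.ElReg
  Cfsg.Agent.H290.ElTab Cfsg.Agent.H290.ElCross Cfsg.Agent.H56.Exc Cfsg.Agent.H325.Loc Cfsg.Agent.H915.GN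
  Cfsg.Agent.H264.FKS Cfsg.Agent.H563.KG
open Cfsg.Agent.H363.Wei (not_alt)

/-- the survivors, with exceptions -/
def svRx (n : ℕ) (Y : Art.Sh) (cls : List ℕ) (ex : List ((Art.Sh × ℕ × ℕ) × ℕ × ℕ)) : Bool :=
  (reg n).all fun x => sm.all fun y =>
    decide ((x, y) ∈ ex) || (y.1 == x.2.1 || !(tq Y cls (OL x.1 (x.2.1 ^ x.2.2)) (Art.dd x.1 (x.2.1 ^ x.2.2)) y.2))

def svSx (Y : Art.Sh) (cls : List ℕ) (ex : List ((Cfsg.Agent.OrdDiv.Grp × ℕ) × ℕ × ℕ)) : Bool :=
  Cfsg.Agent.OrdDiv.spor.all fun x => sm.all fun y => decide ((x, y) ∈ ex) || !(tq Y cls x.2 1 y.2)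

variable {n : ℕ} {Y : Art.Sh} {cls : List ℕ} {e₀ p f : ℕ}

/-- **Cross characteristic, with exceptions.** -/
theorem no_cross_x {ex : List ((Art.Sh × ℕ × ℕ) × ℕ × ℕ)} (hn : n ≤ 248) (hb : bndR n e₀ = true)
    (hs : svRx n Y cls ex = true) (he₀ : Cls e₀) (hmem : e₀ ∈ cls)
    (hle : ∀ q, ncl e₀ q ≤ 2701 → q ≤ 7) {X : Art.Sh} {l a N : ℕ}
    (hR : Art.Real X l a N) (hlb : lb X (l ^ a) ≤ n) (hp : p.Prime) (hf : 1 ≤ f) (hpl : p ≠ l)
    (hcls : ∀ e ∈ cls, ncl e (p ^ f) ∣ N) (hd : N ∣ OL Y (p ^ f)) : ((X, l, a), (p, p ^ f)) ∈ ex := by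
  obtain ⟨hl, ha, hokX, heq⟩ := hR
  have hq : 2 ≤ p ^ f := hp.two_le.trans (Nat.le_self_pow (by omega) p)
  have hreg := mem_reg hn hl ha hokX hlb
  have hs' : smooth (NA X l a) = true :=
    List.all_eq_true.1 smooth_reg (X, (l, a)) (mem_reg le_rfl hl ha hokX (hlb.trans hn))
  have hsS : smooth (NS X l a) = true := by
    have h1 : NS X l a ∣ NA X l a := Dvd.intro_left _ rfl
    have h2 : NA X l a ∣ prs.prod ^ 100 := Nat.dvd_of_mod_eq_zero (by simpa [smooth] using hs')
    simpa [smooth] using Nat.mod_eq_zero_of_dvd (h1.trans h2)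
  have hM : OL X (l ^ a) = Art.dd X (l ^ a) * N := by unfold OL; rw [numL_eq]; exact heq.symm
  have hNM : N ∣ OL X (l ^ a) := Dvd.intro_left _ hM.symm
  have hNS : ∀ r, r.Prime → r ∣ N → r ∣ NS X l a := by
    intro r hr h
    unfold NS
    have h1 : r ∣ (l ^ a) ^ Art.NN X * numL X (l ^ a) := h.trans hNM
    rcases hr.dvd_mul.1 h1 with h2 | h2
    · exact (hr.dvd_of_dvd_pow (hr.dvd_of_dvd_pow h2)).mul_right _
    · exact h2.mul_left _
  have hb' := List.all_eq_true.1 hb (X, (l, a)) hreg
  simp only [Bool.and_eq_true, Nat.ble_eq, Nat.blt_eq] at hb'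
  have hM0 : OL X (l ^ a) ≠ 0 := by
    intro h0
    have h3 : l ^ a ≠ 0 := pow_ne_zero _ hl.ne_zero
    have h4 : NS X l a ≠ 0 := by
      intro h5
      have h6 : NS X l a ∣ prs.prod ^ 100 := Nat.dvd_of_mod_eq_zero (by simpa [smooth] using hsS)
      rw [h5] at h6
      have h7 := Nat.eq_zero_of_zero_dvd h6
      have h8 : prs.prod ≠ 0 := by decide +kernel
      exact pow_ne_zero 100 h8 h7
    apply h4
    unfold OL at h0
    rcases Nat.mul_eq_zero.1 h0 with h5 | h5
    · exact absurd h5 (pow_ne_zero _ h3)
    · unfold NS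
      rw [h5, mul_zero]
  have h1 : ncl e₀ (p ^ f) ∣ De (pd (NS X l a)) (OL X (l ^ a)) e₀ := by
    refine dvd_De hM0 hb'.2 ((hcls e₀ hmem).trans hNM) fun r hr hrd => ?_
    have hprim := prim_of_dvd he₀ (by omega) hr hrd
    exact ⟨mem_pd hsS hr (hNS r hr (hrd.trans (hcls e₀ hmem))), mod_of_prim hq (by
      have := he₀.ge
      omega) hprim⟩
  have h2 : ncl e₀ (p ^ f) ≤ 2701 := by
    have h3 : De (pd (NS X l a)) (OL X (l ^ a)) e₀ ≠ 0 := by
      unfold De
      intro h4
      rw [List.prod_eq_zero_iff, List.mem_map] at h4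
      obtain ⟨r, -, h5⟩ := h4
      exact hM0 (Nat.eq_zero_of_gcd_eq_zero_left h5)
    exact (Nat.le_of_dvd (Nat.pos_of_ne_zero h3) h1).trans hb'.1
  have h3 := mem_sm hp hf (hle _ h2)
  have h4 := List.all_eq_true.1 (List.all_eq_true.1 hs (X, (l, a)) hreg) _ h3
  rw [tq_of (fun e he => (hcls e he).trans hNM) hM hd] at h4
  simp only [Bool.not_true, Bool.or_false, Bool.or_eq_true, decide_eq_true_eq, beq_iff_eq] at h4
  rcases h4 with h4 | h4
  · exact h4
  · exact absurd h4 hpl

/-- **Sporadic groups, with exceptions.** -/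
theorem no_spor_x {ex : List ((Cfsg.Agent.OrdDiv.Grp × ℕ) × ℕ × ℕ)} (hb : bndS e₀ = true) (hs : svSx Y cls ex = true)
    (he₀ : Cls e₀) (hmem : e₀ ∈ cls)
    (hle : ∀ q, ncl e₀ q ≤ 2701 → q ≤ 7) {x : Cfsg.Agent.OrdDiv.Grp × ℕ} (hx : x ∈ Cfsg.Agent.OrdDiv.spor)
    (hp : p.Prime) (hf : 1 ≤ f)
    (hcls : ∀ e ∈ cls, ncl e (p ^ f) ∣ x.2) (hd : x.2 ∣ OL Y (p ^ f)) : (x, (p, p ^ f)) ∈ ex := by
  have hq : 2 ≤ p ^ f := hp.two_le.trans (Nat.le_self_pow (by omega) p)
  have hs' : smooth x.2 = true := List.all_eq_true.1 smooth_spor x hx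
  have hb' := List.all_eq_true.1 hb x hx
  simp only [Bool.and_eq_true, Nat.ble_eq, Nat.blt_eq] at hb'
  have hM0 : x.2 ≠ 0 := by
    have : ∀ x ∈ Cfsg.Agent.OrdDiv.spor, x.2 ≠ 0 := by decide +kernel
    exact this x hx
  have h1 : ncl e₀ (p ^ f) ∣ De (pd x.2) x.2 e₀ := by
    refine dvd_De hM0 hb'.2 (hcls e₀ hmem) fun r hr hrd => ?_
    have hprim := prim_of_dvd he₀ (by omega) hr hrd
    exact ⟨mem_pd hs' hr (hrd.trans (hcls e₀ hmem)), mod_of_prim hq (by
      have := he₀.ge
      omega) hprim⟩
  have h2 : ncl e₀ (p ^ f) ≤ 2701 := by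
    have h3 : De (pd x.2) x.2 e₀ ≠ 0 := by
      unfold De
      intro h4
      rw [List.prod_eq_zero_iff, List.mem_map] at h4
      obtain ⟨r, -, h5⟩ := h4
      exact hM0 (Nat.eq_zero_of_gcd_eq_zero_left h5)
    exact (Nat.le_of_dvd (Nat.pos_of_ne_zero h3) h1).trans hb'.1
  have h3 := mem_sm hp hf (hle _ h2)
  have h4 := List.all_eq_true.1 (List.all_eq_true.1 hs x hx) _ h3
  rw [tq_of hcls (one_mul _).symm hd] at h4
  simpa only [Bool.not_true, Bool.or_false, decide_eq_true_eq] using h4

def exR : List ((Art.Sh × ℕ × ℕ) × ℕ × ℕ) :=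
  [((.L 2, 19, 1), (2, 2)), ((.L 2, 37, 1), (3, 3)), ((.L 3, 7, 1), (2, 2))]

def exS : List ((Cfsg.Agent.OrdDiv.Grp × ℕ) × ℕ × ℕ) :=
  [((.j1, 175560), (2, 2)), ((.j3, 50232960), (2, 2)), ((.on, 460815505920), (2, 2))]

theorem svRx_E7_18 : svRx 133 .E7 [18] exR = true := by decide +kernel
theorem svSx_E7_18 : svSx .E7 [18] exS = true := by decide +kernel

theorem cls18 : Cls 18 := by unfold Cls; omega

/-- a group named with shape `L n` is `PSL_n` -/
theorem eq_psl_of_isLie {g : Grp} {n l a : ℕ} (h : IsLie g (.L n) l a) : g = .psl n (l ^ a) := by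
  cases h
  rfl

/-- **The name, one class.** -/
theorem exists_name18 (tb : OrderTable.{0}) {p f : ℕ} (hp : p.Prime) (hf : 1 ≤ f) {F : Type} [Field F] [CharP F p]
    {S : Type} [Group S] [Finite S] [IsSimpleGroup S] (hna : ¬ IsMulCommutative S) (hK : IsKnownSimple' S)
    (hrep : Fth 133 F S) (hcls : ncl 18 (p ^ f) ∣ Nat.card S) (hd : Nat.card S ∣ OL .E7 (p ^ f)) {m : ℕ}
    (hbig : ∀ r, Prim (p ^ f) 18 r → Big S r m 18) :
    ∃ g, IsNamed g S ∧ (HasChar p g ∨
      (p ^ f = 2 ∧ (g = .psl 2 19 ∨ g = .psl 3 7 ∨ g = .j1 ∨ g = .j3 ∨ g = .on)) ∨ (p ^ f = 3 ∧ g = .psl 2 37)) := by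
  have hna' : ¬ ∀ a b : S, a * b = b * a := fun h => hna ⟨⟨h⟩⟩
  have hq : 2 ≤ p ^ f := hp.two_le.trans (Nat.le_self_pow (by omega) p)
  obtain ⟨g, hgS⟩ := exists_named tb hK hna'
  have hcls' : ∀ e ∈ [18], ncl e (p ^ f) ∣ Nat.card S := fun e he => by
    rw [List.mem_singleton] at he
    subst he
    exact hcls
  rcases Cfsg.Agent.H192.Singer.cases_name hgS.cond with ⟨k, rfl⟩ | hsp | ⟨l, hl, hch⟩
  · exfalso
    obtain ⟨Φ⟩ : Nonempty (S ≃* alternatingGroup (Fin k)) := hgS.real
    have hk : 5 ≤ k := hgS.cond
    have hnil : ∀ r, Prim (p ^ f) 18 r → ∀ x : S, orderOf x = r →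
        Group.IsNilpotent (Subgroup.centralizer ({x} : Set S)) := fun r hr x hx => by
      have := (hbig r hr).cyc x hx
      let _ := IsCyclic.commGroup (α := ↥(Subgroup.centralizer ({x} : Set S)))
      infer_instance
    have h1 := window hq cls18 (by norm_num) (by omega) Φ hcls hnil
    obtain ⟨r, hr⟩ := exists_prim hq (show 3 ≤ 18 by omega) (by omega)
    have hrS : r ∣ Nat.card S := (dvd_ncl cls18 (by omega) hr).trans hcls
    rcases Nat.lt_or_ge 2 (p ^ f) with h3 | h3
    · have h2 : k ≤ r + 3 := by
        refine Cfsg.Agent.H290.ElRich.alt_le hr.prime ?_ Φ hrS (hnil r hr)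
        have := five_le_of_cls hq (show 7 ≤ 18 by norm_num) hr
        omega
      have h3 := ncl18_gt h3
      exact not_alt (hbig r hr) (by norm_num) hrS (by omega) Φ
    · have h2 : p ^ f = 2 := by omega
      rw [h2] at h1 hd
      have h4 : ncl 18 2 = 19 := by decide +kernel
      rw [h4] at h1
      have : Nontrivial (Fin k) := Fin.nontrivial_iff_two_le.2 (by omega)
      have h5 : 2 * Nat.card S = k.factorial := by
        rw [Nat.card_congr Φ.toEquiv, Nat.card_eq_fintype_card, two_mul_card_alternatingGroup, Fintype.card_perm,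
          Fintype.card_fin]
      have h6 : 2 * 5 ^ 3 ∣ k.factorial := by
        have h7 : Nat.factorial 19 ∣ k.factorial := Nat.factorial_dvd_factorial h1.1
        have h8 : 2 * 5 ^ 3 ∣ Nat.factorial 19 := by decide +kernel
        exact h8.trans h7
      rw [← h5] at h6
      have h7 : 5 ^ 3 ∣ Nat.card S := Nat.dvd_of_mul_dvd_mul_left (by norm_num) h6
      have h8 : ¬ 5 ^ 3 ∣ OL .E7 2 := by decide +kernel
      exact h8 (h7.trans hd)
  · have h1 := Cfsg.Agent.H192.Singer.spor_mem hsp
    have h2 : Nat.card S = ordN g := hgS.ord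
    have h3 := no_spor_x bndS_18 svSx_E7_18 cls18 (by decide) (fun q h => (le_four18 h).trans (by norm_num)) h1 hp hf
      (fun e he => by rw [← h2]; exact hcls' e he) (by rw [← h2]; exact hd)
    refine ⟨g, hgS, Or.inr (Or.inl ?_)⟩
    unfold exS at h3
    simp only [List.mem_cons, List.not_mem_nil, or_false, Prod.mk.injEq] at h3
    rcases h3 with ⟨⟨h, -⟩, -, h'⟩ | ⟨⟨h, -⟩, -, h'⟩ | ⟨⟨h, -⟩, -, h'⟩
    · exact ⟨h', Or.inr (Or.inr (Or.inl h))⟩
    · exact ⟨h', Or.inr (Or.inr (Or.inr (Or.inl h)))⟩
    · exact ⟨h', Or.inr (Or.inr (Or.inr (Or.inr h)))⟩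
  · by_cases hpl : p = l
    · subst hpl
      exact ⟨g, hgS, Or.inl hch⟩
    · obtain ⟨X, f₁, h1, h2, -⟩ := exists_lie hl hgS hch
      have hlF : (l : F) ≠ 0 := by
        intro h
        exact hpl ((Nat.prime_dvd_prime_iff_eq hp hl).1 ((CharP.cast_eq_zero_iff F p l).1 h))
      have h3 := lb_le hna' (by norm_num) hrep h1 hgS.real h2 hlF
      have h4 := no_cross_x (n := 133) (by norm_num) bndR_133_18 svRx_E7_18 cls18 (by decide)
        (fun q h => (le_four18 h).trans (by norm_num)) h2 h3 hp hf hpl hcls' hd
      refine ⟨g, hgS, Or.inr ?_⟩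
      unfold exR at h4
      simp only [List.mem_cons, List.not_mem_nil, or_false, Prod.mk.injEq] at h4
      rcases h4 with ⟨⟨rfl, rfl, rfl⟩, -, h'⟩ | ⟨⟨rfl, rfl, rfl⟩, -, h'⟩ | ⟨⟨rfl, rfl, rfl⟩, -, h'⟩
      · exact Or.inl ⟨h', Or.inl (by simpa using eq_psl_of_isLie h1)⟩
      · exact Or.inr ⟨h', by simpa using eq_psl_of_isLie h1⟩
      · exact Or.inl ⟨h', Or.inr (Or.inl (by simpa using eq_psl_of_isLie h1))⟩

end Cfsg.Agent.H296.Wei
end

-- part: H799/L37/Spec
section
/-!
# The element orders of `PSL₃(7)` (helper799)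

* `orderOf_dvd` : the order of an element of `PSL₃(7)` divides 6, 14, 16 or 19;
* `exists_orderOf` : there are elements of orders 2, 3, 7 and 19.
-/

set_option autoImplicit false

namespace Cfsg.Agent.H799.L37

open Matrix

/-- the condition on the element orders -/
def Sp (X : Type*) [Group X] : Prop :=
  ∀ x : X, orderOf x ∣ 6 ∨ orderOf x ∣ 14 ∨ orderOf x ∣ 16 ∨ orderOf x ∣ 19

theorem Sp.of_surjective {X Y : Type*} [Group X] [Group Y] (h : Sp X) (f : X →* Y)
    (hf : Function.Surjective f) : Sp Y := by
  intro y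
  obtain ⟨x, rfl⟩ := hf y
  have h1 := orderOf_map_dvd f x
  rcases h x with h | h | h | h
  · exact Or.inl (h1.trans h)
  · exact Or.inr (Or.inl (h1.trans h))
  · exact Or.inr (Or.inr (Or.inl (h1.trans h)))
  · exact Or.inr (Or.inr (Or.inr (h1.trans h)))

abbrev P := Matrix.ProjectiveSpecialLinearGroup (Fin 3) (ZMod 7)
abbrev SL := Matrix.SpecialLinearGroup (Fin 3) (ZMod 7)

instance : Fact (Nat.Prime 7) := ⟨by norm_num⟩

/-- multiplication by the matrix modulo its characteristic polynomial -/
def step (a b : ZMod 7) (v : ZMod 7 × ZMod 7 × ZMod 7) : ZMod 7 × ZMod 7 × ZMod 7 :=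
  (v.1 * a + v.2.1, v.2.2 - v.1 * b, v.1)

/-- the coefficients of the powers -/
def pw (a b : ZMod 7) : ℕ → ZMod 7 × ZMod 7 × ZMod 7
  | 0 => (0, 0, 1)
  | n + 1 => step a b (pw a b n)

/-- Cayley--Hamilton for `3 × 3` matrices. -/
theorem cube_eq {R : Type*} [CommRing R] (A : Matrix (Fin 3) (Fin 3) R) (h : A.det = 1) :
    A * (A * A) = (A 0 0 + A 1 1 + A 2 2) • (A * A) - (A 0 0 * A 1 1 - A 0 1 * A 1 0 +
      (A 0 0 * A 2 2 - A 0 2 * A 2 0) + (A 1 1 * A 2 2 - A 1 2 * A 2 1)) • A + 1 := by
  rw [Matrix.det_fin_three] at h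
  ext i j
  (revert i j; simp only [Matrix.mul_apply, Fin.sum_univ_three, Matrix.add_apply, Matrix.sub_apply, Matrix.smul_apply, _root_.Fin.forall_fin_succ, Fin.isValue, _root_.smul_eq_mul, _root_.Fin.succ_zero_eq_one, _root_.Fin.succ_one_eq_two, _root_.IsEmpty.forall_iff, _root_.and_true, _root_.Matrix.one_apply_eq, Nat.reduceAdd, _root_.ne_eq, _root_.zero_ne_one, _root_.not_false_eq_true, _root_.Matrix.one_apply_ne, _root_.add_zero, Fin.reduceEq, _root_.Fin.succ_ne_zero]) <;> (repeat' with_reducible apply And.intro) <;>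
    first
    | linear_combination h
    | ring

theorem pow_eq {A : Matrix (Fin 3) (Fin 3) (ZMod 7)} {a b : ZMod 7}
    (h : A * (A * A) = a • (A * A) - b • A + 1) (n : ℕ) :
    A ^ n = (pw a b n).1 • (A * A) + (pw a b n).2.1 • A + (pw a b n).2.2 • 1 := by
  induction n with
  | zero => simp only [pw, _root_.pow_zero, _root_.zero_smul, _root_.add_zero, _root_.one_smul, _root_.zero_add]
  | succ n ih =>
    rw [pow_succ', ih, mul_add, mul_add, mul_smul_comm, mul_smul_comm, mul_smul_comm, h]
    simp only [pw, step]
    rw [mul_one]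
    module

theorem exists_exp : ∀ a b : ZMod 7, ∃ e ∈ [6, 14, 16, 19], (pw a b e).1 = 0 ∧ (pw a b e).2.1 = 0 := by
  decide +kernel

/-- the projection -/
def mk : SL →* P := QuotientGroup.mk' (Subgroup.center SL)

theorem mk_surjective : Function.Surjective mk := QuotientGroup.mk'_surjective _

theorem mk_eq_one_iff {A : SL} :
    mk A = 1 ↔ ∃ c : ZMod 7, c ^ 3 = 1 ∧ c • (1 : Matrix (Fin 3) (Fin 3) (ZMod 7)) = A.1 := by
  have h1 : mk A = 1 ↔ A ∈ Subgroup.center SL := QuotientGroup.eq_one_iff A
  rw [h1, Matrix.SpecialLinearGroup.mem_center_iff]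
  simp only [Fintype.card_fin, Matrix.smul_one_eq_diagonal, Matrix.scalar_apply]

/-- **The element orders of `PSL₃(7)`.** -/
theorem sp : Sp P := by
  intro x
  obtain ⟨A, rfl⟩ := mk_surjective x
  obtain ⟨e, he, h1, h2⟩ := exists_exp (A.1 0 0 + A.1 1 1 + A.1 2 2) (A.1 0 0 * A.1 1 1 - A.1 0 1 * A.1 1 0 +
      (A.1 0 0 * A.1 2 2 - A.1 0 2 * A.1 2 0) + (A.1 1 1 * A.1 2 2 - A.1 1 2 * A.1 2 1))
  have h3 := pow_eq (cube_eq A.1 A.2) e
  rw [h1, h2, zero_smul, zero_smul, zero_add, zero_add] at h3
  have h4 : mk A ^ e = 1 := by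
    rw [← map_pow, mk_eq_one_iff]
    refine ⟨_, ?_, (h3.symm.trans (Matrix.SpecialLinearGroup.coe_pow A e).symm)⟩
    have h5 := congrArg Matrix.det h3
    rw [Matrix.det_pow, A.2, one_pow, Matrix.det_smul, Matrix.det_one, Fintype.card_fin, mul_one] at h5
    exact h5.symm
  have h5 := orderOf_dvd_of_pow_eq_one h4
  simp only [List.mem_cons, List.not_mem_nil, or_false] at he
  rcases he with rfl | rfl | rfl | rfl
  · exact Or.inl h5
  · exact Or.inr (Or.inl h5)
  · exact Or.inr (Or.inr (Or.inl h5))
  · exact Or.inr (Or.inr (Or.inr h5))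

end Cfsg.Agent.H799.L37
end

-- part: H344/Wei/Small
section
/-!
# S3938, the row `E_7` of the Weigel list: the small groups (helper344)

* `kill_171` : no element of order 171 in a group of automorphisms of `L_2(19)`, `L_3(7)`, `J_1`, `J_3`, `O'N`;
* `kill_703` : no element of order 703 in `L_2(37)`.
-/

set_option autoImplicit false
set_option linter.unusedVariables false

namespace Cfsg.Agent.H344.Wei

open Cfsg Cfsg.Agent.OrdDiv Cfsg.Agent.H436

/-- the sixth powers of the automorphisms are inner -/
def Six (K : Type*) [Group K] : Prop := ∀ φ : MulAut K, ∃ s : K, φ ^ 6 = MulAut.conj s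

theorem Six.congr {S K : Type*} [Group S] [Group K] (e : S ≃* K) (h : Six K) : Six S := by
  intro φ
  obtain ⟨g, hg⟩ := h ((e.symm.trans φ).trans e)
  refine ⟨e.symm g, ?_⟩
  ext x
  have h1 := congrArg (fun ψ : MulAut K => e.symm (ψ (e x))) hg
  simpa only [pow_succ, _root_.pow_zero, _root_.one_mul, _root_.MulAut.mul_apply, _root_.MulAut.conj_apply, _root_.MulEquiv.trans_apply, _root_.MulEquiv.symm_apply_apply, _root_.map_mul, _root_.map_inv] using h1

theorem six_of_card {K : Type*} [Group K] {n : ℕ} (h : Nat.card (Out K) = n) (hn : n ∣ 6) : Six K := by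
  intro φ
  have h1 : (QuotientGroup.mk φ : Out K) ^ 6 = 1 := by
    have h2 : (QuotientGroup.mk φ : Out K) ^ Nat.card (Out K) = 1 := pow_card_eq_one'
    rw [h] at h2
    obtain ⟨k, hk⟩ := hn
    rw [hk, pow_mul, h2, one_pow]
  rw [← QuotientGroup.mk_pow, QuotientGroup.eq_one_iff] at h1
  obtain ⟨s, hs⟩ := h1
  exact ⟨s, hs.symm⟩

theorem card_of_surj {G M : Type*} [Group G] [Group M] {φ : G →* M} (h : Function.Surjective φ) :
    Nat.card G = Nat.card M * Nat.card φ.ker := by
  rw [Subgroup.card_eq_card_quotient_mul_card_subgroup φ.ker,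
    Nat.card_congr (QuotientGroup.quotientKerEquivOfSurjective φ h).toEquiv]

theorem six_psl2 {F : Type*} [Field F] [Fintype F] (hF : Fintype.card F = 19) :
    Six (Matrix.ProjectiveSpecialLinearGroup (Fin 2) F) := by
  have : Fact (Nat.Prime 19) := ⟨by norm_num⟩
  obtain ⟨φ, h1, -, h2⟩ := S2602.result (F := F) (p := 19) (f := 1) le_rfl (by rw [hF, pow_one]) (by norm_num)
  refine six_of_card (n := 2) ?_ (by norm_num)
  rw [card_of_surj h1, h2]
  have h3 : Nat.card (Multiplicative (ZMod 1)) = 1 := by
    rw [Nat.card_congr Multiplicative.toAdd]; exact Nat.card_zmod 1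
  rw [h3]
  norm_num

theorem six_psl3 {F : Type*} [Field F] [Fintype F] (hF : Fintype.card F = 7) :
    Six (Matrix.ProjectiveSpecialLinearGroup (Fin 3) F) := by
  have : Fact (Nat.Prime 7) := ⟨by norm_num⟩
  obtain ⟨φ, h1, -, h2⟩ := S2601.result (F := F) (p := 7) (f := 1) (n := 3) le_rfl (by rw [hF, pow_one]) le_rfl
  refine six_of_card (n := 6) ?_ (by norm_num)
  rw [card_of_surj h1, h2]
  have h3 : Nat.card (Multiplicative (ZMod 1 × ZMod 2)) = 2 := by
    rw [Nat.card_congr Multiplicative.toAdd, Nat.card_prod, Nat.card_zmod, Nat.card_zmod]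
  rw [h3]
  norm_num

/-- no element of order 57 -/
def No57 (K : Type*) [Group K] : Prop := ∀ s : K, orderOf s ≠ 57

theorem No57.congr {S K : Type*} [Group S] [Group K] (e : S ≃* K) (h : No57 K) : No57 S := fun s hs =>
  h (e s) (by rw [MulEquiv.orderOf_eq e s, hs])

theorem no57_of_sc {K : Type*} [Group K] (h : Cfsg.Agent.H537.Cop.SC 19 K) : No57 K := by
  intro s hs
  have h1 : orderOf (s ^ 3) = 19 := by
    rw [orderOf_pow' s (by norm_num), hs]
    norm_num
  have h2 := orderOf_dvd_natCard (⟨s, Subgroup.mem_centralizer_singleton_iff.2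
    (((Commute.refl s).pow_right 3).eq)⟩ : Subgroup.centralizer ({s ^ 3} : Set K))
  rw [Subgroup.orderOf_mk, hs, h _ h1] at h2
  exact absurd h2 (by norm_num)

theorem no_mul_char {F : Type*} [Field F] [Fintype F] {p : ℕ} (hp : p.Prime) (hF : Fintype.card F = p) {m : ℕ}
    (hm : 1 < m) (s : Matrix.ProjectiveSpecialLinearGroup (Fin 2) F) : orderOf s ≠ m * p := by
  intro hs
  have hpf : Fact p.Prime := ⟨hp⟩
  have hch : CharP F p := by
    obtain ⟨q, hq⟩ := CharP.exists F
    obtain ⟨n, hqp, hn⟩ := FiniteField.card F q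
    have h1 : q = p := by
      have h2 : q ∣ p := by rw [← hF, hn]; exact dvd_pow_self q n.ne_zero
      exact (Nat.prime_dvd_prime_iff_eq hqp hp).1 h2
    exact h1 ▸ hq
  have h1 : orderOf (s ^ m) = p := by
    rw [orderOf_pow' s (by omega), hs, Nat.gcd_eq_right (dvd_mul_right m p), Nat.mul_div_cancel_left p (by omega)]
  have h2 : (s ^ m) ^ p = 1 := by rw [← h1]; exact pow_orderOf_eq_one _
  have h3 : s ^ m ≠ 1 := by
    intro h
    rw [h, orderOf_one] at h1
    exact hp.one_lt.ne h1
  have h4 := Cfsg.Agent.H109.PD.pow_char_of_comm h2 h3 (((Commute.refl s).pow_right m).eq)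
  have h5 := orderOf_dvd_of_pow_eq_one h4
  rw [hs] at h5
  have h6 := Nat.le_of_dvd hp.pos h5
  nlinarith only [hm, h6, hp.pos]

theorem no57_psl3 {F : Type*} [Field F] [Fintype F] (hF : Fintype.card F = 7) :
    No57 (Matrix.ProjectiveSpecialLinearGroup (Fin 3) F) := by
  have : Fact (Nat.Prime 7) := ⟨by norm_num⟩
  have e : F ≃+* ZMod 7 := FiniteField.ringEquivOfCardEq (by rw [hF, ZMod.card])
  refine No57.congr (Cfsg.Agent.LieClassical.FieldTransfer.pslCongr e) fun s hs => ?_
  have h := Cfsg.Agent.H799.L37.sp s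
  rw [hs] at h
  norm_num at h

theorem data {S : Type} [Group S] {g : Grp} (hg : g = .psl 2 19 ∨ g = .psl 3 7 ∨ g = .j1 ∨ g = .j3 ∨ g = .on)
    (hS : Real g S) : Six S ∧ No57 S := by
  rcases hg with rfl | rfl | rfl | rfl | rfl
  · obtain ⟨F, hF1, hF2, hF, ⟨e⟩⟩ := hS
    exact ⟨Six.congr e (six_psl2 hF), No57.congr e fun s => no_mul_char (by norm_num) hF (m := 3) (by norm_num) s⟩
  · obtain ⟨F, hF1, hF2, hF, ⟨e⟩⟩ := hS
    exact ⟨Six.congr e (six_psl3 hF), No57.congr e (no57_psl3 hF)⟩
  · refine ⟨?_, no57_of_sc (Cfsg.Agent.H537.Cop.j1_19 hS)⟩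
    obtain ⟨e⟩ := hS
    exact Six.congr (by exact e) (six_of_card S2065.result (by norm_num))
  · refine ⟨?_, no57_of_sc (Cfsg.Agent.H537.Cop.j3_19 hS)⟩
    obtain ⟨F, hF1, hF2, ω, hF, hω, ⟨e⟩⟩ := hS
    exact Six.congr e (six_of_card (S2067.result hF ω hω) (by norm_num))
  · obtain ⟨e⟩ := hS
    exact ⟨Six.congr e (six_of_card S2078.result (by norm_num)), No57.congr e (no57_of_sc fun x hx =>
      Cfsg.Agent.H981.SCON.card_cent_nineteen hx)⟩

/-- (N3) the small groups, `q = 2` -/
theorem kill_171 {A : Type} [Group A] [Finite A] (S : Subgroup A) [S.Normal]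
    (hC : Subgroup.centralizer (S : Set A) = ⊥) {g : Grp} (hg : g = .psl 2 19 ∨ g = .psl 3 7 ∨ g = .j1 ∨ g = .j3 ∨ g = .on)
    (hS : IsNamed g ↥S) {x : A} (hx : orderOf x = 171) (hxS : x ^ 9 ∈ S) : False := by
  obtain ⟨h1, h2⟩ := data hg hS.real
  obtain ⟨s, hs⟩ := h1 (MulAut.conjNormal x)
  have h3 : (s : A)⁻¹ * x ^ 6 = 1 := by
    rw [← Subgroup.mem_bot, ← hC, Subgroup.mem_centralizer_iff]
    intro y hy
    have h4 := congrArg (fun ψ : MulAut ↥S => ((ψ ⟨y, hy⟩ : ↥S) : A)) hs
    simp only [← map_pow, MulAut.conjNormal_apply, MulAut.conj_apply, Subgroup.coe_mul, Subgroup.coe_inv] at h4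
    have h5 : x ^ 6 * y = (s : A) * y * (s : A)⁻¹ * x ^ 6 := by rw [← h4]; group
    rw [mul_assoc, h5]
    group
  have h6 : x ^ 6 = (s : A) := by
    have := congrArg (fun z => (s : A) * z) h3
    simpa using this
  refine h2 s ?_
  rw [← Subgroup.orderOf_coe, ← h6, orderOf_pow' x (by norm_num), hx]
  norm_num

/-- (N4) -/
theorem kill_703 {S : Type} [Group S] [Finite S] (hS : IsNamed (.psl 2 37) S) {y : S} (hy : orderOf y = 703) : False := by
  obtain ⟨F, hF1, hF2, hF, ⟨e⟩⟩ := hS.real
  refine no_mul_char (by norm_num) hF (m := 19) (by norm_num) (e y) ?_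
  rw [MulEquiv.orderOf_eq e y, hy]

end Cfsg.Agent.H344.Wei
end

-- part: H318/Wei/Over
section
/-!
# The overgroups of the torus of class 18 of `E₇(q)` (helper318, S3938)

`over_E7` : a proper subgroup containing `x`, an element of order `(q + 1)(q⁶ - q³ + 1) / (2, q - 1)`, normalises the
subgroup `⟨x ^ (q⁶ - q³ + 1)⟩`.
-/

set_option autoImplicit false
set_option linter.unusedSectionVars false

namespace Cfsg.Agent.H318.Wei

open Cfsg Cfsg.Lie Cfsg.Agent.OrdDiv Cfsg.Agent.H436 Cfsg.Agent.H563.KG Cfsg.Agent.H56.Exc Cfsg.Agent.H325.Loc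
  Cfsg.Agent.H290.ElReg Cfsg.Agent.H264.FKS Cfsg.Agent.H363.Wei Cfsg.Agent.H682.TE6 Cfsg.Agent.H325.IsoFree
  Cfsg.Agent.H264.GN

variable {F : Type} [Field F] [Fintype F] {q : ℕ}

/-- the numerical condition -/
theorem small18 {q : ℕ} (hq : 3 ≤ q) : E7 18 * M7 q 18 < ncl 18 q * (ncl 18 q + 1) := by
  have hP : Ph 18 q ≤ ncl 18 q * 3 := Cfsg.Agent.H154.Wei.ph_le rfl
  have h3 : 26 * q ^ 3 + 1 ≤ Ph 18 q := by
    rw [ph18_eq (by omega)]
    have h4 : 3 ^ 3 ≤ q ^ 3 := Nat.pow_le_pow_left hq 3
    have h5 : 27 * q ^ 3 ≤ q ^ 6 := by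
      calc 27 * q ^ 3 ≤ q ^ 3 * q ^ 3 := Nat.mul_le_mul_right _ (by omega)
        _ = q ^ 6 := by ring
    omega
  have h4 : 9 * q ≤ q ^ 3 := by
    have h5 : 3 ^ 2 ≤ q ^ 2 := Nat.pow_le_pow_left hq 2
    calc 9 * q ≤ q ^ 2 * q := Nat.mul_le_mul_right _ (by omega)
      _ = q ^ 3 := by ring
  have hM : E7 18 * M7 q 18 = 18 * (q + 1) * Ph 18 q := by
    show 18 * ((q + 1) * Ph 18 q) = _
    ring
  rw [hM]
  generalize Ph 18 q = P at *
  generalize ncl 18 q = n at *
  have h5 : 54 * (q + 1) < n + 1 := by omega
  calc 18 * (q + 1) * P ≤ 18 * (q + 1) * (n * 3) := Nat.mul_le_mul_left _ hP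
    _ = n * (54 * (q + 1)) := by ring
    _ < n * (n + 1) := Nat.mul_lt_mul_of_pos_left h5 (by omega)

/-- the reduced overgroups -/
theorem one_E7 (hE : CycFixSolv.{0}) (hF : Fintype.card F = q) {H : Subgroup ↥(chevE7.group F)} {y : H}
    (hy : orderOf y = ncl 18 q) (hred : Red H (fun r => r.Prime ∧ r ∣ ncl 18 q)) :
    (Subgroup.zpowers y).Normal ∨ ∃ S : Subgroup H, S.Normal ∧ IsSimpleGroup S ∧ ¬ IsMulCommutative S ∧
      Subgroup.centralizer (S : Set H) = ⊥ ∧ y ∈ S ∧ (∀ r, Prim q 18 r → Big S r (M7 q 18) 18) := by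
  have hfin : Finite ↥(chevE7.group F) := inferInstance
  have hq2 : 2 ≤ q := by rw [← hF]; exact Fintype.one_lt_card
  have hbig : ∀ r, r.Prime → r ∣ ncl 18 q → Big H r (M7 q 18) (E7 18) := fun r hr hrn =>
    (big7 (Or.inr (Or.inr (Or.inr rfl))) hF (prim_of_dvd c18 (by omega) hr hrn)).subgroup H
  have hn1 : 1 < ncl 18 q := by
    by_cases h3 : 3 ≤ q
    · have := ncl18_big h3
      omega
    · have h2 : q = 2 := by omega
      subst h2
      rw [ncl18_two]
      norm_num
  have hsm : Nat.card H ∣ E7 18 * M7 q 18 → (Subgroup.zpowers y).Normal := by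
    intro hd
    by_cases h3 : 3 ≤ q
    · have h0 : 0 < E7 18 * M7 q 18 := by
        have h1 : 0 < Ph 18 q := by rw [ph18_eq (by omega)]; omega
        show 0 < 18 * ((q + 1) * Ph 18 q)
        positivity
      exact normal_of_card_lt hn1 hbig hy ((Nat.le_of_dvd h0 hd).trans_lt (small18 h3))
    · have h2 : q = 2 := by omega
      subst h2
      have e1 : E7 18 * M7 2 18 = ncl 18 2 * 162 := by decide +kernel
      rw [e1] at hd
      refine normal_of_index hn1 hbig hy hd fun i hi ho => ?_
      obtain ⟨o, ho⟩ := ho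
      rw [ncl18_two] at ho
      have h4 : ∀ i ∈ Nat.divisors 162, (i + 18) % 19 = 0 → i = 1 := by decide +kernel
      refine h4 i (Nat.mem_divisors.2 ⟨hi, by norm_num⟩) ?_
      have h5 : i + 18 = o * 19 := by omega
      rw [h5]
      exact Nat.mul_mod_left _ _
  rcases one_torus' hE hn1 hbig hy hsm hred with h | ⟨S, h1, h2, h3, h4, h5, h6, -⟩
  · exact Or.inl h
  · exact Or.inr ⟨S, h1, h2, h3, h4, h5, fun r hr => (h6 r hr.prime (dvd_ncl c18 (by omega) hr)).1⟩

/-- **The overgroups of the torus.** -/
theorem over_E7 (tb : OrderTable.{0}) (hE : CycFixSolv.{0}) (hcf : CF) (hF : Fintype.card F = q)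
    {x : ↥(chevE7.group F)} (hx : OrdX q (orderOf x)) {H : Subgroup ↥(chevE7.group F)} (hxH : x ∈ H) (hH : H ≠ ⊤) :
    H ≤ Subgroup.normalizer (Subgroup.zpowers (x ^ (q ^ 6 - q ^ 3 + 1)) : Set ↥(chevE7.group F)) := by
  by_cases hred : Red H (fun r => r.Prime ∧ r ∣ ncl 18 q)
  swap
  · exact le_norm_of_not_red tb hE hF hx hxH hred
  obtain ⟨p, f, _, hp, hf, hq⟩ := exists_pf F
  obtain rfl : q = p ^ f := by rw [← hF, hq]
  have := Fact.mk hp
  have hfin : Finite ↥(chevE7.group F) := inferInstance
  have hq2 : 2 ≤ p ^ f := by rw [← hF]; exact Fintype.one_lt_card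
  have hT := named_e7 (F := F) tb
  rw [hF] at hT
  obtain ⟨r, hr'⟩ := exists_prim hp.two_le (show 3 ≤ f * 18 by omega) (by omega)
  have hr : Prim (p ^ f) 18 r := _root_.Cfsg.Agent.H264.GN.prim_pow hf hr'
  have hrn : r ∣ ncl 18 (p ^ f) := dvd_ncl c18 (by omega) hr
  have hnx := hx.ncl_dvd hq2
  have hn0 : ncl 18 (p ^ f) ≠ 0 := (ncl_pos 18 (by omega)).ne'
  obtain ⟨y₀, hy₀x, hy₀⟩ := exists_pow_of_dvd hnx hn0
  have hle : Subgroup.zpowers x ≤ H := by rwa [Subgroup.zpowers_le]
  obtain ⟨x₀, hx₀y, hx₀⟩ := exists_pow_of_dvd (x := y₀) (by rw [hy₀]; exact hrn) hr.prime.ne_zero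
  have hx₀x : x₀ ∈ Subgroup.zpowers x := (Subgroup.zpowers_le.2 hy₀x) hx₀y
  let y : H := ⟨y₀, hle hy₀x⟩
  let xH : H := ⟨x, hxH⟩
  let s : H := ⟨x₀, hle hx₀x⟩
  have hy : orderOf y = ncl 18 (p ^ f) := by rw [← hy₀]; exact Subgroup.orderOf_mk _ _
  have hxo : orderOf xH = orderOf x := Subgroup.orderOf_mk _ _
  have hso : orderOf s = r := by rw [← hx₀]; exact Subgroup.orderOf_mk _ _
  have hsy : s ∈ Subgroup.zpowers y := by
    obtain ⟨j, hj⟩ := hx₀y
    exact ⟨j, Subtype.ext hj⟩
  have hyx : y ∈ Subgroup.zpowers xH := by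
    obtain ⟨j, hj⟩ := hy₀x
    exact ⟨j, Subtype.ext hj⟩
  have hsx : s ∈ Subgroup.zpowers xH := (Subgroup.zpowers_le.2 hyx) hsy
  rcases one_E7 hE hF hy hred with hn | ⟨S, hSn, hSs, hSna, hSc, hyS, hSb⟩
  · -- the torus is normal
    intro h hh
    have h1 : (⟨h, hh⟩ : H) * s * (⟨h, hh⟩ : H)⁻¹ ∈ Subgroup.zpowers y := hn.conj_mem s hsy _
    have h2 : (⟨h, hh⟩ : H) * s * (⟨h, hh⟩ : H)⁻¹ ∈ Subgroup.zpowers s := by
      refine mem_zpowers_of_cyclic (C := Subgroup.zpowers y) inferInstance hsy h1 ?_
      rw [← MulAut.conj_apply, (MulAut.conj (⟨h, hh⟩ : H)).orderOf_eq]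
    have h3 : h * x₀ * h⁻¹ ∈ Subgroup.zpowers x₀ := by
      obtain ⟨j, hj⟩ := h2
      exact ⟨j, congrArg Subtype.val hj⟩
    have h4 : h * x * h⁻¹ ∈ Subgroup.zpowers x :=
      norm_of_prime (big7 (Or.inr (Or.inr (Or.inr rfl))) hF hr) (hrn.trans hnx) hx₀x hx₀ h3
    apply mem_norm_zpowers
    refine mem_zpowers_of_cyclic (C := Subgroup.zpowers x) inferInstance (pow_mem (Subgroup.mem_zpowers x) _) ?_ ?_
    · rw [← conj_pow]
      exact pow_mem h4 _
    · rw [← MulAut.conj_apply, (MulAut.conj h).orderOf_eq]
  exfalso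
  have hsS : s ∈ S := (Subgroup.zpowers_le.2 hyS) hsy
  have hdS : Nat.card S ∣ num (.e7 (p ^ f)) := IsNamed.card_dvd hT S
  have hnS : ncl 18 (p ^ f) ∣ Nat.card S := by
    rw [← hy, ← Subgroup.orderOf_mk y hyS]
    exact orderOf_dvd_natCard _
  have hrep : Fth 133 F S := ((fth_E7 (F := F)).sub H.subtype H.subtype_injective).sub S.subtype S.subtype_injective
  have hxX : OrdX (p ^ f) (orderOf xH) := hxo ▸ hx
  obtain ⟨g, hg, hcase⟩ := Cfsg.Agent.H296.Wei.exists_name18 tb hp hf hSna (hcf S) hrep hnS hdS hSb
  rcases hcase with hch | ⟨hq, hg'⟩ | ⟨hq, hg'⟩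
  · rcases Cfsg.Agent.H154.Wei.names_e7_18 hp hf hg hch hdS hnS hSb ⟨⟨y, hyS⟩, by rw [Subgroup.orderOf_mk, hy]⟩ with
      rfl | rfl | rfl | rfl | ⟨hq, rfl⟩
    · exact kill_psu3 S hSc hp hf hg hxX hr' hsS hso hsx
    · refine kill_g2 S hp hf hg hxX hr hsS hso hsx ?_ ?_
      · -- the elements inverting `s` invert `x`
        intro t ht
        obtain ⟨⟨w, hw⟩, hc⟩ := inv18 hF hx.eq
        have ht' : (t : ↥(chevE7.group F)) * x₀ * (t : ↥(chevE7.group F))⁻¹ = x₀⁻¹ := congrArg Subtype.val ht
        have hw' : w * x₀ * w⁻¹ = x₀⁻¹ := by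
          obtain ⟨j, hj⟩ := hx₀x
          have hj' : x ^ j = x₀ := hj
          rw [← hj', ← conj_zpow, hw, inv_zpow]
        have h1 : (t : ↥(chevE7.group F)) * w ∈ Subgroup.zpowers x := by
          rw [← hc r hr x₀ hx₀x hx₀, Subgroup.mem_centralizer_singleton_iff, ← mul_inv_eq_iff_eq_mul]
          calc _ = (t : ↥(chevE7.group F)) * (w * x₀ * w⁻¹) * (t : ↥(chevE7.group F))⁻¹ := by group
            _ = ((t : ↥(chevE7.group F)) * x₀ * (t : ↥(chevE7.group F))⁻¹)⁻¹ := by rw [hw']; group
            _ = _ := by rw [ht', inv_inv]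
        have h2 := commute_of_mem h1
        -- `x` commutes with `t w`
        apply Subtype.ext
        show (t : ↥(chevE7.group F)) * x * (t : ↥(chevE7.group F))⁻¹ = x⁻¹
        have h3 : (t : ↥(chevE7.group F)) = (t : ↥(chevE7.group F)) * w * w⁻¹ := by group
        have h4 : w⁻¹ * x * w = x⁻¹ := by
          have h5 : x⁻¹⁻¹ = (w * x * w⁻¹)⁻¹ := by rw [hw]
          rw [inv_inv] at h5
          calc w⁻¹ * x * w = w⁻¹ * (w * x * w⁻¹)⁻¹ * w := by rw [← h5]
            _ = _ := by group
        calc _ = ((t : ↥(chevE7.group F)) * w) * (w⁻¹ * x * w) * ((t : ↥(chevE7.group F)) * w)⁻¹ := by group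
          _ = ((t : ↥(chevE7.group F)) * w) * x⁻¹ * ((t : ↥(chevE7.group F)) * w)⁻¹ := by rw [h4]
          _ = x⁻¹ := by rw [← (h2.inv_left).eq]; group
      · intro h3
        have hF3 : Fintype.card F = 3 := by rw [hF, h3]
        have h1 := big7 (F := F) (Or.inr (Or.inl rfl)) hF3 prim_9_757
        refine Big.subgroup ⟨h1.prime, h1.cyc, fun z hz => ?_, h1.aut, h1.ndvd⟩ H
        have h2 := ord9 (F := F) hF3 757 prim_9_757 z hz
        have e1 : (3 - 1) * Ph 9 3 / Nat.gcd 2 (3 - 1) = 757 := by decide +kernel
        rwa [e1] at h2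
    · exact kill_te6 S hSc hp hf hg hxX hr hsS hso hsx
    · exact hH (eq_top_of_name hT hg)
    · -- `U₉(2)`
      rw [hq] at hF
      have hpr : Prim 2 14 43 := prim_of_dvd c14 (by norm_num) (by norm_num) (by decide +kernel)
      have h1 := ((big7 (F := F) (Or.inr (Or.inr (Or.inl rfl))) hF hpr).subgroup H).subgroup S
      obtain ⟨z, hz⟩ := Cfsg.Agent.H154.Wei.elt86 hg
      exact kill_elt h1 z (by rw [hz]; norm_num) (s := 2) (by rw [hz]; norm_num) (by decide +kernel)
  · -- the small groups, `q = 2`
    rw [hq] at hxX hy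
    have h171 : orderOf xH = 171 := by
      have := hxX.eq
      norm_num at this
      exact this
    rw [ncl18_two] at hy
    refine Cfsg.Agent.H344.Wei.kill_171 S hSc hg' hg h171 ?_
    refine (Subgroup.zpowers_le.2 hyS) (mem_zpowers_of_cyclic (C := Subgroup.zpowers xH) inferInstance hyx
      (pow_mem (Subgroup.mem_zpowers xH) _) ?_)
    rw [orderOf_pow' xH (by norm_num), h171, hy]
    norm_num
  · -- `L₂(37)`, `q = 3`
    subst hg'
    refine Cfsg.Agent.H344.Wei.kill_703 hg (y := ⟨y, hyS⟩) ?_
    rw [Subgroup.orderOf_mk, hy, hq]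
    decide +kernel

end Cfsg.Agent.H318.Wei
end

private theorem dce_12159dcde1ef : _root_.True := by
  try have : _root_.True := by simp only [_root_.Cfsg.Agent.H799.L37.pw.eq_def]
  try have : _root_.True := by simp only [_root_.Cfsg.Agent.H799.L37.step.eq_1]
  try have : _root_.True := by simp only [_root_.Cfsg.Agent.H799.L37.pw.eq_1]
  try have : _root_.True := by simp only [_root_.Cfsg.Agent.H799.L37.pw.eq_2]
  exact _root_.True.intro
end

-- part: H315/Spr/HNInner
section
prune_inst 0xf0302544742210000004051262003aa7fb0001900023000178860d46088fdb208040af016ea01c02100aaa8028300048111000f0420000000a0004000004002088aa56002334a80c660007803007180c00000000000000000000000000041000000000000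
set_option linter.all false
open scoped Cfsg.Agent.FastGrp

-- part: H680/Split/HNWb
section
/-! The kernel check of `Cfsg.Agent.H315.Spr.HNWb`, one check for each segment of the program (helper680). -/

set_option autoImplicit false
set_option maxRecDepth 100000
set_option Elab.async false

namespace Cfsg.Agent.H680.Split.HNWb

open Cfsg.Agent.H154.Split
open Cfsg.Agent.HN.RepData (C)
open Cfsg.Agent.H981.InvHN (L2)

/-- value of step 0 -/
def E0 : ℕ := Cfsg.Agent.Lib.PackMatGroup.asm 2261 [
0x1,
0x20000,
0x400000000,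
0x8000000000000,
0x100000000000000000,
0x2000000000000000000000,
0x40000000000000000000000000,
0x800000000000000000000000000000,
0x10000000000000000000000000000000000,
0x200000000000000000000000000000000000000,
0x4000000000000000000000000000000000000000000,
0x80000000000000000000000000000000000000000000000,
0x1000000000000000000000000000000000000000000000000000,
0x20000000000000000000000000000000000000000000000000000000,
0x400000000000000000000000000000000000000000000000000000000000,
0x8000000000000000000000000000000000000000000000000000000000000000,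
0x100000000000000000000000000000000000000000000000000000000000000000000,
0x2000000000000000000000000000000000000000000000000000000000000000000000000,
0x40000000000000000000000000000000000000000000000000000000000000000000000000000,
0x800000000000000000000000000000000000000000000000000000000000000000000000000000000,
0x10000000000000000000000000000000000000000000000000000000000000000000000000000000000000,
0x200000000000000000000000000000000000000000000000000000000000000000000000000000000000000000,
0x4000000000000000000000000000000000000000000000000000000000000000000000000000000000000000000000,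
0x80000000000000000000000000000000000000000000000000000000000000000000000000000000000000000000000000,
0x1000000000000000000000000000000000000000000000000000000000000000000000000000000000000000000000000000000,
0x20000000000000000000000000000000000000000000000000000000000000000000000000000000000000000000000000000000000,
0x400000000000000000000000000000000000000000000000000000000000000000000000000000000000000000000000000000000000000,
0x8000000000000000000000000000000000000000000000000000000000000000000000000000000000000000000000000000000000000000000,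
0x100000000000000000000000000000000000000000000000000000000000000000000000000000000000000000000000000000000000000000000000,
0x2000000000000000000000000000000000000000000000000000000000000000000000000000000000000000000000000000000000000000000000000000,
0x40000000000000000000000000000000000000000000000000000000000000000000000000000000000000000000000000000000000000000000000000000000,
0x800000000000000000000000000000000000000000000000000000000000000000000000000000000000000000000000000000000000000000000000000000000000,
0x10000000000000000000000000000000000000000000000000000000000000000000000000000000000000000000000000000000000000000000000000000000000000000,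
0x200000000000000000000000000000000000000000000000000000000000000000000000000000000000000000000000000000000000000000000000000000000000000000000,
0x4000000000000000000000000000000000000000000000000000000000000000000000000000000000000000000000000000000000000000000000000000000000000000000000000,
0x80000000000000000000000000000000000000000000000000000000000000000000000000000000000000000000000000000000000000000000000000000000000000000000000000000,
0x1000000000000000000000000000000000000000000000000000000000000000000000000000000000000000000000000000000000000000000000000000000000000000000000000000000000,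
0x20000000000000000000000000000000000000000000000000000000000000000000000000000000000000000000000000000000000000000000000000000000000000000000000000000000000000,
0x400000000000000000000000000000000000000000000000000000000000000000000000000000000000000000000000000000000000000000000000000000000000000000000000000000000000000000,
0x8000000000000000000000000000000000000000000000000000000000000000000000000000000000000000000000000000000000000000000000000000000000000000000000000000000000000000000000,
0x100000000000000000000000000000000000000000000000000000000000000000000000000000000000000000000000000000000000000000000000000000000000000000000000000000000000000000000000000,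
0x2000000000000000000000000000000000000000000000000000000000000000000000000000000000000000000000000000000000000000000000000000000000000000000000000000000000000000000000000000000,
0x40000000000000000000000000000000000000000000000000000000000000000000000000000000000000000000000000000000000000000000000000000000000000000000000000000000000000000000000000000000000,
0x800000000000000000000000000000000000000000000000000000000000000000000000000000000000000000000000000000000000000000000000000000000000000000000000000000000000000000000000000000000000000,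
0x10000000000000000000000000000000000000000000000000000000000000000000000000000000000000000000000000000000000000000000000000000000000000000000000000000000000000000000000000000000000000000000,
0x200000000000000000000000000000000000000000000000000000000000000000000000000000000000000000000000000000000000000000000000000000000000000000000000000000000000000000000000000000000000000000000000,
0x4000000000000000000000000000000000000000000000000000000000000000000000000000000000000000000000000000000000000000000000000000000000000000000000000000000000000000000000000000000000000000000000000000,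
0x80000000000000000000000000000000000000000000000000000000000000000000000000000000000000000000000000000000000000000000000000000000000000000000000000000000000000000000000000000000000000000000000000000000,
0x1000000000000000000000000000000000000000000000000000000000000000000000000000000000000000000000000000000000000000000000000000000000000000000000000000000000000000000000000000000000000000000000000000000000000,
0x20000000000000000000000000000000000000000000000000000000000000000000000000000000000000000000000000000000000000000000000000000000000000000000000000000000000000000000000000000000000000000000000000000000000000000,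
0x400000000000000000000000000000000000000000000000000000000000000000000000000000000000000000000000000000000000000000000000000000000000000000000000000000000000000000000000000000000000000000000000000000000000000000000,
0x8000000000000000000000000000000000000000000000000000000000000000000000000000000000000000000000000000000000000000000000000000000000000000000000000000000000000000000000000000000000000000000000000000000000000000000000000,
0x100000000000000000000000000000000000000000000000000000000000000000000000000000000000000000000000000000000000000000000000000000000000000000000000000000000000000000000000000000000000000000000000000000000000000000000000000000,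
0x2000000000000000000000000000000000000000000000000000000000000000000000000000000000000000000000000000000000000000000000000000000000000000000000000000000000000000000000000000000000000000000000000000000000000000000000000000000000,
0x40000000000000000000000000000000000000000000000000000000000000000000000000000000000000000000000000000000000000000000000000000000000000000000000000000000000000000000000000000000000000000000000000000000000000000000000000000000000000,
0x800000000000000000000000000000000000000000000000000000000000000000000000000000000000000000000000000000000000000000000000000000000000000000000000000000000000000000000000000000000000000000000000000000000000000000000000000000000000000000,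
0x10000000000000000000000000000000000000000000000000000000000000000000000000000000000000000000000000000000000000000000000000000000000000000000000000000000000000000000000000000000000000000000000000000000000000000000000000000000000000000000000,
0x200000000000000000000000000000000000000000000000000000000000000000000000000000000000000000000000000000000000000000000000000000000000000000000000000000000000000000000000000000000000000000000000000000000000000000000000000000000000000000000000000,
0x4000000000000000000000000000000000000000000000000000000000000000000000000000000000000000000000000000000000000000000000000000000000000000000000000000000000000000000000000000000000000000000000000000000000000000000000000000000000000000000000000000000,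
0x80000000000000000000000000000000000000000000000000000000000000000000000000000000000000000000000000000000000000000000000000000000000000000000000000000000000000000000000000000000000000000000000000000000000000000000000000000000000000000000000000000000000,
0x1000000000000000000000000000000000000000000000000000000000000000000000000000000000000000000000000000000000000000000000000000000000000000000000000000000000000000000000000000000000000000000000000000000000000000000000000000000000000000000000000000000000000000,
0x20000000000000000000000000000000000000000000000000000000000000000000000000000000000000000000000000000000000000000000000000000000000000000000000000000000000000000000000000000000000000000000000000000000000000000000000000000000000000000000000000000000000000000000,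
0x400000000000000000000000000000000000000000000000000000000000000000000000000000000000000000000000000000000000000000000000000000000000000000000000000000000000000000000000000000000000000000000000000000000000000000000000000000000000000000000000000000000000000000000000,
0x8000000000000000000000000000000000000000000000000000000000000000000000000000000000000000000000000000000000000000000000000000000000000000000000000000000000000000000000000000000000000000000000000000000000000000000000000000000000000000000000000000000000000000000000000000,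
0x100000000000000000000000000000000000000000000000000000000000000000000000000000000000000000000000000000000000000000000000000000000000000000000000000000000000000000000000000000000000000000000000000000000000000000000000000000000000000000000000000000000000000000000000000000000,
0x2000000000000000000000000000000000000000000000000000000000000000000000000000000000000000000000000000000000000000000000000000000000000000000000000000000000000000000000000000000000000000000000000000000000000000000000000000000000000000000000000000000000000000000000000000000000000,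
0x40000000000000000000000000000000000000000000000000000000000000000000000000000000000000000000000000000000000000000000000000000000000000000000000000000000000000000000000000000000000000000000000000000000000000000000000000000000000000000000000000000000000000000000000000000000000000000,
0x800000000000000000000000000000000000000000000000000000000000000000000000000000000000000000000000000000000000000000000000000000000000000000000000000000000000000000000000000000000000000000000000000000000000000000000000000000000000000000000000000000000000000000000000000000000000000000000,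
0x10000000000000000000000000000000000000000000000000000000000000000000000000000000000000000000000000000000000000000000000000000000000000000000000000000000000000000000000000000000000000000000000000000000000000000000000000000000000000000000000000000000000000000000000000000000000000000000000000,
0x200000000000000000000000000000000000000000000000000000000000000000000000000000000000000000000000000000000000000000000000000000000000000000000000000000000000000000000000000000000000000000000000000000000000000000000000000000000000000000000000000000000000000000000000000000000000000000000000000000,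
0x4000000000000000000000000000000000000000000000000000000000000000000000000000000000000000000000000000000000000000000000000000000000000000000000000000000000000000000000000000000000000000000000000000000000000000000000000000000000000000000000000000000000000000000000000000000000000000000000000000000000,
0x80000000000000000000000000000000000000000000000000000000000000000000000000000000000000000000000000000000000000000000000000000000000000000000000000000000000000000000000000000000000000000000000000000000000000000000000000000000000000000000000000000000000000000000000000000000000000000000000000000000000000,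
0x1000000000000000000000000000000000000000000000000000000000000000000000000000000000000000000000000000000000000000000000000000000000000000000000000000000000000000000000000000000000000000000000000000000000000000000000000000000000000000000000000000000000000000000000000000000000000000000000000000000000000000000,
0x20000000000000000000000000000000000000000000000000000000000000000000000000000000000000000000000000000000000000000000000000000000000000000000000000000000000000000000000000000000000000000000000000000000000000000000000000000000000000000000000000000000000000000000000000000000000000000000000000000000000000000000000,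
0x400000000000000000000000000000000000000000000000000000000000000000000000000000000000000000000000000000000000000000000000000000000000000000000000000000000000000000000000000000000000000000000000000000000000000000000000000000000000000000000000000000000000000000000000000000000000000000000000000000000000000000000000000,
0x8000000000000000000000000000000000000000000000000000000000000000000000000000000000000000000000000000000000000000000000000000000000000000000000000000000000000000000000000000000000000000000000000000000000000000000000000000000000000000000000000000000000000000000000000000000000000000000000000000000000000000000000000000000,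
0x100000000000000000000000000000000000000000000000000000000000000000000000000000000000000000000000000000000000000000000000000000000000000000000000000000000000000000000000000000000000000000000000000000000000000000000000000000000000000000000000000000000000000000000000000000000000000000000000000000000000000000000000000000000000,
0x2000000000000000000000000000000000000000000000000000000000000000000000000000000000000000000000000000000000000000000000000000000000000000000000000000000000000000000000000000000000000000000000000000000000000000000000000000000000000000000000000000000000000000000000000000000000000000000000000000000000000000000000000000000000000000,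
0x40000000000000000000000000000000000000000000000000000000000000000000000000000000000000000000000000000000000000000000000000000000000000000000000000000000000000000000000000000000000000000000000000000000000000000000000000000000000000000000000000000000000000000000000000000000000000000000000000000000000000000000000000000000000000000000,
0x800000000000000000000000000000000000000000000000000000000000000000000000000000000000000000000000000000000000000000000000000000000000000000000000000000000000000000000000000000000000000000000000000000000000000000000000000000000000000000000000000000000000000000000000000000000000000000000000000000000000000000000000000000000000000000000000,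
0x10000000000000000000000000000000000000000000000000000000000000000000000000000000000000000000000000000000000000000000000000000000000000000000000000000000000000000000000000000000000000000000000000000000000000000000000000000000000000000000000000000000000000000000000000000000000000000000000000000000000000000000000000000000000000000000000000000,
0x200000000000000000000000000000000000000000000000000000000000000000000000000000000000000000000000000000000000000000000000000000000000000000000000000000000000000000000000000000000000000000000000000000000000000000000000000000000000000000000000000000000000000000000000000000000000000000000000000000000000000000000000000000000000000000000000000000000,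
0x4000000000000000000000000000000000000000000000000000000000000000000000000000000000000000000000000000000000000000000000000000000000000000000000000000000000000000000000000000000000000000000000000000000000000000000000000000000000000000000000000000000000000000000000000000000000000000000000000000000000000000000000000000000000000000000000000000000000000,
0x80000000000000000000000000000000000000000000000000000000000000000000000000000000000000000000000000000000000000000000000000000000000000000000000000000000000000000000000000000000000000000000000000000000000000000000000000000000000000000000000000000000000000000000000000000000000000000000000000000000000000000000000000000000000000000000000000000000000000000,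
0x1000000000000000000000000000000000000000000000000000000000000000000000000000000000000000000000000000000000000000000000000000000000000000000000000000000000000000000000000000000000000000000000000000000000000000000000000000000000000000000000000000000000000000000000000000000000000000000000000000000000000000000000000000000000000000000000000000000000000000000000,
0x20000000000000000000000000000000000000000000000000000000000000000000000000000000000000000000000000000000000000000000000000000000000000000000000000000000000000000000000000000000000000000000000000000000000000000000000000000000000000000000000000000000000000000000000000000000000000000000000000000000000000000000000000000000000000000000000000000000000000000000000000,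
0x400000000000000000000000000000000000000000000000000000000000000000000000000000000000000000000000000000000000000000000000000000000000000000000000000000000000000000000000000000000000000000000000000000000000000000000000000000000000000000000000000000000000000000000000000000000000000000000000000000000000000000000000000000000000000000000000000000000000000000000000000000,
0x8000000000000000000000000000000000000000000000000000000000000000000000000000000000000000000000000000000000000000000000000000000000000000000000000000000000000000000000000000000000000000000000000000000000000000000000000000000000000000000000000000000000000000000000000000000000000000000000000000000000000000000000000000000000000000000000000000000000000000000000000000000000,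
0x100000000000000000000000000000000000000000000000000000000000000000000000000000000000000000000000000000000000000000000000000000000000000000000000000000000000000000000000000000000000000000000000000000000000000000000000000000000000000000000000000000000000000000000000000000000000000000000000000000000000000000000000000000000000000000000000000000000000000000000000000000000000000,
0x2000000000000000000000000000000000000000000000000000000000000000000000000000000000000000000000000000000000000000000000000000000000000000000000000000000000000000000000000000000000000000000000000000000000000000000000000000000000000000000000000000000000000000000000000000000000000000000000000000000000000000000000000000000000000000000000000000000000000000000000000000000000000000000,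
0x40000000000000000000000000000000000000000000000000000000000000000000000000000000000000000000000000000000000000000000000000000000000000000000000000000000000000000000000000000000000000000000000000000000000000000000000000000000000000000000000000000000000000000000000000000000000000000000000000000000000000000000000000000000000000000000000000000000000000000000000000000000000000000000000,
0x800000000000000000000000000000000000000000000000000000000000000000000000000000000000000000000000000000000000000000000000000000000000000000000000000000000000000000000000000000000000000000000000000000000000000000000000000000000000000000000000000000000000000000000000000000000000000000000000000000000000000000000000000000000000000000000000000000000000000000000000000000000000000000000000000,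
0x10000000000000000000000000000000000000000000000000000000000000000000000000000000000000000000000000000000000000000000000000000000000000000000000000000000000000000000000000000000000000000000000000000000000000000000000000000000000000000000000000000000000000000000000000000000000000000000000000000000000000000000000000000000000000000000000000000000000000000000000000000000000000000000000000000000,
0x200000000000000000000000000000000000000000000000000000000000000000000000000000000000000000000000000000000000000000000000000000000000000000000000000000000000000000000000000000000000000000000000000000000000000000000000000000000000000000000000000000000000000000000000000000000000000000000000000000000000000000000000000000000000000000000000000000000000000000000000000000000000000000000000000000000000,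
0x4000000000000000000000000000000000000000000000000000000000000000000000000000000000000000000000000000000000000000000000000000000000000000000000000000000000000000000000000000000000000000000000000000000000000000000000000000000000000000000000000000000000000000000000000000000000000000000000000000000000000000000000000000000000000000000000000000000000000000000000000000000000000000000000000000000000000000,
0x80000000000000000000000000000000000000000000000000000000000000000000000000000000000000000000000000000000000000000000000000000000000000000000000000000000000000000000000000000000000000000000000000000000000000000000000000000000000000000000000000000000000000000000000000000000000000000000000000000000000000000000000000000000000000000000000000000000000000000000000000000000000000000000000000000000000000000000,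
0x1000000000000000000000000000000000000000000000000000000000000000000000000000000000000000000000000000000000000000000000000000000000000000000000000000000000000000000000000000000000000000000000000000000000000000000000000000000000000000000000000000000000000000000000000000000000000000000000000000000000000000000000000000000000000000000000000000000000000000000000000000000000000000000000000000000000000000000000000,
0x20000000000000000000000000000000000000000000000000000000000000000000000000000000000000000000000000000000000000000000000000000000000000000000000000000000000000000000000000000000000000000000000000000000000000000000000000000000000000000000000000000000000000000000000000000000000000000000000000000000000000000000000000000000000000000000000000000000000000000000000000000000000000000000000000000000000000000000000000000,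
0x400000000000000000000000000000000000000000000000000000000000000000000000000000000000000000000000000000000000000000000000000000000000000000000000000000000000000000000000000000000000000000000000000000000000000000000000000000000000000000000000000000000000000000000000000000000000000000000000000000000000000000000000000000000000000000000000000000000000000000000000000000000000000000000000000000000000000000000000000000000,
0x8000000000000000000000000000000000000000000000000000000000000000000000000000000000000000000000000000000000000000000000000000000000000000000000000000000000000000000000000000000000000000000000000000000000000000000000000000000000000000000000000000000000000000000000000000000000000000000000000000000000000000000000000000000000000000000000000000000000000000000000000000000000000000000000000000000000000000000000000000000000000,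
0x100000000000000000000000000000000000000000000000000000000000000000000000000000000000000000000000000000000000000000000000000000000000000000000000000000000000000000000000000000000000000000000000000000000000000000000000000000000000000000000000000000000000000000000000000000000000000000000000000000000000000000000000000000000000000000000000000000000000000000000000000000000000000000000000000000000000000000000000000000000000000000,
0x2000000000000000000000000000000000000000000000000000000000000000000000000000000000000000000000000000000000000000000000000000000000000000000000000000000000000000000000000000000000000000000000000000000000000000000000000000000000000000000000000000000000000000000000000000000000000000000000000000000000000000000000000000000000000000000000000000000000000000000000000000000000000000000000000000000000000000000000000000000000000000000000,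
0x40000000000000000000000000000000000000000000000000000000000000000000000000000000000000000000000000000000000000000000000000000000000000000000000000000000000000000000000000000000000000000000000000000000000000000000000000000000000000000000000000000000000000000000000000000000000000000000000000000000000000000000000000000000000000000000000000000000000000000000000000000000000000000000000000000000000000000000000000000000000000000000000000,
0x800000000000000000000000000000000000000000000000000000000000000000000000000000000000000000000000000000000000000000000000000000000000000000000000000000000000000000000000000000000000000000000000000000000000000000000000000000000000000000000000000000000000000000000000000000000000000000000000000000000000000000000000000000000000000000000000000000000000000000000000000000000000000000000000000000000000000000000000000000000000000000000000000000,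
0x10000000000000000000000000000000000000000000000000000000000000000000000000000000000000000000000000000000000000000000000000000000000000000000000000000000000000000000000000000000000000000000000000000000000000000000000000000000000000000000000000000000000000000000000000000000000000000000000000000000000000000000000000000000000000000000000000000000000000000000000000000000000000000000000000000000000000000000000000000000000000000000000000000000000,
0x200000000000000000000000000000000000000000000000000000000000000000000000000000000000000000000000000000000000000000000000000000000000000000000000000000000000000000000000000000000000000000000000000000000000000000000000000000000000000000000000000000000000000000000000000000000000000000000000000000000000000000000000000000000000000000000000000000000000000000000000000000000000000000000000000000000000000000000000000000000000000000000000000000000000000,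
0x4000000000000000000000000000000000000000000000000000000000000000000000000000000000000000000000000000000000000000000000000000000000000000000000000000000000000000000000000000000000000000000000000000000000000000000000000000000000000000000000000000000000000000000000000000000000000000000000000000000000000000000000000000000000000000000000000000000000000000000000000000000000000000000000000000000000000000000000000000000000000000000000000000000000000000000,
0x80000000000000000000000000000000000000000000000000000000000000000000000000000000000000000000000000000000000000000000000000000000000000000000000000000000000000000000000000000000000000000000000000000000000000000000000000000000000000000000000000000000000000000000000000000000000000000000000000000000000000000000000000000000000000000000000000000000000000000000000000000000000000000000000000000000000000000000000000000000000000000000000000000000000000000000000,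
0x1000000000000000000000000000000000000000000000000000000000000000000000000000000000000000000000000000000000000000000000000000000000000000000000000000000000000000000000000000000000000000000000000000000000000000000000000000000000000000000000000000000000000000000000000000000000000000000000000000000000000000000000000000000000000000000000000000000000000000000000000000000000000000000000000000000000000000000000000000000000000000000000000000000000000000000000000000,
0x20000000000000000000000000000000000000000000000000000000000000000000000000000000000000000000000000000000000000000000000000000000000000000000000000000000000000000000000000000000000000000000000000000000000000000000000000000000000000000000000000000000000000000000000000000000000000000000000000000000000000000000000000000000000000000000000000000000000000000000000000000000000000000000000000000000000000000000000000000000000000000000000000000000000000000000000000000000,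
0x400000000000000000000000000000000000000000000000000000000000000000000000000000000000000000000000000000000000000000000000000000000000000000000000000000000000000000000000000000000000000000000000000000000000000000000000000000000000000000000000000000000000000000000000000000000000000000000000000000000000000000000000000000000000000000000000000000000000000000000000000000000000000000000000000000000000000000000000000000000000000000000000000000000000000000000000000000000000,
0x8000000000000000000000000000000000000000000000000000000000000000000000000000000000000000000000000000000000000000000000000000000000000000000000000000000000000000000000000000000000000000000000000000000000000000000000000000000000000000000000000000000000000000000000000000000000000000000000000000000000000000000000000000000000000000000000000000000000000000000000000000000000000000000000000000000000000000000000000000000000000000000000000000000000000000000000000000000000000000,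
0x100000000000000000000000000000000000000000000000000000000000000000000000000000000000000000000000000000000000000000000000000000000000000000000000000000000000000000000000000000000000000000000000000000000000000000000000000000000000000000000000000000000000000000000000000000000000000000000000000000000000000000000000000000000000000000000000000000000000000000000000000000000000000000000000000000000000000000000000000000000000000000000000000000000000000000000000000000000000000000000,
0x2000000000000000000000000000000000000000000000000000000000000000000000000000000000000000000000000000000000000000000000000000000000000000000000000000000000000000000000000000000000000000000000000000000000000000000000000000000000000000000000000000000000000000000000000000000000000000000000000000000000000000000000000000000000000000000000000000000000000000000000000000000000000000000000000000000000000000000000000000000000000000000000000000000000000000000000000000000000000000000000000,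
0x40000000000000000000000000000000000000000000000000000000000000000000000000000000000000000000000000000000000000000000000000000000000000000000000000000000000000000000000000000000000000000000000000000000000000000000000000000000000000000000000000000000000000000000000000000000000000000000000000000000000000000000000000000000000000000000000000000000000000000000000000000000000000000000000000000000000000000000000000000000000000000000000000000000000000000000000000000000000000000000000000000,
0x800000000000000000000000000000000000000000000000000000000000000000000000000000000000000000000000000000000000000000000000000000000000000000000000000000000000000000000000000000000000000000000000000000000000000000000000000000000000000000000000000000000000000000000000000000000000000000000000000000000000000000000000000000000000000000000000000000000000000000000000000000000000000000000000000000000000000000000000000000000000000000000000000000000000000000000000000000000000000000000000000000000,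
0x10000000000000000000000000000000000000000000000000000000000000000000000000000000000000000000000000000000000000000000000000000000000000000000000000000000000000000000000000000000000000000000000000000000000000000000000000000000000000000000000000000000000000000000000000000000000000000000000000000000000000000000000000000000000000000000000000000000000000000000000000000000000000000000000000000000000000000000000000000000000000000000000000000000000000000000000000000000000000000000000000000000000000,
0x200000000000000000000000000000000000000000000000000000000000000000000000000000000000000000000000000000000000000000000000000000000000000000000000000000000000000000000000000000000000000000000000000000000000000000000000000000000000000000000000000000000000000000000000000000000000000000000000000000000000000000000000000000000000000000000000000000000000000000000000000000000000000000000000000000000000000000000000000000000000000000000000000000000000000000000000000000000000000000000000000000000000000000,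
0x4000000000000000000000000000000000000000000000000000000000000000000000000000000000000000000000000000000000000000000000000000000000000000000000000000000000000000000000000000000000000000000000000000000000000000000000000000000000000000000000000000000000000000000000000000000000000000000000000000000000000000000000000000000000000000000000000000000000000000000000000000000000000000000000000000000000000000000000000000000000000000000000000000000000000000000000000000000000000000000000000000000000000000000000,
0x80000000000000000000000000000000000000000000000000000000000000000000000000000000000000000000000000000000000000000000000000000000000000000000000000000000000000000000000000000000000000000000000000000000000000000000000000000000000000000000000000000000000000000000000000000000000000000000000000000000000000000000000000000000000000000000000000000000000000000000000000000000000000000000000000000000000000000000000000000000000000000000000000000000000000000000000000000000000000000000000000000000000000000000000000,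
0x1000000000000000000000000000000000000000000000000000000000000000000000000000000000000000000000000000000000000000000000000000000000000000000000000000000000000000000000000000000000000000000000000000000000000000000000000000000000000000000000000000000000000000000000000000000000000000000000000000000000000000000000000000000000000000000000000000000000000000000000000000000000000000000000000000000000000000000000000000000000000000000000000000000000000000000000000000000000000000000000000000000000000000000000000000000,
0x20000000000000000000000000000000000000000000000000000000000000000000000000000000000000000000000000000000000000000000000000000000000000000000000000000000000000000000000000000000000000000000000000000000000000000000000000000000000000000000000000000000000000000000000000000000000000000000000000000000000000000000000000000000000000000000000000000000000000000000000000000000000000000000000000000000000000000000000000000000000000000000000000000000000000000000000000000000000000000000000000000000000000000000000000000000000,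
0x400000000000000000000000000000000000000000000000000000000000000000000000000000000000000000000000000000000000000000000000000000000000000000000000000000000000000000000000000000000000000000000000000000000000000000000000000000000000000000000000000000000000000000000000000000000000000000000000000000000000000000000000000000000000000000000000000000000000000000000000000000000000000000000000000000000000000000000000000000000000000000000000000000000000000000000000000000000000000000000000000000000000000000000000000000000000000,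
0x8000000000000000000000000000000000000000000000000000000000000000000000000000000000000000000000000000000000000000000000000000000000000000000000000000000000000000000000000000000000000000000000000000000000000000000000000000000000000000000000000000000000000000000000000000000000000000000000000000000000000000000000000000000000000000000000000000000000000000000000000000000000000000000000000000000000000000000000000000000000000000000000000000000000000000000000000000000000000000000000000000000000000000000000000000000000000000000,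
0x100000000000000000000000000000000000000000000000000000000000000000000000000000000000000000000000000000000000000000000000000000000000000000000000000000000000000000000000000000000000000000000000000000000000000000000000000000000000000000000000000000000000000000000000000000000000000000000000000000000000000000000000000000000000000000000000000000000000000000000000000000000000000000000000000000000000000000000000000000000000000000000000000000000000000000000000000000000000000000000000000000000000000000000000000000000000000000000000,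
0x2000000000000000000000000000000000000000000000000000000000000000000000000000000000000000000000000000000000000000000000000000000000000000000000000000000000000000000000000000000000000000000000000000000000000000000000000000000000000000000000000000000000000000000000000000000000000000000000000000000000000000000000000000000000000000000000000000000000000000000000000000000000000000000000000000000000000000000000000000000000000000000000000000000000000000000000000000000000000000000000000000000000000000000000000000000000000000000000000000,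
0x40000000000000000000000000000000000000000000000000000000000000000000000000000000000000000000000000000000000000000000000000000000000000000000000000000000000000000000000000000000000000000000000000000000000000000000000000000000000000000000000000000000000000000000000000000000000000000000000000000000000000000000000000000000000000000000000000000000000000000000000000000000000000000000000000000000000000000000000000000000000000000000000000000000000000000000000000000000000000000000000000000000000000000000000000000000000000000000000000000000,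
0x800000000000000000000000000000000000000000000000000000000000000000000000000000000000000000000000000000000000000000000000000000000000000000000000000000000000000000000000000000000000000000000000000000000000000000000000000000000000000000000000000000000000000000000000000000000000000000000000000000000000000000000000000000000000000000000000000000000000000000000000000000000000000000000000000000000000000000000000000000000000000000000000000000000000000000000000000000000000000000000000000000000000000000000000000000000000000000000000000000000000,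
0x10000000000000000000000000000000000000000000000000000000000000000000000000000000000000000000000000000000000000000000000000000000000000000000000000000000000000000000000000000000000000000000000000000000000000000000000000000000000000000000000000000000000000000000000000000000000000000000000000000000000000000000000000000000000000000000000000000000000000000000000000000000000000000000000000000000000000000000000000000000000000000000000000000000000000000000000000000000000000000000000000000000000000000000000000000000000000000000000000000000000000000,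
0x200000000000000000000000000000000000000000000000000000000000000000000000000000000000000000000000000000000000000000000000000000000000000000000000000000000000000000000000000000000000000000000000000000000000000000000000000000000000000000000000000000000000000000000000000000000000000000000000000000000000000000000000000000000000000000000000000000000000000000000000000000000000000000000000000000000000000000000000000000000000000000000000000000000000000000000000000000000000000000000000000000000000000000000000000000000000000000000000000000000000000000000,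
0x4000000000000000000000000000000000000000000000000000000000000000000000000000000000000000000000000000000000000000000000000000000000000000000000000000000000000000000000000000000000000000000000000000000000000000000000000000000000000000000000000000000000000000000000000000000000000000000000000000000000000000000000000000000000000000000000000000000000000000000000000000000000000000000000000000000000000000000000000000000000000000000000000000000000000000000000000000000000000000000000000000000000000000000000000000000000000000000000000000000000000000000000000,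
0x80000000000000000000000000000000000000000000000000000000000000000000000000000000000000000000000000000000000000000000000000000000000000000000000000000000000000000000000000000000000000000000000000000000000000000000000000000000000000000000000000000000000000000000000000000000000000000000000000000000000000000000000000000000000000000000000000000000000000000000000000000000000000000000000000000000000000000000000000000000000000000000000000000000000000000000000000000000000000000000000000000000000000000000000000000000000000000000000000000000000000000000000000000,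
0x1000000000000000000000000000000000000000000000000000000000000000000000000000000000000000000000000000000000000000000000000000000000000000000000000000000000000000000000000000000000000000000000000000000000000000000000000000000000000000000000000000000000000000000000000000000000000000000000000000000000000000000000000000000000000000000000000000000000000000000000000000000000000000000000000000000000000000000000000000000000000000000000000000000000000000000000000000000000000000000000000000000000000000000000000000000000000000000000000000000000000000000000000000000000]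

/-- value of step 1 -/
def E1 : ℕ := Cfsg.Agent.Lib.PackMatGroup.asm 2261 [
0x1d00090003c001a0005000d000480030000500078007800120003000b00008001e001b00020001c0012001e00060005c0020000e000080064002600070006800640030001a000c80008001e001a00060005400340001000c800480014001d000880014001c000200080003c0000000700010004c003c0001000b00004001c0014000c0006400120003000c000400012000c000c00014000e0001000d000340022001d0001000280000000800058006c00160007000580068001c000a00028005c0010001a00058005c00220017000900000003c000d000680058000a000f00028005c0024000c000c0002c0034001d000f0000800120003000b8003400000014000b0006c00120003000d800180018000a000c0007400240001,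
0x1b000080048001e0002000200068000e0015000080068001e00190004800000036001d000c00078002a000e000580058002a0004000b0001c00080006000600000001a0003000800014000c000f000f00038002a0018000500054002c001e000780058000e0018000100078003400070003000700024001a00040001c003600150007800400006001700000000000160017000e0004c00220015000580034001e0012000d000140032001b0007800140020001a000b8003c002c000400068000c00200005000680040002e000f00038002c0016001c000500020001400070004800400002000f000c0003800160018000b8003c0030001e000d800400000001e00060002c0026000a000d0005c000600070009800540016001c,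
0x7000600020003c001a0008800380032001c00008006c000e0010000c00040002e0002000000020001800120009800200024000e0008000180006000d00080002c0024001b0009000240034001900048002c0032000300088001400200008000380064000c000b0006800340008000d000e800240030001e000d0003c002a0014000400054002c0004000c800600022001800040007000340007000d80040001e000000080006400040011000380028003a0012000a80020000a0013000900028001000090000800780036000d000a8000c00020002000000034003c000100020002c001c000e000e8001c00100000000700064003a00190002000100034000b000780030000c0007000580048003c0001000400018003c0016,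
0x1700008002400180004000700000001a0004000c8000000040001000f0006c00320008000200078002800010003000340012000d000c8002400100004000c0003c0010001400038002c00140001000f0002000080017000d800180024001300058003800200000000c0007800000015000900004001000170005800280030001a000000038000e000a000480038003c0011000000058000e001c000b00030000e000f000380078002e001a0003000000018000d00010003c002e0018000100010000c000100058002800260004000300038000e0012000400050003c001700048000400280013000900044001e000200030000800080007000c0001c0024001800048007800340014000a8004800320015000a80024003a001d,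
0x1400038007800300010000c0006c000a0010000680054002600030000000280032000e000c8007400100011000a0000c0014000e000b8001c00160014000e0006800080019000e000200004001600040002800140001000900020002000020001000440006001d000c800740026000500080002000360009000e80018003c00150003000500000000d00088005c0026000300030003800100001000d000040016001e000d8006c002a000800048006400280014000780014001c000b000f0003400300009000e000580000000a00048001c002c0002000d0006c0006001b00080000c0022001600028004000140010000d800180016001c000e80058003200000009800040032001e000a8001400360019000d8007400360012,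
0x1200018002c00020018000b0000800220016000d00074001e000d00020002c00320017000780060000800060003000400004000a000700068003c0015000a0006c00380004000b800780034001000098000400260019000d80070001c0004000600038002000100005800280024001e000680064002000020003800000026000200008005c0018001200078002400240015000b8003800160014000d80024000e0015000200078001e0016000e000180004001d00040001800380010000180048002c000f000e00038001e00190008000100002000e000a8000000000012000c800280018001a00080000c001200140005800540036001d000300034002e00060004800040034001b000200048002e000e000d80078000a0013,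
0x1c000e80034003a0016000d800580016001b00028000400060010000280020000a0007000a0000800300004000a800100010001d0009000380010000f000a0004400260012000500070002e001c000a80034001c00000003800780030001300068002c000e0007000d0004400060014000180038000c0012000680028000a0007000e00038000e000b000880008002c000d00060003400160001000e80044000a0018000b00070002e0016000b0001c002c000900080000c0030000100028005c0020001800010004c002a0006000280014002e000a00050002000240013000100070002e00150001000140012000d000100060002c00150008800180030001c000c800780010001a00078003000260010000d0007000060015,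
0x160000800680012000f000300008001e0017000180050002c001a000400020000800060009800000034000f0004800380020001200018004c0032001b00088004c0008000f00038000400260019000380048002c0006000380070000600030000800100022000f000d80068001a0002000300058001e000800048002c003200010000000740022000c000e8003c0016001900078004c0038000900078007800280005000580054001a0008000000040002c001d000380048000c001e00040003c00240008000380050001e0002000400070001c001300000002c000e001a00000006800000014000400058003000050003000200004000500068005400120004000d00014002a001a00070003c0010001c000480068001e0013,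
0x18000e80058001200010000000280020000d000c800500010001900058006400220015000d0003800300000000e000680022001000078004000240019000e80068001c000d00030003400280003000d80010003c0019000a80004002a0002000400074000200160000800740032000100008004800280015000480020003a001600060004c000200160001000580026001b0008000580024000b000780010000000150000000580016001c00060003c002a00030009000080026000000000004400280014000500078002e000e000700018001c0010000900034001a0006000780024002c0002000f0001c003c00190008000580020001b000d8003400300003000d800040002000f0009000240026000400010007800340009,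
0x3000e8002c000800110007000040016001d000b8007400240003000600034003200060006000500024001d000e000240028000100090006c00040002000e00028000e00040006000140008001a00080003400180009000d800380004000a00060002c0008000c000380050002a0007000680074001e0008000100074001a000b000a0000c001c0002000800060000e0002000d00028001c001800030007000120011000c800380008000700010005c0004000100018006800380000000d80038002800030005800780036000c000200048002600080008000680028001800030003c001800160001800180028000a00078001000260001000f0001c003c000300068006400340008000a0000800200014000a0002c002c0012,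
0x19000d00044001800160002000340004001a0007800300024000f000a80078000e000b00090007800180001000d80050000c000400068005400340007000f000300000000200060006000280017000c00014002e0009000100074003a000d0000000700012000d00020005800100015000d800700028001000050001000040012000a8004800000002000300024002000040000000140008001a0008000640032000400038005c003800050006800400038000d000500070003a000b000c0006c002c0000000900008000a00170006000580024000a00050002c0000000500088003800120009000280018001c0006000e800040028000700078000c00000010000100058000c000900088004400100007000680054000e001e,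
0xf000b8005c0006001200050005c0038000a0009800280028000d00000003400180010000e00050002a000e00088002800060011000c800740024000c000380010001e0001000e000080020000200038004800200007000b8002c00300000000b00048000a0005000100028003000060006000600036000c000f0002c0004001200050001c0024001400098000c00380005000500004001c0000000a8004000100004000500050001a001a000c000740006000a000f00054002a0017000b000640034001e000b0003400380000000e80058003400040006000580004000a000880020002c00140000000580024000e000380058002c001a000600068000e000500008001c001c0003000f0000c001e000f000e80030001e0015,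
0xf0002800580022001d00058003c001a000100058005400300016000a8004c001600190004000100036000b0004000280030000f0006000480018000100010001800080006000c8007400380009000e0006c0004001d000b00008002c000000040005c0036001a00048000400140009000680054003800090000000240012000700040000c001c0000000a8006c00340004000300008002a0003000880000000400010007800440036000c0009000440014000100078006c00260015000700050003400120004800540002001e000000078001e00180002800600030000400088005800280015000080038003c0003000e0001c00380011000480008003a0001000d000280012000d000480030000c00060001800400020000d,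
0x16000a00020003a0012000e000140024000f000c00008002c0005000d8002c0026001d00048001c0030000000050000000180011000800004001a001b000600038000a001d00070004000160008000300004003400110003000200026001c00050003800240016000d8003c0008001800000005c0032001300020003000200014000a0002c0010000c000d8003800060018000680054001c001900030004c0002000d000d8007400220014000080020003a001500030006c0016001a00058001c00180003000d800300000000500000001c001e000b000600000001e0003000b00020001a000400010005400220016000c00064000c001100048003800100018000480000000200130009000780020001600060002c00140016,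
0x8000a80020000e0013000000028001a001e000d00044001c001e0001000380028000b000080064001c001b0001000380038000900078000400100009000b0003800320000000f0005c002c00050007800580000000c000e00008003c000b000b0003c001a000a00078004800020009000700010002e0011000e8003000080010000580014000a001600070003c0034000400008000000180010000e8000c0014000000010001400300017000e00038001a0003000d000240004000c00058004c00300009000200054003a000c000b800600034001300088000c0018001500008005800200003000200070002a001800098005c002600050007000480012001700000005c0004000000068002c0002000f00040006000160017,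
0x2000b0007800320006000000028002a001400070005c003200070002800300004000100058006800160005000d0004c0026001c000680008001c0006000e00064001e000700018002800060017000c000300004000f000900078003a0012000100004000000070000800080002001c000e800240000001c000080008003a00150008800580016000e000700014000000020006000780018001b0004000040014001e00088000c00280000000300008003a001c00000001c000a001c000b80020003a0014000b800700008000700090001c000600180003800180010000f0005800200008000b000d000700032000e00030004c00220013000f0000800240019000c8001c002c000f000b800300020000900080004800160008,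
0x1c000400058002e001b000980060001000190003000580024000200078000c00180000000c800140004000e000880040003c0016000680008003c000b00068002c003c001d00008000c00320014000a80068002a001100020002c0022001c000b00058002a0006000f0002c002e000400010006c001a000500018005800140006000b800280036000c000d000640022001b000c80014002a0000000a800700010000d000d8005000180016000e800380026001e00098001400040008000d0002c000c0008000480030001c000200058005000360009000d800480032000c0007000080016000b000e8002c001e0009000f00008003200030005000380016001d0004000200014000200050006c002c001100088004c00000012,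
0xb000d800040036000b000a00034001e0016000b80054001c0005000d80040001000090006800740020000e000e000340036000b0001000700024000e0003000040006001700018003c000c00010009000380012000800068007800280013000b8004400020006000c0002c0014000a000a0000c0028001d000a8005c000200130009000040026000f000b8000c0020000c000900050000a0014000300010000e000c000280028001e000a000e8005c001e0008000580078001e0015000800054001e000900098004800360009000e0004800140012000c800080028000a0008000380006001b00038000c001a00070008000140000000a000980030002a0013000e000200012000f000380074002e0016000f0003c0014001d,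
0x40007000140016000500090006400000015000d800000002000f00060001000000006000c000580014001d000d8000000120016000a8004000020008000400018000a0012000780018001a000f00008001c0008000e00088005800140005000c8000000160010000a800600032001200088005c00260016000a80054002a0015000e0005c001e001d000e80008000c001500060004c001600120003800780036000c00088004c0024000100060000c001c001e00048004c001a0012000a800540026001d0006800180002001000098006c003000170001000200022001b000680070002e0015000280070000e00190007800080014000b000580020001e001b00030004400220019000800054002c000500080005c0014000c,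
0x13000d0002400080006000600014003800020009000680038001200040005c00320017000e800340006000500090002c000c0002000500018001400150008800180000000100048000c00060010000a000200016000500088004800360016000a80068002e000f000000050003a0006000400054002000070000800380018001400088002c0010001800040007800300017000d000700018001e000e0001400100010000a800300002001e000200038002e000a000d80034002e001700090005c0006000a000d00028001a000a000e800780016000300040001400000006000300038000400000009800240014001900020000c0028000f000a80024003c00060002800480004000f0008800480018001900030001c00000007,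
0x100000000c0034001000030003000240008000780018002a000c00020005c000a0000000000028001e000d000c0004800040014000980054001200130005000300000000c00060003000060018000c800080004000100020002c0016000100080004c001e001d000e0000c0012000a0002000440030000e0000800040038000e00030003800060003000d0004c00360007000c000280024000a0001000280030001c000b00060000a00170002800300002000500080003c001c000900068002000220011000100058000a000e00000006800160017000400034000a001400018004c002c0012000900050000c000800008004000280012000400040001e0011000a80054003400090003800040028001600060006400200000,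
0x1300058005c00320000000e000100002001e000c8003c00240007000080068002e001e00098005800300016000b00014003a001c000e8004800300008000080044000a0007000a0006c00140000000080054002a001c000c80068002e0007000500008000c00000009800300024000000050005c0022000300088000000360010000200070002400100002000080030000c000b00004000e0008000b8007400020013000880068001a0005000c80074000a0017000e80050001e0015000a000040008001a0003000640032001100008007800300001000000034001c001c00060000c00080004000e8003c0024001d0005800540022001a00080006800180013000c80048000e000d000a80000001a001500078004800280007,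
0xc000e8006400040012000f00024003c0019000c80000001c0010000b000540020001100018006c00040017000780040001a000d000780068003a00080009000780024001a00038000c00340011000d8001c0038000f00098006400180018000c800700006000a00038007400160013000f0007800320019000b80030003a0003000a0001c001c000700058005c00300003000500054000c001d00068001800140012000a0002c003c001a000880028002a0001000080070001a00140000800380016001000010002400240015000200040001a000900088006c000e001a0009800440022001c00038000800340011000180070000a001b000d0001c001e0009000f0002000000007000b8004800160007000e80070003c0009,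
0x10000d8001c002a0008000a000680000001700088003000140014000c80050000e000d0000000040030001b000b000000006000b000780044000c0007000a800480020000800060007800340013000e00030000a001d0005000340018001d00090003c00260006000a00078003600110003000540004000a0007800240038001400078004c003c00190003000180010000d000d80064000a000500068007400140010000e000140028001000018001000140009000d800500022001c000580000003c0013000a8000c001c000300078001800340005000900070000e000d00000000000100011000d0006c00140006000b800700028000a0002800380022001900018006c000c0003000380040001a000b000e8003400020010,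
0x15000a8006c0038001c00040005000200015000700060000800100005800500036000c00020005c0028001b000f00004003a000b00060006800220008000a800300016000b000a8004c000600170009000640036001300010004c00120005000c000400024000e000b800540008000400068002c001a000400078001400320016000600020003c0017000080074001c001b00048005c002c0000000e00014002c0006000400000002c00070005000600008001e00000006800280003000780074001e0009000480038001a000c00068003c002e0000000c80020000400040004800040032001200030000000100003000200048002400160002000580010000f0001800140032001c0005000780022000e000d8003c00080013,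
0xa000500078003a0016000b00058001a0001000e8001c00220001000e000340020001d0004000100024000b00008006c001a0017000c00078002c001800028004c000a00050007000740006000d00020000c000a0017000d00028001c0009000a8003c0030001700070000c003a0018000800010000c00140006800380020000d0005800200032001d00010005c001a0012000180048003400120007800440032000f0009000480020000b000680078000e001900030006000260005000e800140016001a000b80020001e0005000a00018003a000800090006800120011000380018001c000f000d8005c00300016000900040001600030005000080022000a0000000740000000d0000800480038001b00038000800120001,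
0x1a000e00070000a000b00018006c003400090009000180038000900080001400180015000a8001c0022000e00090003400180006000680030000c0012000a80044003c0000000d800640028000900020006c00160007000d80070002c001100040006c0010000c00000003000260006000c8002000320000000e800780032001600068004c0022000f000f000700030000a00018006400220011000e0004c0016000c000d000040028001e00018002c003c0000000200058003c000f000d0005400200000000c00048003c0010000c0000c0022000f00020003800280014000e80030002a000a000d800780030001c00038004c0008000000050002c000e001200010000c001e00070000800680030001b000780074001a0016,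
0x1d000d800480002001d00098004c00320004000980050001800140008800480012001c0006000100000000000068001c003a0010000500050003c000e000b000080024000700090003400100002000b00028000600160000000340032000c000b000000034000a000680010001a000e000380000001a0001000480078002600040008000580018000a00080002800000015000580044001e000e00040000c000c0019000580008001400080002000080038001b000a0000c000c00090000000700020000e000b000640036001d0005000080034001c00070006000320014000d8005c002a000800000001000320003000880030003800140003800780034001300060004c002e0008000f000400004000f000480028000c0018,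
0xc00068003c000a0012000a800480012001c000480060001e0000000a80014001e000d000d80074002c001c000e800080038000700038001c001200020005800740030000700088002c0012000800060003800200016000a8002400020000000980018000a0016000b0003c002c000900000004800000013000c000280002000d0001800240020000c000d0006c0008001b000e0003c003c000a000c80030002c000700078004c0016000600080003400260010000a00048003c000e000a000740010000400020004400340018000100040002200100004000380034001e0007800500014000300078006400120010000e8000000360010000780050002c000a00090000c002800170006000600008001200058002800220003,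
0xd000100068002c001d0001000540004000b000600074002400180000000740002001c00008000c0024000600098000800020006000880024002a0019000100068000e000d000a800580030000a00070005c000c0012000900058001c000a000a0003c0016001b0002000040022001a0000800740020000c00078002000220019000d00054001a0013000b80074001c000b00058003400340009000e0004c000e0002000a800400008000300000002c000a0013000a0001c00360001000f000580026000300018005c002c001d000d80038003c000300030005c00100000000b0001000000003000d0004800240006000b80068000200060008800080018001d000e00020001a001a00090003c0022001000080004c000a001a,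
0x1d000080008000a000400088000000220013000c800000016001b000780040001c000900070003400040017000e80018001e001d0001000780036000400080004c00360014000a0001c001a000600038004c000e0016000d00028000000080008000640000001700088001400340002000780024000e000b000580068001a001c000c0002c000e0013000b8001c001200180003000500018001d000a80050002e0002000b0002c00340016000d00048001e001c00080004c0038000d000500018000e000e000300034003800100001000100036000a000e800000028000d00060001000260015000c00034002c0011000080048001a00000000000200028000f000c8005c00280007000800034000a001d0003800280012000d,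
0x18000b8006c0000001e000600004001a0005000a0005000360003000b8007000320000000c0007400020003000f000380038000100098004400280009000f00074000a001a000f000040010001b000400018000a001b00090005c002c00080007800080016001d00030002400020015000e80040001200150003000480038000000098007000080019000f000300010001e000900064002c0003000500010000e00050002000140010001d000c0006c00200018000b80070003c000100058003c002400030005000600024000700008001c002c001c00030005400000016000d8004400140011000d00014000e001e0005000440036000c000500010002600160000800140036000e00040005c001a0012000f00054002a000c,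
0x1d0000000500022000c00030007400200017000300074001c0011000980058002e000f000080000001a000f00030006000160018000c00008000e0000000c800300034001600070005800040005000000070003c0016000f0004800340010000780004002a00090006000300004000c0007000680028000400028004c001a0002000a00008003c000f000b0003c0006001b000b8005800300005000000008000400010004800640016000b000e00078000a000a00060000800340005000300024000a00100000800140004000c000280030001e001000040004c000200180008000740016001c000780078001a000c0005000600028001300008003c00320009000d00010002600120004800240032001100058003c002c0011,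
0xf000e8005800360006000e0002c001a0004000b0000c003c001e00010001c00280003000280004000c000200080001c0010001700010003800260005000b0002800280010000c0002400180009000a00074001400130005800540016000b000f00004002a001a000a800540030000700098000c000a001b000d80078000000100009000540036001e000c000040010000200010001000060014000f00050002e000c0001800440006001400058007400080006000f000180030000f0003000300034001d000c00008003a000c000d8006400060019000a80044001a000100098004c0002000b0009800480018000c000e8006c00240001000580004002e000000030006c0022001e0001800300024000e000a8005c00240013,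
0x16000c8001000360006000b0006c0006001d00010007800260014000080068001a001800030004800300004000100078003c001c000a00008002000070000800700038001000098005c00320002000400028003600190002000180030000200000000c000200050002800240024000f00008003800360009000b80024000c000e000b8001400280018000c000780038001900088004c002e001b00018003800080000000d8000800300011000500078001e0012000c00028002e0015000c80074002c000a000e000600036000400060004c0012001400080006800380016000c0001c003a001e0005800300026000d00060006800120007000980034000a0002000a8003c001800180008000600028000200040004000380007,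
0x8000e00028003a00190004000580022000c000600018001c000e0005000140006001700098001c0018001d000d8005c0014000c000980020000c001500090005400040018000e0006c0006001200090000c00340004000b8002c0000000c00088002400100010000c800240006000d000e00044002a001c000b0001c0022001a0001800200024000d000980010000c000000040000c0016001a00038001800140011000b0002c0010000c00008004c0036001a00000001c0002001a0008000000022000100088002c000e0017000e00070001a001e00088001c001e0007000c800000018001c000380054002e001c0006800240018001100080001c000e001700048000c001800170000800180012000600048006c000a0007,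
0x1e0004000780012001d000e80040003a0001000900028002e001a000b00018003a001e000200004000e0007000b80028003c000f000a80028002a0019000f0005c0006000600058007000160005000d8003c000e0017000480070001a0011000b000280004000600050004c001a000800068001400140007000d0000c00220006000e800680006000a000f00024000a000f000a8000000100004000900000000e000200098005000140016000980040002a000e00048002c002600100008800740034001200048004c0004000d000400010003a00150009000380032000f000680008001c000d000580010002e000300038006c000a0018000a8006400380013000800044003c001c00080000c0002001500090001400220018,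
0xd000b8000c002c0011000e8004000140010000e800180018001d000180074000600130003000780008000d0004800300024000300070001c001e001700080000c002e0010000400060001e000c000b8000c00120004000a80074003000130006000580022001a000180048002e001b000700018002a001300078000c000e001b000c8000c003c001900078002400180014000980000003c0016000b00000000e001600048001c000e0003000880030003c00140009000140010001d00000006c0004000200078004c001600010004800180010001c000280034000000070002800680000001c00048006400280019000380050002a0007000d0001400000000000e00030000e0000000000034002600160007800080024001d,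
0xc000680048001a0001000500070001e000e000000004000400010000800300024001100098006c000a0012000d800340020001c0002800140006001b000100058002a0001000200038002a001e000a0002c00060006000b0007400360015000c800440022000b000d80018000800060003800240030000a00000004400220008000f00030000a0004000780050002c0015000080040000a001000010003000080018000b000300034001900080005c0032000000020005c0000000c000e80008002e000c000680058003c000c000e8000c001e001b0000000000026000300060004800040001000900050000c000e0005000500032001200040000c003c0003000c8000c00080000000280044002200120003000680038001a,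
0x8000c800500030001800040006c0018000b0007800600000000b0008000480000000c00040005c0004000d00018007000020008000000064000e0014000c80030003000080001800200012001e000d0002c00020009000b800540032000d00000007000100011000f0001c000a0018000a80018003a001c00040002000260011000e0000800080018000800050000c000e0005000380020000800028002400020002000300078002c0001000c00000002c0014000e800340002000700080000c00320002000c0004c0002001e000600078002a0016000300078003a0018000b0006c003a001e000e000780002000f0006800500002001900028006400040009000c0000c0038000b000d800740030001000098005800020008,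
0x1300078003800000017000580070000200050007000740036000e000a80024002e000f000f000280008001c00068006c00380010000e0004400160019000c0006000280006000680004003a000500040001c001c00000007800600024000700000005800000000000b00058000600040002800080000000e0000000040008001d000580014002e000e00048004400040010000080014003400040000800000000000f000e800480038000700000004400020008000e80004002a00160009800780006000d00028002c0010001400040002800120008000e0002000060001000300048000e001c00090005800200009000d000540034001a000700040002400120005000280038000b000a80008000800190008800600010001a,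
0x16000980000001e0013000e800680034001d00048003c000a000c000680018002a0008000f000140030000a00080000c00080015000080064003c001d000c0006800380011000600048001c000300050006c00360005000d0006c0036000d000100040001a001c000c800440022000000080006c000e0013000080044000c000a000080058003a001e000e80068001a0012000b00074000e001b000e800040012000c000d000680022000b000f00058002a0000000a800440038001000090004c001a0004000d80060000e000c0004800540038000d00000000400040009000300054002a00160002800540004001a00040005c000800150004000180014000b000900024000a001b00008005000140005000c0004000060016,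
0xe000880058002e0000000d0000000280005000c80018000a0009000a80000001c00130004800080000001100050006400180014000e80058001e0007000400044000c001900060007000000018000a80004003c0012000700028003000150007800700004001e00008006800240007000f0006400360012000c80020001600030004000480024000600098002c001e0018000e0003c003a001a00080005c0018000a00020002000300017000080020002c000e00040003c003c001700090001c002e0018000300058003a000d00038002400220013000480004002e001a0001000480032000d000a000280036001b00040004800060004000a0006000380000000280068002e0002000380028003600100008000580008000c,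
0x1400008005c001c0013000e0003c0028000f000680048000a001c000400050003c0011000080018003200140002000140028001900058005c000c000800088000c0026001500008004000280007000d800780016000c00088002400220004000a8001c000e0003000f000340008001a0006800340000000e000e8004c00360007000c8006c00300012000d80044000200160003800780006000f000b8001c00040018000080054002a000d00060004c002c000e000100010003400150003000740014000e0008000380032000a000f0005000120018000f000680028000d0003800400006000c000580024002c001b0006800640036000c0001800700032001800008001400200016000d800080004001700070001000180006,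
0x1100038001c001c00150002800040016000100018002c000a0003000c8005400080008000080000002a00130009000380016000a000580078000c000c0007800480010001a000380070003a000400068006c000a0006000e0002400200011000280074002a0006000b800680028000600060005c001e0000000d0003000000017000980064002a0003000a00004002a0005000600018001a0013000080024002a001a000000004001c00070008000200036000f0005000140004000d0005000780028001700098004c0016001c0002800580004001e00098001000360019000e0001400000010000980040002a00130002800180030000500098000000080010000200020000800160003800200002000d0003000200022001b,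
0x1c000080050002a0005000e00038002a0013000480018000c00160005000600014001b00078001c000a0007000b80038000e0003000b80048002e0011000a80040001400180005800580032000000068002c00080017000700024000c00190009000040006001e00068002c000600140004800780038001c000300050002e0013000c800280034000d00068005000240010000500040001c00080007800100024001d000d0006400360013000400074000a000e00078004c000800130005000040012001c00068001c0020000a000380008001e00000005000640002001100050000c0002001a000f00008000400000005000480008001200030007800380004000e00064002e001b0000800300006000700018003000040014,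
0x800010000c0008000080050001c0010000b00034001c0019000e00008001e001a0003800640006000100060002c001e001900070000c0004000f00020000400300007000c000740012000400088002c002a000a000500028001e000a000a0006c00280018000a0006400220013000f0002000340014000580048001a000b00038004c0034000500090002000200012000580030001c0006000e0002c003a001a000b8002c00200016000180018001a0013000300054001c001600068007800040007000600068000c000f00098007800360003000380050000e000700090000c0024000d000c0006c003c001300040006c001a000c0006800500004001200018003800040016000880058003000100005000100028000d,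
0x150006800780020000700070006c003c0004000b800500010000e0004800140020000e0008000040032000f0003000200018001e000300024003c001000008004c000e000300098000800380012000500054002c000c0002000440002001d0006000080010001900018004c00180016000580010002e00020003000400018000a000e000440004000600008005c0018000300028004000100005000b000300006000b000700078001a0007000080018002e001400008002c0022000d00000006c001c000300068004c002c001c000700058000c0018000b8004c002a0012000d8001400280004000d00010003a00160007000700010000900030005000360008000c00038002c0009000a0005000060013000a000540014000e,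
0xc000b8006800320018000e800700018000a000a0002400140002000b00034003c000800050005c0022000d000700078002a001c000800058000c0006000e80068000a00010004000600002000f0001000580022000b000200068003c0004000680030000c000900030001c00080006000b0004c001c0000000e800180036000c00088005c00020000000680010003c0004000680064002e0005000e800600018001900060001c000c000b000a8001400200015000100014003800160005800380020000f000100064001200160006800480030001100020004c0022001600088003c002400100003000500022000f000e8001c0038001400000000c002a0003000a80064001a001500030002800180007000e0001c00060009,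
0x9000c80028003c0014000e000200016001c000a80004001a0008000280064001a000c000000048000e001900098006c0018001a000f0003c0000000a00070000c000a001e000080010002e0012000b8001c002a0009000e0000000340013000e0004c0010000f0009800080038001100068004c003c000f00078004c000a000600050006000040013000a00040003a0003000b800600010001900040000c00160003000500024002a00120002000500000001700058007400140009000b00030002e000f00080005800260011000100034000200060007800240010001a0007000240020000e000b00070003c0004000e00020001a000000040004c003a0019000280060001e001d00088001000100002000900024001c0015,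
0x1000030000c002c000800090000c0020000e0009800540020000a00030002400340009000080050001c0002000b00020001a0018000f000500008000c00048007000200014000900064003a000800088004c000e001100080006400380003000c00064000c001d000080024000a0003000000074003c0013000900050002e0007000c8000000000012000a000300030000e0000000200030000d000b8006c00060004000c800100000000900030006c0012000f0004800540026001a000d000140014001100068000c0014000700068004c00080011000a00044002e00180008000380004000300030006c00340010000f0001800000006000d0002c00000015000400070002a00090000000680016000c00080005800220012,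
0x14000000014001a0010000d800700026000e000300058002a00140003800680000000a000a00040000a0005000b00018000e001b0001000200014001d0008800040016000a000f000300034001a000a80024000c000600088000000040016000c000500012001800010003400080019000f0004c0034000500018002400100004000600040002e0002000e8000400000002000180020001c0006000300000001a0000000a80004002e0003000a00000002e00180007800300008000f000e80058002a001b000b80078003600180009800480014001d00090005c0004001d000e8006c002c00050003800240020000e000e8000c00300015000f00070001c001400040002c0012001d0005800140020001b000a8006800340005,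
0x1d0006000100034000300080000000040001000500064000a001a0004800680026001400010000400120013000280014000c001b00028005800000015000600058002c0009000800068000a0012000b8002400180014000900018001c000b000c00074002a0007000100044002a0014000e80050002e000600040003000280009000380038001a000d000500070003c00040003000600024000f00070000c003a00030004000380004001200078001c002c000600080003000140005000900000000a0012000b0001c001c001700070003c003c0002000880038001400110008000300032001c0004000300034001c000900008002a000a000f00070001200130009000580032001100010000c000e0007000a0005800200009,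
0x12000280068003c0005000280064000a00130006800400030000d000a8007800040005000e000240028000f000600068000a000500030005c00220007000180078001a00100001800540028000d000b00018001e0010000c800040024001a000f00040000e00160005000380006000600088001c002000040006000540032001500000005400360001000000054002c000b000680058002e0012000380000001000050004800780008001600060000c002c0019000f0000c003c001a00080000c003c00030007000600022001a000d00038003a000b0007800040026001d000c00020002a0010000f00048001c0001000580014003400050002800440018001500020004c000e0014000e000780038001300018003c00060002,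
0xd000b00004003a0014000d0002400340014000a800580008000e0008000580002000a00078005c0008000000010005000080014000200040001e0019000f00078002e001b000d0007000100014000e8003400320013000e000280036001a00008006400240010000180074002e001d00040004400240019000c8007000280014000b0005000340003000800054002a0010000b8004800020012000800014003c0013000200020003600170003800140002001e00020006000300013000380068001c0004000f00064002a001400040001c001400190006000200030001600040002400120009000d800300036001400050005800120012000180070000e000b00090001c003a0000000c80024002a0007000d8004c000c0002,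
0x17000d800600034000900090004400060010000100038000c000800010000c002c000e000700034002e0017000c8002c0038001d000400024002800120001000180010000f00060005400360019000980070000c000b000b80004000e0019000f000580030001e000f0006c0010001b000b800600008001000088005800080010000c8002400280003000c00000003c0002000400060001a001a00078003c0026001a000680054001c000e000880028001c000d00008001000080012000e0004c003400010008000040002000000050000800380012000a0003800200002000e800400024001b000400038001a00160000800380022000a000b8002c00080009000980044002e0011000e800700036001b00040005c0036001e,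
0x1b0006800540002001600010006c0034000d0006800040026000400018000c000c0015000300044003c001100048005000200009000c00074000e0000000480040001c000b0001000180014000300058002c003a001b00088004c000e000000018005800140019000a000740026000b00060004800040008000300050002c000a000580020002800100003000380036001400090004c0034000b00008007800100012000a0004c002a000d00028002400340019000b0003c00300001000c80068002e000d00008007400040009000580048000c000800090003000220004000f000440026001c00030004000180015000c8003c002600010009800300026001000068002000020010000e000240036001200018006400000019,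
0x5000b80070002c0018000b80068000600190000000500018001a000b000300000001e000a800600022001c00078005c0024000900040000c000a000d000180048000c0001000800078000c0001000180058001a000d0005000100034001e000380078003c00190006800580016000000018002c001400010008800300032001000018003800260010000c0007400180003000080038002600040002000680000000200028002400260008000a80024002a000b00038006c001e0009000f00034002e000f000b8003c000c000f000580034003a00190008800180028000100020000400160012000f00004000c00100006800500020001b00058001c000a0012000e0007000220017000300010000c00000004000180002000a,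
0xb000c0005000240002000d0004000200001000e8003000100003000400014002c0006000d00024002600020000000300004000d0006000400008001a000e000180014000800098000c00140010000a80020003c001e000e0006c001000090007800540034000800080004c0016000400060003c000c0004000780078003600180009000240014001d00030003c00320004000f000440004000d00078002400100016000d000200016001c00090002c0018001a000e000400008000b000b000180014001600040005800260010000300070000200020005800380018000d000f00068000c001b00020000400240010000e0003c002e0019000200014001a0004000e00074000200030001800580020000300080004800020018,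
0x9000d8004c000c0008000e00074000c0005000e80014001400050000800140030000f00020002000360010000300000003a000f00020002c002a000a0007800480036001c00088002c0004001a0004000440030001900060003c0028001d000480008001c000900068000800300000000a000140036000000008006400360003000a0003000360009000080044001e000f000c000440026001d00068006800160018000a0005c0002001e00060005000080006000e0002c0004001d0005800280012000f00090006c003a001d00068002c0024001300048001c0002001c00000007800200011000780060000a00010009000500036001b00078003000140017000c00050000a00020003800580036001700038003000220008,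
0x11000600014001e000f000180018000c00090000000240024001800070004400220004000a0005c0034001900018001c001800020005800180034000b00070002c001c0017000a000100022001d000600050002c0006000a0006c00020002000a00054001c001200018001c0004000f0006800480004000a00078003c00120008000f000500032001100050001400020010000e800500010000b00058000c001e0019000e80060001c00060006000380036000400008000c00020009000200068001e0013000a0005c000e0006000e0005400260018000100078001a0015000e000340010000a0005800180002000e00008004000300005000a00054002000160007000480010001200080002800160004000d80050003c001d,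
0x1e0007800740010001e0006800500002001d0004800380026000b0004000600006001c000980034001e000700048003c0038000f0003000000038001d000900050002e00020006000480038001e000100034001c0003000500044000c00180003800380036001a00048003c00000014000e8003c0038001100078001000140016000d0006c001c001c000e8004c0024000300090006c001800180005800440028000d000700024002e001c000d00018001e0017000d0000800300010000880000002e0019000b0001000200003000100060001c0003000b000680002001a000f00030001a0008000e00038003600110005000600008000f000500000001e001600060001c0002000e000b0001c0026000300088003c00340010,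
0x140000800500004000d00018000c0028001e000f000340016000000020005400160005000800074001c0013000a000680014000500010007000380013000d0006c001400190002000540012001900050004c003a00020008800380032000a000c80010002c001a000a000200014000f000680060001c000a000e80004001800030005800740012000d000500044003a000800048006c00120003000300038001a001e000e00014002c00140005000700026000b0007000780032000b00028004c000c000e000880060000400010007800580026001200020006c00300009000c00030003a000700080002000320018000e800040016001e00080001c000e0017000200074001a0009000c0000c0004000600098001800080018,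
0xc0007000020005000e80004000000060006000380016000d00038003000000013000200060002200130006000140028000b00070006000180012000b8003000100003000b0004c002a001100030000c000e000a00048002400380003000e8004000120008000c0006c001c00150005000780016001000070004c001c0013000a80060003200100005800600012001c000e8005c00220000000c0000c0012001800090004400120011000d0005c001c001500060000c001600020003800740014001e000d8005c0028001c000580004002c000a0008000340032000600048000800340016000300078002c001a00040004c0000001200078000800120008000c8003400260018000480008003a00010004800280026001b,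
0x1b000700054001a001100098004800080000000b80000001a0000000e0007400220001000a80040001e000f00038004c0006000c00088001c0018001a00008003c002a0009000580008003c001700090005800300018000000058003c000b000e8005400300013000780010000a00110001800340000000700018000c00000010000b00020003c0009000800060002e000f0006000700036000000098002c0004000800070000800220013000b000680036000a00048003400140007000d80004000a000900070006c0018000400060004c0028000400040000c003c00010000000640022000b000800008000a0010000700014001a0003000a80044001a001e00028007000000006000180014000e0002000980018003a001c,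
0x1e000e00004000e0016000580014002c00080003800000030000200078003800220005000000028003a00130005800440002000c000380038001a0017000000028003c0014000c000500020000e00010007800220009000880054002a0000000780044001e00030004800380004000400080005000060009000800068000c0017000a000340038001c0002800100008001200088002c001600190006800780004000b000f00014002e0018000d00054002c000f000b8005c0000000a000d0001400340010000580050003a0013000880040002a000e00090004c00220006000e80064000e001200008000c001a0010000f0004c00160018000f0004000200005000f0003800180000000600058002a000700000004c00340009,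
0x9000b000300014000e000400024000c0001000f0002c001e0010000180018002a000e000880008003c000b000c0001c0002000600000004400300014000c8001c00040005000700058002800090007000700034001d00070005800360019000580034002e0013000a800600026001000010005c0028001a00050002c002200040001000040010000000030005c00160005000d8003000340018000680068001c001d000b00030002c0006000b80034003a0015000e800680036001c000780018000c0006000900018000c001e00068003c001e0018000f00010001e0000000880014001c00110002000040012000400060000c00380019000100030003c0010000880000003a00180006800580000000a000a8001800080013,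
0xe00028002c0006000200058003000160008000200024002c00100001000140034000e000e000440004001e000b0003c002e000700030004c0012001e00058004c0000000c00058004c0020000f000a000440024000700088000000060001000e8001c00320015000d00008003a00050002800480012001800078004c002e00090006800080002000000040002c002e000c0004000580024001d00098005800280002000d00058001e001c000c00028002c000f000e8004c0038000100028005c002e00010008800000018000200068000800340004000400078001e001e00038002800340000000c0001400160000000d80010000a000a000300078002000020000800480012001100028002c0036001b000080024000c0019,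
0x110008000700016001e00020001800080007000a8004000240010000a00060001e0016000b800640024000c00050006c000a0011000c800000032001600080003000200002000b000480014000c00090003800380019000880018000e000a0008000580036001300038005400040011000a000180000000d0003800780014000500028003c0012000c0009000740014000100028001400260017000000050003600040002800680010001e000400020001a0013000b00064001a0013000080018000c0000000f0006c001000110007800240004000e000100040000c0009000b80070001e000c000c80078003c001800050001400020010000680050000c000f000b80024002e0012000480008001a00130006800680012000f,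
0x1600050004800320011000e8000c0020000200048007000020002000a80034000c0011000d000280024001b000400050001a000b000100038002a0004000580068000e0016000b0004c00020016000b000500006000b00038003000020005000e80050000200020002000240034000500068002000280000000c80044002600150002000740030001a000a00028001a0004000e0006c001e001d000880038000e000d00028001c002600060004800440026000500098004800280000000a00038000e0011000100024000a0003000680078003a0007000400038001a001c0002800280016000e000780048001c0017000f000100008001200070006800380000000c0001c003c00060002000700030001e000d0000800320001,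
0x1600068001000280011000900038001e001b00060003c00340004000d000600028001100080004800140000000d8000000280003000e80070000e0004000d00058000000190004800500004001e000d8007000360012000f000000022000b000d00060001e000d000b80070002e000b000880038003000090006800600016000d00000000400000006000380070000a000300058007000300012000a8000c00260001000200064002c00100009000240038000b0005800380032000100008002800340011000b000680010001500090005000100019000c800280012000e00008001400300016000300020000a0012000c80024002a000e000d0006c0018000a0008000380038001e00090004c0036000d0002800480008001c,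
0x1600078002c0018001a00078005c0024000e0007000140032001b000580058001e001900060003c001a000f000780000002a00060009000180016001e000a800700014000600028006c0014001d000e000580004001e0001800400022001b0006000040002000c00000003c001c000a000580014002e001c0009800580022001c0008000180022001d000d80010002c001e000f00024001e0002000d000400006000c0003800300026000800018004000120004000c000440028000c000d00018003a000600098005400080003000c800580026000000000003000340002000000040002a001000000006c00300012000e80010000a000200050004c001e0017000180028002c001400058000800000004000b80060000c0018,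
0x800058002c0018001d000e80074000600040000000600008000000098000c002e0005000600048002e00050003000540036000d000a00064001e0000000280040002a00090009000380038000e000c000300000000e000b000440004001c000480000003800030000000400006001d00088004000360003000c0001c0022001a000d00024000c001200000000c001e000700048006000160011000c800680000000c000b8006000120017000d8003c0010001b000c0006c0014000200070004800120013000e800340034000d00068000c001e000700038001c0004000a000380048003400180006800600002000f00030003000280005000b00078000a00180003800600030000e000f00000002c000e000e0002800340001,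
0xf000780040001a001a000700028002a0008000780074002600070007000380036000300038000800200006000080060001a000f000380024000a000c0005000380028000b00060003c002e0000000b8000400140016000400004002200000001000440006001c000d0001c00240008000500010002e0007000a8006000020002000780064003a001500078002000340004000180030000e0011000300004001e0018000d800680010001d000e00058003a000b00098006c002400180002000240020000800068004c001e001c000b0000c00220000000200008002c000d000c000640018000a000800020002c00110008000780006001b000e800380004001c00028004c000e000a00048003c003a001e00018002c00040013,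
0x1d00040006400120013000f000300012000a00098001c0028000300068002800320000000900064001c000c0000800080020000f000e00074000e000a000600048001e0014000a800640000001e0004000340022000a0008800680008001c000600038001000110004800000024000e000100064001e000d0006000180022000f00068006800300010000e000340000001c000180054000a000b00008000800000010000d8005c002a001000078005400120007000c00058002a00120004800700026000a000980004000400040002000100024000d000f00038000a001500028007400080007000e800240030000700070004000340012000280060002c001a000080014000a00030008000480034001b000300004001a0014,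
0x900060001c002600160004800400020001d0002800640018001b0005000740002000c000a800340012000000058005400140007000a80050001a0013000900048003c000900028000c00380015000b0000000260010000a00000003800180003000300034001c000180040003c0016000800014001c000f00020006800180015000700028000c000e0007000580020001c000d8003c00320012000f0006c003c000400080003c0022001100098006c002c0000000b00064002a0013000a00034002e00150005800540000001900058005c00160014000100044000c0001000b8004c0014000e00058001c001a00140004000600018000c000000014001c00100009800000018000d000600004003c0012000b0007000340004,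
0xe00028007000360000000200004003400170004800380006001b00080002c001c001b000e0003c0034000000098003800320002000e0003800380017000d800040008000e000500070002e000f00038002c0010000e000c80054000a0002000400014001a001a000b0001c0034000e000900004001a0007000f000000034000500000005c0032000d000400008000e000a000300000002200180004800680036000500048001c000a000e000b000540032000a000c800400028000e000b0006c00120005000900038000600040002000240038001400020003c002a000b000d800700024001a000d00064001a00110000800100036001900028003c001a000300018001800200012000b0001c00240010000e0006c003c0000,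
0x50004800740036000f0008000480022000d00080000c00220005000b800740022001b000e0002c0020000c000d000700030001200098003c003000050000800280014000b000500008000e0006000f000700014001a000d80058002a0015000d80074001800100002800140038001c000280064001a000a000e00074000a001d000b80054002e001b000800014003c0001000f0000800320012000080038000e00160008000740006001c000500030003a00110006800380036001900030002c002c0013000c800140036000f000f000200014001600080006800060011000080028001a000c000900010003c0003000000014001e0017000880014002600000002000180020001500020006c00180015000480014001c0018,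
0xd000c80064000a000c000a8002000060007000f00020002e0017000480054002a0018000600048000600060006800640004001a000a0004c00240005000d8003c002c0018000e0005c000a00020006800580032001600008006800180010000900060001a000b000a800100026000b0003000100028001900020006c00320015000a80074002a001c00090004800000019000e000680010000d000200024000c00160004000480036000a000700034002000040009000440028001000068005c003a001c000d00048000e000700070004c000a0004000b8002c0026001c00058001000360001000c800740004001400008001800020006000a00060000a0018000f000100016000900058002c000a0019000e0003000200012,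
0x80003800500030000900068004800280002000d80038003600180004000180004000a000a80030001c0007000c00054003a000b00010000400040006000f000740022001e000600054000a0010000a0001400120019000900070001c0008000500018000a000e000900010001a0011000200014003a000c000080074001a001e000f0000c003c001100040005000320005000680070003a00160003000000000001d000a800600014001a00050000c001a001c000400064003a001c00068000c001a001c000e80004000a00110002000240012001b00018006c00060018000e8006c0030000600078006c001e000a000e800040008001500088006c0034001000008006c0028000f0007800640014001200010004000360011,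
0x2000c000300000000700030007400060010000d8002800060004000700030000200080002000400016001e000b800780008000c000380074003800030002000700028000f000880074002a0007000d00034003a000e0008800080022000d000a80008001c0015000e8003c000c001b00028005000280009000100014002a000c000b8005c001000050001800700038001e00070000400140012000b8001c003000090008800740038001800068001c003800060008000580014000e000c8007400100012000b8001c000a001d000c80050003c000d0006800440036000900010002800220009000c800200004000a000c8004800240001000480058002a000a000d000300038000a000b000500004000100058000400360015,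
0x1400070001400300008000b0006c00360009000e0002c000c001400078000c000800040005000700012001000088001c002800150007000080018000a000c8001800380017000c00054000000160004800440020001d00048007400200003000200010002c001700038006c00180005000d00030000c0014000c8000c002600070006800080024001e000c000700030000b00050004400080013000a000380034001500080004c001c0015000b8003c002c0011000d00040003c000d00048007000320015000a0001c002e000800070004000140004000480034002e0016000600040003a001300000003000000007000980014003c000100028003c0020000d000e00070001e000f0006000540022001900060002000040008,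
0x1b000d8006400180001000e800640000000e000580030000c000c000e000200018001d00078000c00180012000c8000c0020000800078001c0028001b0004800740022000a00068003c003c000100058006c0020001a000800060003c001e000a00044001e001c00028004800040013000900028000a0004000380038001c0001000000014001a000c000c0000c0026000f00078005c001c000500020006c0018000f000d80004001c0008000d8000000160003000880028000a0002000d00054000e001500008001000220014000a0000400080009000b000100026000b00070002c003c0004000d00000002e00170006000400024000d000f0001400180018000800054000a001b00030003800200008000d0001400020013,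
0x7000c0000c0006000100040007800300005000e80070001400020007800780024000d000e0007800160001000000050002e001300060000c0034001c000580058003a000000070006000040014000d00078001e001800028002c00120015000b80058002a0007000d00070000a0003000c0004c00360015000380030001a000000028007400060001000480014001e0012000c0000400360016000a000540034001b000b00014000c0000000680038002a001a000c800100030000a0006800740032001400090001000100004000f000500016001200098004000200017000e8002c0030000800070005c000c00130005800240020001c000b80034000c00100006800740008001b000880070002e000400048003800020006,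
0x10000500068000c0014000b00064003a0004000c80054000a0019000b800640014000f000b0004000000017000b000700034000700058004800380016000180038002a000f00040006400060003000500038000c000c000180048000a000c000e00054003c000f000c800200012001c000a800040034001e00050007000040019000d8000800240010000c8004c0034001e0007800100034001100020002c0024001c0007000480036000a000e8004c0018000f00050002c002c0007000e80064001e001a000d00060002e0008000380018000000140009000300000000c00018002c002c0000000e00060003a00160007000580024001a000c800680014001600078002c002e000800070000800240007000980054003c001d,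
0xf000b80044002e000e000380054000c001d00028000c00220002000f0000c0006000000098002000140015000200004002c000e000500070000a0018000c00014001a001900030002c001a0003000980048000e001e000c0002400060017000e0006400220017000b00004003a001a000700078002e0007000380050001e0018000b8005c001a0001000880010001e0008000d8001c00380003000a80030003c0017000b80054002c000b000b0006c000a000f00050007400220000000b0002c001e0007000a0000400020002000f00000001e001000058004000340012000d0002800100002000c80044000c0002000500030002e001000008001000380003000a8002c002e001e0004000700016000f00000006c000a0002,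
0x90004000700016001d0007800380034001800020001800060013000a000680002001100080004c00340015000d00010002a000100040002000240010000b00004002c0007000780050000c001b00040000c0032000600018004800020019000000008002a0001000c800580026000500080006c0018000600040000c00140001000e0003c000a0006000200054003a0016000f0000c001c0008000e800380038000a000d8001c003c000f000d000680002000e00020001c0010000b00020002000120009000c8007800000007000c0004400160006000c0003800160005000a80024001c00160004800300032000b000f0000c001e000e000b0005c003c001300030005c00240011000c00058002c0011000b0001c00240009,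
0xd000c800680034000100078003000120010000b0006c00040014000d80030002e000800050006c002c000400068005c0012001e00020001c002e000d000d800480018000a000000074000c000f00020007800040001000d800540036000e000d0000c0028000d00090003c001c0010000480074000e001100068002c0010001c000380058001a001b000a00060003200060008000500010001e00020007000240015000d0007400220009000f0001c002a001b00070003c00020011000900064002a00130006000280002000700000002c001c000200018000000300000000b0000c000c000b00080000c003a0002000900028002e000a000d00044002c000800080002400320002000000030003c000800058000800300002,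
0x4000080048002e0015000b800680020001c000a8000c0006000f0006800240018000d000300024001400150009800700000000f000980058002800020006000340000000600018004800340010000180030001c001500028006000080017000180064001e0015000080078002c0006000700004002800140006800180032000a00068000c0032000f00018001c000600020001000680026001d00040001800240015000e80074001e0005000c000480024001e000d8006c00300002000f00070001c00050002000740000000300028002c003600160000000380026001400090006800380003000e80028001400180002000380024001d000d0000800120009000780018002a0010000580030001e00020004000540002001c,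
0x4000d800440000001500028002800020006000280024002a000d000e80038003c0018000c00050000a001600068000000340004000a000580036001c000400054001a001b00050005000300005000a00038001c001300000003800100019000e00058002c000100050002c0014000100098005400240014000a8000c00360012000d000180008001000070001c002c001100040003c00080018000e000000012000f000a800040022001d000480054000a00050008800080006001d00058003000280018000580040001e001d000480024000c0001000b8002000380013000280014001e001b000180058000e0010000f0005c002400160001000680032001000008004c001e001c000000024001e00060007800200026001d,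
0x17000500074002c000a000100024001c000c00018006000180009000e00044002e001a000d0003c0036001400008004800220011000880050002c000a0000800280022001400058005800160004000a0003c000a0000000c00044002c000c00008001800100007000480034002400190001000380008000700058007000100013000b0006c000e000a0002000340006000a000e8000000140002000800044000c001d000300074002000130000000480014001000070005000340016000e800040006001d000380060003a000d00098000000200001000a8003c0000001e000280010001200130008000700016000c000b80068003c0007000e80050001a0019000d000780010001c000f0001c0014000800040003c00300019,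
0x70002000200034001b0006000680034001b00080004400240010000d800580000001d00088001400300003000e8000000320015000080078002c0009000880014001a000f00000005c000c00120004800100004000f00068003c00020016000b80024001e000000048005800140016000700038000c0003000880024001c000d0001800540018000c00090004400360010000c80004003000150006800040022000c00048004c002200050006000600022000400060006c002a00160002000240012001400078006c0012000d00008001400320005000a8003000200008000d00010003a0004000e00040002c000f000980074002c00100001000340026000e000e800180030000c0009800700026000500088002800020015,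
0x140001800040000000e000200008000c001600030007000360018000c80060002e001c000f00034002200140002000400036000c000b000000028000100018004c00000018000d0000000380006000180010003c00180001800440022001a000600058002c0013000a8004c00220003000a800540024000500080001c000000130005000400014001e00030003c003c000c000f00010002c001c000a00060000a0012000580074003c0000000d80074001200050003000180000000c000b800200004000500038001c002c0018000c8002c0004000100080001800300003000d000580006001700048007800160015000a8007000080001000c0006400240016000a0005800300017000b000300030000c00098001c00320008,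
0x16000a00068003200110005800580022000f000e8003400280009000680060002a0005000e0001c000c0006000400024002600070007000200006000e00090003c00140018000f00038001a000200058000c000e0003000d00000000a0013000180008003c0014000b0004800280001000980034001c000400010007800340016000980008001a0010000b000200000001c000b0006400160017000a00074001e001b000600058003800030008000340004001d00088005c0030001300010001c00020005000a800780002000c00000001c002c001800088005c0004000800060000400040001000680070003c001200020006400300009000b0000c00260008000400058000c000b000580068002e000200068003000120011,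
0x70008000000000000600088001400320018000a0007800000007000000048000000110002800780000000d000d8001c002600050006800480010000b00030003400080013000d00064000c000b0004000640020000500008005000040013000600044000e000e000a0006400060004000380078003a0002000100014001a0017000980060001e001900028002c002c000600068006c0002000f000e80014003800190008000640020000700028004000020019000c800700020001c00058007800380009000b8000c000e0006000400040001800070000000700026000d000e000780032000900050005c001c000000008005c002e0007000100048002c0001000480078001c0019000b00018001c00080004800300004001e,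
0xc0007000740032000200088006c001a0013000300048000a000400028003400020001000f00004002800140001800580038001a000b8004c000c0015000200054000a0009000d00078000c00100006800300008000800040005400160011000200024000e001300040000800080004000b800600008001b000d000140030001d0005800380020000e000680048001e001900088006000180009000a80064001c001b000a8004c0036001400060005400220017000e8003c003a001a000600074001a0005000d00048000e001c000d00004000a001a00058005c00120012000e800000022001d000b8002000260007000480014000e000f0000000140024000800058004c0004001a000b800700012000a00098001c00120015,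
0x1a00008006000060000000d000040006000e000e8000400140017000b000300016000d0006000480016001c000780068003200160002800600002000e000480024002a0016000c00020003c000400010001c0012001900070006000020002000f00014003a000f00000001800140009000b0001c00360019000000020000c001d00030000000060001000100070000c0004000c800780024001700010004000240002000f000180000000300040001c0026001d000580060000c0012000d8004800220008000780064002a0009000a8000400280014000180040001e00150002000780016000c0008800400006000500070001c002a001000078000c000e001a000c800440008000100018003c002a001a000d000780030001a,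
0x11000200060000000000008800340034001a00010003000340013000d8006c0012001e00018004000060010000e000540008001a00020006800220006000f0004c0028000e0008000040012001800008000400280005000b80064001c0012000c8006800020019000580034003a001400040000c0034000c000580040002e0006000800038001200170002000300004001800060000c000e001800078005c0034000c0006800100028001c000500044003a001900040006c001e001400060004800160003000c80068002c000800060000c00140016000680074002600160002800740000000b00040001800000015000800010002a001b00028003c000c001c000c8001000320019000d000040014000e00050007400160005,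
0x1000000074002400070008800100012000b000c0002c003c0018000c00054003400080005000180018001d000a0006800220000000700058000a001a000900030000e0013000d000180002001e00078006c0034001800098002c001e0017000900030001a000f00088004c0038001600068006c0016000600058000800240016000900004000c0001000c000380014000f00028000c0014000e00090007400060012000b8004c00060016000800078002c001900018003000300018000e0004c0022000e000c800400006000e00070002c000200100006800780008001b000680020001a0015000f0003c00120017000400074000c00160000800700034000a000b000500020000b00068006c00360010000c00074002e0019,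
0x30005800180008000e0008800540032001d000280070002a0000000200034001e001c000b80070001c00040000000100016001200020002c003a000900080005400160003000f000040024000c00038004c0018000b0004000580024000d00030001c000c00130004000480036001800068002400340004000d0007800260002000a000440020001700090000c001a001200048001c000a000b000a8006800140007000d000740030000a00010001c00060012000300068000e0012000e0003c0002001d000c80044001e0014000a000600028001c000b00070003200120004000140030001300080004c00200002000980074000c000f00030004c0008001600090002c000c000000040004c0002000b00010000400360009,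
0x1d00030003c0028000e000400068001e000d000f000380018000e000e800000012000000090001000180010000e000600010001a00060005c00360012000700044001a00000009000600034001300090000c000c000e00000002400080016000380050002e001c0007000400018001e000d00014000c001d00048005c00280014000280058003a0004000700034000e001800050000800080008000600028000c001d00090003000100001000c80038002a000f0005000400010001500098007000280006000680014000e000500058005c00280001000c80070003c0003000480064001a0005000300038000c001600040004800320014000380008000c000900068001400160013000c0006c00340011000880048002a0009,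
0xd00098006400040018000b8004c001600010008000000016001800030004c0018001d000280078002a0009000e8002c0030000b000b00078002a001b000b000040008001b000d000280000001100088003800280007000d80070002e0018000e8001c000e001400018004c0012000b00030003c003c000f000d80004000a000a000a0004400180003000380010000c001d000a8003800280011000d00030000e00060000800740012001c000e8002000280013000b00010000e0017000800040001e001800098000c00160003000100008002000040005800080004001d000c8004c002a0014000000070002e0014000a0004c00300014000080010002c0016000e000040002000f000600004002c000700090003400120000,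
0x2000800040002e00030001800180006000b000d00070002200060001800300028000300090000800060014000a8003400300019000d8002800360018000700068001800150002000040018001d000d8005c002a001c0007000200030001d000e0001400000016000e80034001c0009000d80008001a001d000800068000a00170002800400004000c000900010001a000300058003c00060004000c80048003c0015000f00028003a0002000680030002e0015000b800240038001a0001800180000001900018001c001800090000800740014001d0003000480008001e000c8006c003a00100009000000004001300090002c0014000d000880064002a001900070004000220015000f000300020001600030000c0036001a,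
0x600048000400340011000180024001e0018000a0003c002a001a0002800500036001c00040006000220015000480044002c00170009000140026001700048007000200008000b00048000c001d000b000100036000d00038000c003a0009000b000580034000a000c800240012000200048003c00280007000b000340000001700010005c001c001b000000014001c000f000d0003c000e000c0003800400032001d000a00000003a0005000a80010003000110001800340030000800040005c000e001a00040005c00320000000a800740010001e0000800240000001c00068000000220007000d00054003a001d00000005c000e0003000880074000c00170009000500012001c000c000700012000e00050003c001e0000,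
0x10000a800340032001c000c80034001a0018000d80060002e00020009800580016001100028003000380019000e0001c001200110001000480012000500008003c0030001e000000014001000190008800580008001200068004400020012000180030003400020006800580022001700028002800320017000c80060002000080004000280006000a000600078002a0013000100038001c000500088000000140008000b800680036000d000780068002e0000000700018002c000a000a0006c001e001500040003c001600110009800040008000f000f000580012000200068003c0036000e00040006800360015000a800500002001c000080048003c000a00010002c0002001a0004800780000000c00030004c00060016,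
0x13000e800680014001400058003400220008000380058002200060007800600024001a000d0005400000016000d8007800340002000a80038002a00100005000240006000900000001c00260002000c00064003800140000000400014001d000000014001c001200008001c003a0016000e8003000080001000b0005c0026001900080004800240007000500000002200080003800300038000b0005800400024001b000a800680016000900028001c00380010000300048000a000b000200008000c0003000380050000e001c0000000600038001400000000c0022001000028002c003c0010000880014003a0013000700004000a001a000e800280000001100040001c0022000b000b8000c0028000c000980054001e0003,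
0x900010000c0038000700020005c000c001200040006400060001000600078002c0003000b80004002a001900098002c0028000500090002c00180018000880038003c0005000c0003c0018001e000a80050002e001600060001000380008000780054000600110003000600022000800040005c003200160003800200014001100018002c00020010000c0002c001c0009000c80064000c000d000d8001c001a0008000b8007400380001000480020000c000f00048007800240009000c00054002a000000060000400160012000b8001c003a001b00090004400220013000c0007400260002000900030000a001500068006400300014000b80068002a001d000d00034003a000c000280074002a000000028005000360013,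
0x1d000000034003200190006000580038000b00048003800040016000d00008002e00020008000380028001e00090002800020002000780074003c0006000b0001c0036001b000f000340024000c000c800440024000d000980060003a0013000e80008003c001c000b8001800140003000d000400010001b00020006c00320004000a000140010001e00008007000120010000700010003c0014000f00034001c000900070000c000e000d00068004800040007000a00004001a00040006000440002000a000b0003c00200014000800044001e000d000680054001e000200040005c0030001100010005c002c0000000b80008003a0006000e000640004001d000a0006c001e00080003000480018001000098005800120017,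
0x500020002c0026001400030004000380007000a00040003c0010000500000003400040000000300008000400078002c001e0002000f000100028001900020007400280019000e00004001c0012000b0005800320017000a0000400240006000380028000000000009800400036001600038000c003a001600038004c002200010006800000008000a00020002000040000000e00048003200180002000640036000100048002c0036001400030004c0032000600008005c001a0005000d000640038000e000200068003a0019000d00044002c0012000d80000001800130006800180018001200030001c00220016000800020001a000a0007800600032000000058006c0028001c000c8001c002a0004000d0001c00280012,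
0xc0006000280014001600040000c0018000d000b0004800120001000780020001200170007800140038001d000700024003a0013000e0004400300001000280060001e0006000600070000600030008800280020001300040001c00240006000a00070003a0006000e00038002c000500008006c00180013000680020002c0005000c00004002c0006000100064002800140006800040010001a000a800540018001b0005800680022000700078005c002e0005000180020002e000200098004400320011000c80008003c0013000c8006800320006000e80004002c0003000a8001c003000130009000000022000e00030000000020011000f0006400320007000280058002e0006000a8001400380007000300058002a0009,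
0x4000e000300028001b00060003400060004000580044002c000d000a0004800040018000200024000c001a000400030000c001a00088002800380017000f0005400320003000c0006c000600110002000140018000d00068005c001a000a000d80014000600060002800200038001200030003c002400000000800700030000c00058006c0014000e000d0002000200012000a800740022001d00098001400160003000700070000a00100009000140006000f000d00014001400020008000540030001400090003400220004000d8003c00300003000f0006c00180013000100074003c00060002800080036001200000000c000000100002000140024001b00070003c00320000000080030002c000300038000c00180013,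
0x1500048002c0026000700008003c001800120006800780006000b000f00044001c001b00098001c0012000f00060004000360015000c80044000a0006000980078002e001a000f0000000060001000c000580012001a000100054003c0010000100044000e0014000b800240018000f0006800240022000e0007000700000001b00010005000060000000b0003c0038001b000a00078000c00050001000740022000900088004c002e0015000680054002c0000000e800180018001400010003c0034001000028002c0032000900080002800200019000b8004c000000160001800700036000700078004c002200100006000100000001000090004c000a0017000300038002c0006000a8004000240004000c0003c0022000e,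
0x16000c8004c002a001e000e8000400380009000d800280034000d00078007000060012000f0006c000c000000088001c003a0000000c8000c0018000b000e80034001e0006000a00038001a0002000a000680012000a000f0002c002200060000000500024000400068005800000008000c0002400020007000c000380014000e000700030002e00180009800480020000700098004400020018000d8002c00120001000980040000e001900090002000080000000200020001c0014000c80004003c0000000c8004400080019000100058000a00000008800180028001c000b0005c003a000c0007800380002001e000080018003600020003800300002000e000c0003c00160018000d0002400340010000680048000e0014,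
0x110009000100038001d000a0001800120018000d8003c0020000f00018000000240012000c0001c0002000100090005000020001000100054001a0018000a80014001e0009000d800780038000900090005000060001000c80034002c000c000600030002a00150005000180028001a000b8001c0002000e000d00000003c000b00020001c001a000d000c00034003a00190004000500014001c00090005c00000010000700010001e001c00070004c002c00020002000700020000f000c00070001a000f000780068001a000e0005800600038000a00008006400060015000e00024001c000f000780008003c001100060004400020013000b80058001c00020001800300038001b000880000003200150004800440006001a,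
0x1e000400078000c000b00040000c001a0010000a8006c001c00120007800000008000a000000008002c001c0003800780018001d000c800180028000b00060000c0034000500088002c0010000c000c0001c0012000700018000c00340011000600000000c0000000e800400012001400078001c003800040008000440020000e000b0004400160007000b800100036000c0003000500000001900098004800320005000600060002e000c000e80054002e0004000080068001a001500098001c0030000f000e00020002600140009800380002000e00010003c002c001200060002800020003000e0001400380018000680030000c0003000e80048003c00160006000600016000200000005800140013000b0000400240010,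
0x1400048005c0004000f00058000c00220012000280060002800060007000200032000f00000003c00160011000a80078003a0015000300000002c000e000c000200032000000040005c0010000e0009000740032001300010006c0000000d000c0000400000018000780058001800130009000280032001000088003000080011000900054001800130000800040024000500028003400240008000200048002a00060000000440038000300048003c00260005000b000580034000900030006800000012000600008001a0007000800070003000040002800280004000e000a0006c001e0007000200068000a0011000f0007400020006000080014000c0019000b00000003200120004000700002000500050002c001e000f,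
0x1300020000c0010000400028002c0004000b000280020001a0005000d0003000020003000680050000e00130007000200000000f000e8000400260015000c000140008001600040000c001c0017000b8007000100010000e800200038001d000600074003a0008000680020002a0002000c0001c000c001c000c8002c003a0003000180000000c000b000600048003a001700088003800060009000a0004000300014000880044001e001d00068002c00120019000500048000c0003000c8004400180009000c800500018001a000d8000000260010000900028000c0010000b80078003c0017000e8001c000e0005000a800100032000e000980008003c00000004800640020000b000600028003c000800078005c00320011,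
0x1a00040006c001a000c0007800000022000d000980058000c001e000180020003200060002800400034000e00080004c001a0013000280008002a0011000a800080014001c000200038000c000200078005400260004000780074001a0008000b800280004000c00020002c0016001100050004800260006000e00078000e001100020006400360005000700018003200140001000380016001c000e8004400260017000580018000800050007800640000001b000e80018002a001e000380008000e0008000200024000c000b0002000040014000d000500028000600160009000580030001500068002c0000000600058001c0026001a000a80038002400030008000340014000400038006c003c0012000a000680030001e,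
0x17000a8001400160009000b800740032000d000900074002a00010009800600016000c00048003c000e001e00058004000360018000c80030001a001100088003800220014000b000040026001a0004000640032001a0002000380030001d000a80004003600180004800680030001d0009000700012000500088000400160014000a800480036001a0002800680006000e0005800580022001a000a000000036001d00050002c003a0019000b80050002a000a0000800240000001e000080060001a0004000b0002c001a0011000e80064003c000b000780048001800050005800100016000e000c800700018001200038003800160015000e8003800100000000e000040018001e0009800700016000c00040007000360008,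
0x500040004c002a001500080006c003c000c00020007800360007000b00010002e00050001800500006001200020003000280003000100058003000140008000300012000e000b000400032001200028003c0018001c000a000580036001e000b8001c001c001100040002c0018000400070000c00320012000d80064000c0010000000070001a000400008003800340004000d800040036000b00050003000060002000d8001c001e000200068002400340003000400018003800160002800640024000d000e00008001a00180009000040020001400048001c00380000000f00020000c0007000a800180038001b000b00018000e000b00040001400020002000d800040030001e000180030002a000e00010004c000a001a,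
0x78005c0032001c000080050000a001100018000c0006000d000b0007800320013000e0003000320015000580064001a000d0009000780038000f0009000240006001b000900020000600070005000180028000500080001c00240011000e000740002000c0001000740022001400098003c001a000600038006400260012000500058000c0013000380070003c0019000c00030000800010005800400006000e00058001800120000000a8001c00040016000c0003400300015000f00028002a000100078005800180018000e000580024001e000c80020000a0016000a00074001c0013000a8000c0026000f000d80040002c0014000600000003c00060004800240000000a000280054000a001800090007400320012,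
0x1a000f0003c002e0005000b800740016001c00058006000200016000a0004800360019000400008003a0017000b800780020000a000f0005c000600020006800340002000c000c8005000060006000a00028001c0012000e00030000a0012000a0002400120019000a0007800120018000080070001e001b000980034000a000f00070001c003a000b000280034001a001b00018006c003c000200078004800000016000200030000e000d000e8006c00180007000c8005000000007000f0006c0014000e000a8003c00240001000680014002800070007000140032000c000b80040001800040003800000026000400070001c00100004000800058003c0018000b800640024000400098001c002c001500068005000000009,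
0xe0004400300007000c0002c0000000300008000c00060009000b8001c002000120008800540022001200038004400200009000a80024002a001c00008005800120008000d80010002e001200050000800220008000a800100000001c000b0004000320008000a000380010000a000b000080038000a000a00060002c001e00020003400000012000280008001a00120000000000006001e000e8002c000800190006800700020000700088005400020016000c8006400340009000e800200028000c00028004800040002000b0002c0030001c000180000003600080007000100022000e000080068002e00060009800080034000300050006400320001000780020000c000800050007400120013000280020001c001d,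
0xd0006000480002000e00088005400020001000480034000a00100006000080028001300078002c0030000f000f000200022000a0009000280030001400030001c0024000a00040005c001a000e000c80000002c000e00010000c000c001a000d8005000200018000b8003400000013000100044002c0004000c800300014000600050006000180018000080018003a000d000b00068001c0007000d800180004001d000280078000e000000020005800280015000e800340008001a000e0007000060018000980028001a0014000980000003a0013000480078002400130001000100000000e0009000780012001d00088000c00000019000100054000a001000000004000020009000a80040000c0015000f000680010001d,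
0x19000d00050001c0001000d80020002e001e0000000340020001400080001c003a0015000d000000030001a00030007400380002000a0002c001c000d000f00058003c00140006800300010001700058005c000000130008000300016000e000400018002200110002800600018000800080006c000c001c0003800780024001500070003400140001000800030001c0011000f00008003600070008800380036000700020006c001e001a000e0005800340007000e800580010000d00030001800140011000e80004003a000200088006c0026000a00028003c00100015000e80050000c000e000300068003c001b000c0002c0020001400040003400120004000a00064002e00070006800280026000d000b00030001a0011,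
0x6000c00040003a0009000880028001e0009000d00038002c000700038004c00180015000500040000c000200098002400000011000a000200010001b000900010003000130004800040032001c000380044003c000b000280014002c000200038001400340004000a8001c001c000400008007800380009000d800640002001e000a80038003c000100028002c0036001d00050005400180007000c8002800280002000c8004c00100017000b0006c00100015000e000040004001e000080040000e000e00038006000280005000c000480004000d000480004001c001b000e0006c00160013000900044001c0005000b0007800260007000a000180034000a000c0005c000c0001000080050002c000e000400068002e0016,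
0x5000c8004c0022000c000d0001000180009000e80068002e000f00058001c000e000c000f00014001a001e000e80058003c000b00040003c000c001000090002c0024001e000d00010003c0004000e800640014000b000f00024002200130000800580022001d0007800140020001200050003800000007000800004002a000b000b000540012000b000b000240012000200020001800340018000d800380016000a00088005400240005000780004000e000800070005c00000000000a00070001e00100007000780024000b000100000001c0006000b80058000200100008800200036000a0002800280034001a0001000200034001c000b80068001200050004800600020000d0006800180018000f00050005c0008000f,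
0x1d0002800080008001e000b8006800060014000b00010001c001b0006800780036001e000a000400018001e000b8003c0038000e000a00020002600050003000440030000500048004400120009000d800100020001800020005c00220007000300048002800140009800100002001900010007400120018000a0004c0016000b000d8004c002a0015000680024000600180005800640034001a000500030001c00040003000680008000e000900014001400110001000780016000c000c800400026001300030005c000600040007800780018001c000d80068001c001300068000800260010000a80048002c000a0008800780030000c00098001800020005000c8004c0030001200010004c001a0019000e800680008001c,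
0x600070006c00080015000180008001e001b000780070002a001b00008007400200004000980004002a001d000700010000c000c00038001c001e000500020003000260019000e8006c00360009000b0000c00220007000400018002e0005000d8000c003a0014000d000600028001700048003400100010000600044003a000200080005c001c0002000080064003c0015000c0001400320012000280014001a001d00028002400320012000c00070001c00180003800340022000100008001c002000180007000380028001e0006000240004001e000680068000400070004800240024001300008007000060019000d000000030001c000d00038003200090002000300008001b000e8007000040002000a80024002c0002,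
0x110001800680012000600098001c0012000a000380004001c001b00068005c000c000a000b800640002000a000d800400036000d000e800740010001e000500000002e00080003000280026001a000c0001800020004000e0001c003c001c000e80044001e0017000b00048000c0018000c8006c0032001b000280018003800000003000040018001a000b0004c00220013000e80068002a000b00020001c00180004000d0002c0030000600068005000000004000400030000c000c000d8005400120009000d0001000360016000a80048003a001a000000028002e0009000e000180024000c00078004000040019000f0001c000a0010000500068001a0019000400020001e0005000580048001a000300048002c00340008,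
0x180007000280004001b000a800440018001c000b00024002e00060009800200030001100070000c0028000b000b0000800120001000300034001a0019000a000340038001e00098006c00080019000600064001e0019000980024001a0016000e80020003c001600060003000040009000680004002e0006000d00064000800160007000340000000e0005800600024001e000500008000c000e00008003c0038001d00010007400220016000e8004c000400140005000240034000e0008800040024000b000c80030001e0008000880060001e0010000f00028001c00030007800540004000400030002000220003000900078002a0003000c0003c001e0000000300028002a00100002000400002000700040007800220015,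
0x800028005c001e000900010000000280017000700044000e00000001800480032000100050003000000014000080038001c000c000900028001e000c00028004c000e0000000d0004800120009000180008003a001e0006800340010000b000a8002000360002000d80070001a0015000d000700010000f000d80028002a000c000c80008001a000f00028000000200018000a00060000e001a00040000c002800110005000740032001000078000c0008000c0002000700022001500010000400360010000400028000a00150000000240030001600038004c0026001d000c000300000000d000800004000e0016000a000500000001d000f00068003a0012000f0003400240008000300038003a000f000e800100000001b,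
0xa000780024002e001b000b00050001c000d000a80028003400180005000400030000a000a8003c002a001c000c00054001c0014000700030002a0016000900010000a0019000200018002a000d0004800380016001200018003800020003000b00054002c00130008000180026001d0009000600008001a000d0007000300016000d0003400300008000e000680016000d00080003c0028000b0006000100034000300048005c00000016000780028000c001c00020002400340013000b0001000140007000a0005800340000000a80010000e001b000b800780036001c000c8003c001400090004800780028000f000b0005c001a0002000b80074002a0000000780010002e000a0009000080026001000068007000340018]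

/-- segment 0 -/
def S0 : Seg where
  ws := [
    (6, [7]),
    (10, [7, 9, 14, 11, 10, 8]),
    (12, [0, 13, 5]),
    (0, [0]),
    (0, [0]),
    (0, [0]),
    (0, [0]),
    (0, [3, 4])]
  m := [0, 0, 0, 0, 0, 0, 1, 1]
  N := [0, 0, 0, 0, 0, 0, E1, E0]
  es := [(0, 7)]
  ns := []

/-- segment 1 -/
def S1 : Seg where
  ws := [
    (15, [6, 14, 10, 12, 12]),
    (0, [0]),
    (0, [0]),
    (0, [0]),
    (0, [0]),
    (0, [3, 4]),
    (24, [12, 25, 15, 18, 18]),
    (0, [0]),
    (0, [0]),
    (0, [0]),
    (0, [0]),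
    (0, [3, 4])]
  m := [0, 0, 0, 0, 0, 0, 0, 0, 0, 0, 0, 0]
  N := [0, 0, 0, 0, 0, 0, 0, 0, 0, 0, 0, 0]
  es := [(6, 19), (0, 19)]
  ns := []

/-- segment 2 -/
def S2 : Seg where
  ws := [
    (28, [18, 29, 25]),
    (0, [0]),
    (0, [0]),
    (0, [0]),
    (0, [0]),
    (0, [3, 4])]
  m := [0, 0, 0, 0, 0, 0]
  N := [0, 0, 0, 0, 0, 0]
  es := [(0, 25)]
  ns := []

theorem c0 : segC C S0 (L2) = true := by (rewrite [show @Cfsg.Agent.H154.Split.segC = delta% @Cfsg.Agent.H154.Split.segC from by delta Cfsg.Agent.H154.Split.segC; rfl, Cfsg.Agent.Lib.PackCol.withM_col]; decide +kernel)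
theorem c1 : segC C S1 (S0.N ++ (L2)) = true := by (rewrite [show @Cfsg.Agent.H154.Split.segC = delta% @Cfsg.Agent.H154.Split.segC from by delta Cfsg.Agent.H154.Split.segC; rfl, Cfsg.Agent.Lib.PackCol.withM_col]; decide +kernel)
theorem c2 : segC C S2 (S1.N ++ (S0.N ++ (L2))) = true := by (rewrite [show @Cfsg.Agent.H154.Split.segC = delta% @Cfsg.Agent.H154.Split.segC from by delta Cfsg.Agent.H154.Split.segC; rfl, Cfsg.Agent.Lib.PackCol.withM_col]; decide +kernel)

/-- the segments -/
def segs : List Seg := [S0, S1, S2]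

theorem chain : Chain C L2 segs := ⟨c0, c1, c2, trivial⟩

end Cfsg.Agent.H680.Split.HNWb
end

-- part: H315/Spr/HNWb
section
/-!
# Words of order 19, part 2 (helper315, for S3938, row `HN`)
-/

set_option autoImplicit false
set_option maxRecDepth 100000

namespace Cfsg.Agent.H315.SpHN.Wb

open Cfsg.Agent.HN Cfsg.Agent.H981.InvHN Cfsg.Agent.Lib.PackMatMul Cfsg.Agent.HN.RepData
open Cfsg.Agent.H839.Rad.HN (evF W A B C₁ D F)

/-- the program -/
def pr : List (ℕ × List ℕ) := [
  (6, [7]),
  (10, [7, 9, 14, 11, 10, 8]),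
  (12, [0, 13, 5]),
  (0, [0]),
  (0, [0]),
  (0, [0]),
  (0, [0]),
  (0, [3, 4]),
  (15, [6, 14, 10, 12, 12]),
  (0, [0]),
  (0, [0]),
  (0, [0]),
  (0, [0]),
  (0, [3, 4]),
  (24, [12, 25, 15, 18, 18]),
  (0, [0]),
  (0, [0]),
  (0, [0]),
  (0, [0]),
  (0, [3, 4]),
  (28, [18, 29, 25]),
  (0, [0]),
  (0, [0]),
  (0, [0]),
  (0, [0]),
  (0, [3, 4])]

/-- the equalities -/
def es : List (ℕ × ℕ) := [(18, 25), (12, 25), (6, 25), (0, 25)]

/-- the inequalities -/
def ns : List (ℕ × ℕ) := []

theorem chk : checkS C pr es ns L2 = true :=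
  Cfsg.Agent.H154.Split.checkS_of_segs 14 Cfsg.Agent.H680.Split.HNWb.segs rfl (by decide +kernel)
    Cfsg.Agent.H680.Split.HNWb.chain

theorem snd : (∀ q ∈ es, S pr q.1 = S pr q.2) ∧ (∀ q ∈ ns, S pr q.1 ≠ S pr q.2) := soundS chk (by decide)

theorem g (m : ℕ) : S pr (26 + m) = gens2.getD m 1 := genS pr m

theorem gA : S pr 27 = A := (g 1).trans Cfsg.Agent.H680.Split.HNG.eqs.2.1
theorem gB : S pr 28 = B := (g 2).trans Cfsg.Agent.H680.Split.HNG.eqs.2.2.1
theorem gC : S pr 29 = C₁ := (g 3).trans Cfsg.Agent.H680.Split.HNG.eqs.2.2.2.1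
theorem gD : S pr 30 = D := (g 4).trans Cfsg.Agent.H680.Split.HNG.eqs.2.2.2.2.1
theorem gF : S pr 31 = F := (g 5).trans Cfsg.Agent.H680.Split.HNG.eqs.2.2.2.2.2
theorem gx : S pr 32 = Rep.x := (g 6).trans Cfsg.Agent.H680.Split.HNG.eqs'.1
theorem gxi : S pr 33 = Rep.x⁻¹ := (g 7).trans Cfsg.Agent.H680.Split.HNG.eqs'.2.1
theorem gy : S pr 34 = Rep.y := (g 8).trans Cfsg.Agent.H680.Split.HNG.eqs'.2.2.1
theorem gyi : S pr 35 = Rep.y⁻¹ := (g 9).trans Cfsg.Agent.H680.Split.HNG.eqs'.2.2.2.1
theorem gz : S pr 36 = Rep.z := (g 10).trans Cfsg.Agent.H680.Split.HNG.eqs'.2.2.2.2.1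
theorem gzi : S pr 37 = Rep.z⁻¹ := (g 11).trans Cfsg.Agent.H680.Split.HNG.eqs'.2.2.2.2.2.1
theorem gti : S pr 39 = Rep.t⁻¹ := (g 13).trans Cfsg.Agent.H680.Split.HNG.eqs'.2.2.2.2.2.2.2

theorem one_def : S pr 25 = Rep.x * Rep.x⁻¹ := by
  have h := stepS (p := pr) (i := 25) (w := [6, 7]) (by decide) (by rfl)
  simp only [evF, mul_one] at h
  rw [h]
  show S pr 32 * (S pr 33) = _
  rw [gx, gxi]
theorem one_eq : S pr 25 = 1 := by rw [one_def, mul_inv_cancel]

/-- the element of order `11` -/
noncomputable def u : Cfsg.Spor.HN := Rep.y⁻¹ * (Rep.x * (Rep.y * (Rep.t⁻¹ * (Rep.z * (Rep.y⁻¹ * (Rep.x⁻¹))))))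

theorem u_eq : S pr 24 = u := by
  have h := stepS (p := pr) (i := 24) (w := [10, 7, 9, 14, 11, 10, 8]) (by decide) (by rfl)
  simp only [evF, mul_one] at h
  rw [h]
  show S pr 35 * (S pr 32 * (S pr 34 * (S pr 39 * (S pr 36 * (S pr 35 * (S pr 33)))))) = _
  rw [gyi, gx, gy, gti, gz, gxi, u]
theorem v_C : S pr 23 = Rep.z * (u * (Rep.z⁻¹ * (C₁))) := by
  have h := stepS (p := pr) (i := 23) (w := [12, 0, 13, 5]) (by decide) (by rfl)
  simp only [evF, mul_one] at h
  rw [h]
  show S pr 36 * (S pr 24 * (S pr 37 * (S pr 29))) = _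
  rw [gz, u_eq, gzi, gC]
theorem s2_C : S pr 22 = S pr 23 * S pr 23 := by
  have h := stepS (p := pr) (i := 22) (w := [0, 0]) (by decide) (by rfl)
  simp only [evF, mul_one] at h
  rw [h]
theorem s4_C : S pr 21 = S pr 22 * S pr 22 := by
  have h := stepS (p := pr) (i := 21) (w := [0, 0]) (by decide) (by rfl)
  simp only [evF, mul_one] at h
  rw [h]
theorem s8_C : S pr 20 = S pr 21 * S pr 21 := by
  have h := stepS (p := pr) (i := 20) (w := [0, 0]) (by decide) (by rfl)
  simp only [evF, mul_one] at h
  rw [h]
theorem s16_C : S pr 19 = S pr 20 * S pr 20 := by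
  have h := stepS (p := pr) (i := 19) (w := [0, 0]) (by decide) (by rfl)
  simp only [evF, mul_one] at h
  rw [h]
theorem r_C : (Rep.z * (u * (Rep.z⁻¹ * (C₁)))) ^ 19 = 1 := by
  have h := stepS (p := pr) (i := 18) (w := [0, 3, 4]) (by decide) (by rfl)
  simp only [evF, mul_one] at h
  have h1 : S pr 18 = S pr 19 * (S pr 22 * S pr 23) := h
  have h2 : S pr 18 = S pr 25 := snd.1 (18, 25) (by decide)
  rw [h1, one_eq, s16_C, s8_C, s4_C, s2_C, v_C] at h2
  simpa only [pow_succ, pow_zero, one_mul, mul_assoc] using h2

theorem v_BDD : S pr 17 = Rep.x⁻¹ * (u * (Rep.x * (B * (D * (D))))) := by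
  have h := stepS (p := pr) (i := 17) (w := [15, 6, 14, 10, 12, 12]) (by decide) (by rfl)
  simp only [evF, mul_one] at h
  rw [h]
  show S pr 33 * (S pr 24 * (S pr 32 * (S pr 28 * (S pr 30 * (S pr 30))))) = _
  rw [gxi, u_eq, gx, gB, gD]
theorem s2_BDD : S pr 16 = S pr 17 * S pr 17 := by
  have h := stepS (p := pr) (i := 16) (w := [0, 0]) (by decide) (by rfl)
  simp only [evF, mul_one] at h
  rw [h]
theorem s4_BDD : S pr 15 = S pr 16 * S pr 16 := by
  have h := stepS (p := pr) (i := 15) (w := [0, 0]) (by decide) (by rfl)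
  simp only [evF, mul_one] at h
  rw [h]
theorem s8_BDD : S pr 14 = S pr 15 * S pr 15 := by
  have h := stepS (p := pr) (i := 14) (w := [0, 0]) (by decide) (by rfl)
  simp only [evF, mul_one] at h
  rw [h]
theorem s16_BDD : S pr 13 = S pr 14 * S pr 14 := by
  have h := stepS (p := pr) (i := 13) (w := [0, 0]) (by decide) (by rfl)
  simp only [evF, mul_one] at h
  rw [h]
theorem r_BDD : (Rep.x⁻¹ * (u * (Rep.x * (B * (D * (D)))))) ^ 19 = 1 := by
  have h := stepS (p := pr) (i := 12) (w := [0, 3, 4]) (by decide) (by rfl)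
  simp only [evF, mul_one] at h
  have h1 : S pr 12 = S pr 13 * (S pr 16 * S pr 17) := h
  have h2 : S pr 12 = S pr 25 := snd.1 (12, 25) (by decide)
  rw [h1, one_eq, s16_BDD, s8_BDD, s4_BDD, s2_BDD, v_BDD] at h2
  simpa only [pow_succ, pow_zero, one_mul, mul_assoc] using h2

theorem v_ADD : S pr 11 = Rep.z * (u * (Rep.z⁻¹ * (A * (D * (D))))) := by
  have h := stepS (p := pr) (i := 11) (w := [24, 12, 25, 15, 18, 18]) (by decide) (by rfl)
  simp only [evF, mul_one] at h
  rw [h]
  show S pr 36 * (S pr 24 * (S pr 37 * (S pr 27 * (S pr 30 * (S pr 30))))) = _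
  rw [gz, u_eq, gzi, gA, gD]
theorem s2_ADD : S pr 10 = S pr 11 * S pr 11 := by
  have h := stepS (p := pr) (i := 10) (w := [0, 0]) (by decide) (by rfl)
  simp only [evF, mul_one] at h
  rw [h]
theorem s4_ADD : S pr 9 = S pr 10 * S pr 10 := by
  have h := stepS (p := pr) (i := 9) (w := [0, 0]) (by decide) (by rfl)
  simp only [evF, mul_one] at h
  rw [h]
theorem s8_ADD : S pr 8 = S pr 9 * S pr 9 := by
  have h := stepS (p := pr) (i := 8) (w := [0, 0]) (by decide) (by rfl)
  simp only [evF, mul_one] at h
  rw [h]
theorem s16_ADD : S pr 7 = S pr 8 * S pr 8 := by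
  have h := stepS (p := pr) (i := 7) (w := [0, 0]) (by decide) (by rfl)
  simp only [evF, mul_one] at h
  rw [h]
theorem r_ADD : (Rep.z * (u * (Rep.z⁻¹ * (A * (D * (D)))))) ^ 19 = 1 := by
  have h := stepS (p := pr) (i := 6) (w := [0, 3, 4]) (by decide) (by rfl)
  simp only [evF, mul_one] at h
  have h1 : S pr 6 = S pr 7 * (S pr 10 * S pr 11) := h
  have h2 : S pr 6 = S pr 25 := snd.1 (6, 25) (by decide)
  rw [h1, one_eq, s16_ADD, s8_ADD, s4_ADD, s2_ADD, v_ADD] at h2
  simpa only [pow_succ, pow_zero, one_mul, mul_assoc] using h2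

theorem v_F : S pr 5 = Rep.y * (u * (Rep.y⁻¹ * (F))) := by
  have h := stepS (p := pr) (i := 5) (w := [28, 18, 29, 25]) (by decide) (by rfl)
  simp only [evF, mul_one] at h
  rw [h]
  show S pr 34 * (S pr 24 * (S pr 35 * (S pr 31))) = _
  rw [gy, u_eq, gyi, gF]
theorem s2_F : S pr 4 = S pr 5 * S pr 5 := by
  have h := stepS (p := pr) (i := 4) (w := [0, 0]) (by decide) (by rfl)
  simp only [evF, mul_one] at h
  rw [h]
theorem s4_F : S pr 3 = S pr 4 * S pr 4 := by
  have h := stepS (p := pr) (i := 3) (w := [0, 0]) (by decide) (by rfl)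
  simp only [evF, mul_one] at h
  rw [h]
theorem s8_F : S pr 2 = S pr 3 * S pr 3 := by
  have h := stepS (p := pr) (i := 2) (w := [0, 0]) (by decide) (by rfl)
  simp only [evF, mul_one] at h
  rw [h]
theorem s16_F : S pr 1 = S pr 2 * S pr 2 := by
  have h := stepS (p := pr) (i := 1) (w := [0, 0]) (by decide) (by rfl)
  simp only [evF, mul_one] at h
  rw [h]
theorem r_F : (Rep.y * (u * (Rep.y⁻¹ * (F)))) ^ 19 = 1 := by
  have h := stepS (p := pr) (i := 0) (w := [0, 3, 4]) (by decide) (by rfl)
  simp only [evF, mul_one] at h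
  have h1 : S pr 0 = S pr 1 * (S pr 4 * S pr 5) := h
  have h2 : S pr 0 = S pr 25 := snd.1 (0, 25) (by decide)
  rw [h1, one_eq, s16_F, s8_F, s4_F, s2_F, v_F] at h2
  simpa only [pow_succ, pow_zero, one_mul, mul_assoc] using h2

end Cfsg.Agent.H315.SpHN.Wb
end

-- part: H315/Spr/HNInner
section
/-!
# S3938, row `HN` (helper315, task 5132): the elements of order `2`, `5`, `7`

`u` has order `11`; for every representative `g` there is a word `w` such that `u ^ w · g` has order `19`. The reduction of
the elements of order `5` to eleven representatives is the one of helper981.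
-/

set_option autoImplicit false
set_option maxRecDepth 100000

namespace Cfsg.Agent.H315.SpHN

open Subgroup Cfsg Cfsg.Agent.H839.Rad.Ext Cfsg.Agent.HN Cfsg.Agent.H981.InvHN Cfsg.Agent.H609.TH
open Cfsg.Agent.H839.Rad.HN (W A B C₁ D F τ k ext e_fa1 e_fb1 e_fa2 e_fb2 FW e_taua1 e_taub1 e_taua2 e_taub2 e_tauw
  e_ka1 e_kb1 e_ka2 e_kb2 e_kw F_Q A_eq F_eq e_b25 W_ne e_w5)

theorem u11 : Wa.u ^ 11 = 1 := Cfsg.Agent.H981.InvHN.T4.r_g11

theorem u_ne : Wa.u ≠ 1 := by
  intro h
  have h1 : (Wa.u * Rep.z) ^ 19 = 1 := by
    have h2 := Cfsg.Agent.H981.InvHN.T4.r_h11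
    simpa only [Wa.u, mul_assoc] using h2
  rw [h, one_mul] at h1
  have h2 := orderOf_dvd_of_pow_eq_one h1
  rw [Cfsg.Agent.H981.InvHN.hz] at h2
  exact absurd h2 (by norm_num)

theorem order_u : orderOf Wa.u = 11 := by
  have := f11
  exact orderOf_eq_prime u11 u_ne

/-- the criterion for conjugates of `u` -/
theorem goodI_conj (known : Cfsg.Agent.H257.El.Known.{0}) {g w : Cfsg.Spor.HN} {p : ℕ} (hg : g ^ p = 1) (hp : ¬ 11 ∣ p)
    (h : (w * Wa.u * w⁻¹ * g) ^ 19 = 1) : GoodI g := by
  have ho : orderOf (w * Wa.u * w⁻¹) = 11 := by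
    rw [← order_u]
    exact orderOf_injective (MulAut.conj w).toMonoidHom (MulAut.conj w).injective Wa.u
  have h11 : (w * Wa.u * w⁻¹) ^ 11 = 1 := by rw [← ho]; exact pow_orderOf_eq_one _
  refine goodI_of' known h11 (fun h1 => ?_) h (fun h1 => ?_)
  · rw [h1, orderOf_one] at ho
    omega
  · have h2 : g = (w * Wa.u * w⁻¹)⁻¹ := eq_inv_of_mul_eq_one_right h1
    have h3 : orderOf g = 11 := by rw [h2, orderOf_inv, ho]
    exact hp (by rw [← h3]; exact orderOf_dvd_of_pow_eq_one hg)

/-- an element of order `5` is good -/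
def G5 (x : Spor.HN) : Prop := x ^ 5 = 1 → GoodI x

theorem G5.of_pow {x : Spor.HN} (n : ℕ) (h : G5 (x ^ n)) : G5 x := fun hx =>
  GoodI.of_pow n (h (by rw [← pow_mul, mul_comm, pow_mul, hx, one_pow]))

theorem G5.of_conj {x : Spor.HN} (t : Spor.HN) (h : G5 (t * x * t⁻¹)) : G5 x := fun hx =>
  GoodI.of_conj t (h (by rw [conj_pow, hx, mul_one, mul_inv_cancel]))

/-- the criterion for conjugates of `u` -/
theorem g5_of (known : Cfsg.Agent.H257.El.Known.{0}) {g w : Cfsg.Spor.HN} (h : (w * Wa.u * w⁻¹ * g) ^ 19 = 1) : G5 g :=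
  fun hg => goodI_conj known hg (by norm_num) h

section

variable (known : Cfsg.Agent.H257.El.Known.{0})

include known

theorem g_A : G5 A := g5_of known (w := Rep.z * Rep.x) (by simpa only [mul_inv_rev, mul_assoc] using Wa.r_A)

theorem g_D : G5 D := g5_of known (w := Rep.x) (by simpa only [mul_inv_rev, mul_assoc] using Wa.r_D)

theorem g_C : G5 C₁ := g5_of known (w := Rep.z) (by
  have h : (Rep.z * (Wa.u * (Rep.z⁻¹ * C₁))) ^ 19 = 1 := Wb.r_C
  simpa only [mul_inv_rev, mul_assoc] using h)

theorem g_BDD : G5 (B * (D * D)) := g5_of known (w := Rep.x⁻¹) (by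
  have h : (Rep.x⁻¹ * (Wa.u * (Rep.x * (B * (D * D))))) ^ 19 = 1 := Wb.r_BDD
  simpa only [mul_inv_rev, mul_assoc, inv_inv] using h)

theorem g_ADD : G5 (A * (D * D)) := g5_of known (w := Rep.z) (by
  have h : (Rep.z * (Wa.u * (Rep.z⁻¹ * (A * (D * D))))) ^ 19 = 1 := Wb.r_ADD
  simpa only [mul_inv_rev, mul_assoc] using h)

theorem g_F : G5 F := g5_of known (w := Rep.y) (by
  have h : (Rep.y * (Wa.u * (Rep.y⁻¹ * F))) ^ 19 = 1 := Wb.r_F
  simpa only [mul_inv_rev, mul_assoc] using h)

theorem g_WF : G5 (W * F) := g5_of known (w := Rep.x * Rep.y) (by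
  have h : (Rep.x * (Rep.y * (Wa.u * (Rep.y⁻¹ * (Rep.x⁻¹ * (W * F)))))) ^ 19 = 1 := Wc.r_WF
  simpa only [mul_inv_rev, mul_assoc] using h)

theorem g_WWF : G5 (W * W * F) := g5_of known (w := Rep.x * Rep.t) (by
  have h : (Rep.x * (Rep.t * (Wa.u * (Rep.t⁻¹ * (Rep.x⁻¹ * (W * (W * F))))))) ^ 19 = 1 := Wc.r_WWF
  simpa only [mul_inv_rev, mul_assoc] using h)

theorem g_WWWF : G5 (W * (W * W) * F) := g5_of known (w := Rep.x⁻¹) (by
  have h : (Rep.x⁻¹ * (Wa.u * (Rep.x * (W * (W * (W * F)))))) ^ 19 = 1 := Wc.r_WWWF
  simpa only [mul_inv_rev, mul_assoc, inv_inv] using h)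

theorem g_WWWWF : G5 (W * (W * (W * W)) * F) := g5_of known (w := Rep.z * Rep.x) (by
  have h : (Rep.z * (Rep.x * (Wa.u * (Rep.x⁻¹ * (Rep.z⁻¹ * (W * (W * (W * (W * F))))))))) ^ 19 = 1 := Wc.r_WWWWF
  simpa only [mul_inv_rev, mul_assoc] using h)

/-- order `7` -/
theorem goodI_7 {g : Cfsg.Spor.HN} (hg : orderOf g = 7) : GoodI g := by
  have h7 : Fact (Nat.Prime 7) := ⟨by norm_num⟩
  have h1 : orderOf (Rep.y * (Rep.z * (Rep.t * (Rep.y⁻¹ * (Rep.t * Rep.z))))) = 7 := by
    refine orderOf_eq_prime Cfsg.Agent.H981.InvHN.T4.r_g7 fun h => ?_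
    have h2 : (Rep.y * (Rep.z * (Rep.t * (Rep.y⁻¹ * (Rep.t * Rep.z)))) * Rep.z) ^ 5 = 1 := by
      simpa only [mul_assoc] using Cfsg.Agent.H981.InvHN.T4.r_h7
    rw [h, one_mul] at h2
    have h3 := orderOf_dvd_of_pow_eq_one h2
    rw [Cfsg.Agent.H981.InvHN.hz] at h3
    exact absurd h3 (by norm_num)
  refine goodI_of_sq (by norm_num) (by rw [card_HN]; norm_num) h1 ?_ g hg
  exact goodI_conj known (w := Rep.x * Rep.t) (p := 7) Cfsg.Agent.H981.InvHN.T4.r_g7 (by norm_num)
    (by simpa only [mul_inv_rev, mul_assoc] using Wa.r_g7)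

/-- order `2` -/
theorem goodI_2 {g : Cfsg.Spor.HN} (hg : orderOf g = 2) : GoodI g := by
  rcases Cfsg.Agent.KFacts.HN.Classes.inv_class hg with h | h
  · obtain ⟨c, hc⟩ := isConj_iff.1 h
    apply GoodI.of_conj c
    rw [hc]
    have h1 : Cfsg.Agent.HN.NormalH.ψ Cfsg.Agent.HN.H0Basic.τ = Rep.x * Rep.x := by
      rw [← Cfsg.Agent.HN.H0Basic.hw_τ, Cfsg.Agent.HN.XWords.V_hw (by decide +kernel)]
      simp only [Cfsg.Agent.HN.XWords.V_cons, Cfsg.Agent.HN.XWords.V_nil, mul_one]
      rfl
    have h2 : (Rep.x * Rep.x) ^ 2 = 1 := by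
      rw [← h1, ← hc, conj_pow, ← hg, pow_orderOf_eq_one, mul_one, mul_inv_cancel]
    rw [h1]
    exact goodI_conj known (w := Rep.t * Rep.z) h2 (by norm_num)
      (by simpa only [mul_inv_rev, mul_assoc] using Wa.r_x2)
  · obtain ⟨c, hc⟩ := isConj_iff.1 h
    apply GoodI.of_conj c
    rw [hc]
    have h1 : Cfsg.Agent.HN.XWords.W0 = Rep.y * (Rep.y * (Rep.y * (Rep.x * Rep.x))) := by
      simp only [Cfsg.Agent.HN.XWords.W0, Cfsg.Agent.HN.XWords.w0w, Cfsg.Agent.HN.XWords.V_cons,
        Cfsg.Agent.HN.XWords.V_nil, mul_one]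
      rfl
    have h2 : (Rep.y * (Rep.y * (Rep.y * (Rep.x * Rep.x)))) ^ 2 = 1 := by
      rw [← h1, ← hc, conj_pow, ← hg, pow_orderOf_eq_one, mul_one, mul_inv_cancel]
    rw [h1]
    exact goodI_conj known (w := Rep.z * Rep.t⁻¹) h2 (by norm_num)
      (by simpa only [mul_inv_rev, mul_assoc, inv_inv] using Wa.r_W0)

end

/-! ### order `5` -/

section

variable (known : Cfsg.Agent.H257.El.Known.{0})

/-- conjugation -/
theorem step_conj {g : Spor.HN} (hW : g * W = W * g)
    {a0 a1 a2 a3 b0 b1 b2 b3 c0 c1 c2 c3 e0 e1 e2 e3 : ℕ} {a4 b4 c4 e4 : ℤ}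
    (hA : g * A = nf W A B C₁ D a0 a1 a2 a3 a4 * g) (hB : g * B = nf W A B C₁ D b0 b1 b2 b3 b4 * g)
    (hC : g * C₁ = nf W A B C₁ D c0 c1 c2 c3 c4 * g) (hD : g * D = nf W A B C₁ D e0 e1 e2 e3 e4 * g) {v : ℕ}
    (h : ∀ m, G5 (nv (en (d0 v * a0 + d1 v * b0 + d2 v * c0 + d3 v * e0) (d0 v * a1 + d1 v * b1 + d2 v * c1 + d3 v * e1)
      (d0 v * a2 + d1 v * b2 + d2 v * c2 + d3 v * e2) (d0 v * a3 + d1 v * b3 + d2 v * c3 + d3 v * e3)) m)) :
    ∀ m, G5 (nv v m) := by
  intro m
  apply G5.of_conj g
  obtain ⟨m', hm⟩ := conj_nf hW hA hB hC hD (d0 v) (d1 v) (d2 v) (d3 v) m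
  rw [nv, hm]
  have h1 := h m'
  rw [← nf_en] at h1
  push_cast at h1
  exact h1

theorem en_congr {a b c d a' b' c' d' : ℕ} (h1 : a = a') (h2 : b = b') (h3 : c = c') (h4 : d = d') :
    en a b c d = en a' b' c' d' := by rw [h1, h2, h3, h4]

theorem move1 (g v : ℕ) (h : ∀ m, G5 (nv (mv1 g v) m)) : ∀ m, G5 (nv v m) := by
  rcases g with _ | _ | _ | g
  · refine step_conj FW (by exact_mod_cast e_fa1) (by exact_mod_cast e_fb1) (by exact_mod_cast e_fa2)
      (by exact_mod_cast e_fb2) fun m => ?_
    refine Eq.mp ?_ (h m)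
    congr 2
    exact en_congr (by ring) (by ring) (by ring) (by ring)
  · refine step_conj e_tauw (by exact_mod_cast e_taua1) (by exact_mod_cast e_taub1) (by exact_mod_cast e_taua2)
      (by exact_mod_cast e_taub2) fun m => ?_
    refine Eq.mp ?_ (h m)
    congr 2
    exact en_congr (by ring) (by ring) (by ring) (by ring)
  · refine step_conj e_kw (by exact_mod_cast e_ka1) (by exact_mod_cast e_kb1) (by exact_mod_cast e_ka2)
      (by exact_mod_cast e_kb2) fun m => ?_
    refine Eq.mp ?_ (h m)
    congr 2
    exact en_congr (by ring) (by ring) (by ring) (by ring)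
  · intro m
    apply G5.of_pow 2
    obtain ⟨e, -, h1⟩ := ext.nf_pow (d0 v) (d1 v) (d2 v) (d3 v) m 2
    rw [nv, h1]
    have h2 : mv1 (g + 3) v = en (2 * d0 v) (2 * d1 v) (2 * d2 v) (2 * d3 v) := rfl
    have h3 := h (((2 : ℕ) : ℤ) * m - e * ((d0 v : ℤ) * (d1 v : ℤ) + (d2 v : ℤ) * (d3 v : ℤ)))
    rw [h2, ← nf_en] at h3
    push_cast at h3 ⊢
    exact h3

/-- the central part of a normal form can be changed by conjugation -/
theorem rep_all {r0 r1 r2 r3 : ℤ} (s0 s1 s2 s3 : ℤ) (hω : s0 * r1 - r0 * s1 + s2 * r3 - r2 * s3 = 1)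
    (h : G5 (nf W A B C₁ D r0 r1 r2 r3 0)) (m : ℤ) : G5 (nf W A B C₁ D r0 r1 r2 r3 m) := by
  apply G5.of_conj (nf W A B C₁ D (-m * s0) (-m * s1) (-m * s2) (-m * s3) 0)
  rw [ext.nf_mul_comm, mul_assoc (W ^ _), mul_inv_cancel_right]
  have h1 : -m * s0 * r1 - r0 * (-m * s1) + -m * s2 * r3 - r2 * (-m * s3) = -m := by
    linear_combination (-m) * hω
  rw [h1]
  have h2 : W ^ (-m) = nf W A B C₁ D 0 0 0 0 (-m) := by simp [nf]
  rw [h2, ext.nf_mul]
  have h3 : nf W A B C₁ D (0 + r0) (0 + r1) (0 + r2) (0 + r3) (-m + m - r0 * 0 - r2 * 0) =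
      nf W A B C₁ D r0 r1 r2 r3 0 := by
    congr 1 <;> ring
  rw [h3]
  exact h

include known in
theorem goodQ : ∀ v < 625, v ≠ 0 → ∀ m, G5 (nv v m) := by
  intro v hv h0
  refine all_of_rank (P := fun v => ∀ m, G5 (nv v m)) chk1 move1 ?_ _ v (Nat.lt_succ_self _) hv (fun _ => h0)
  intro v hv m
  simp only [List.mem_cons, List.not_mem_nil, or_false] at hv
  rcases hv with rfl | rfl | rfl | rfl | rfl
  · refine rep_all (r0 := ((d0 1 : ℕ) : ℤ)) (r1 := ((d1 1 : ℕ) : ℤ)) (r2 := ((d2 1 : ℕ) : ℤ)) (r3 := ((d3 1 : ℕ) : ℤ))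
      0 (-1) 0 0 (by decide) ?_ m
    have h : nf W A B C₁ D ((d0 1 : ℕ) : ℤ) ((d1 1 : ℕ) : ℤ) ((d2 1 : ℕ) : ℤ) ((d3 1 : ℕ) : ℤ) 0 = A := by
      simp [nf, d0e, d1e, d2e, d3e]
    rw [h]
    exact g_A known
  · refine rep_all (r0 := ((d0 125 : ℕ) : ℤ)) (r1 := ((d1 125 : ℕ) : ℤ)) (r2 := ((d2 125 : ℕ) : ℤ))
      (r3 := ((d3 125 : ℕ) : ℤ)) 0 0 1 0 (by decide) ?_ m
    have h : nf W A B C₁ D ((d0 125 : ℕ) : ℤ) ((d1 125 : ℕ) : ℤ) ((d2 125 : ℕ) : ℤ) ((d3 125 : ℕ) : ℤ) 0 = D := by
      simp [nf, d0e, d1e, d2e, d3e]
    rw [h]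
    exact g_D known
  · refine rep_all (r0 := ((d0 25 : ℕ) : ℤ)) (r1 := ((d1 25 : ℕ) : ℤ)) (r2 := ((d2 25 : ℕ) : ℤ))
      (r3 := ((d3 25 : ℕ) : ℤ)) 0 0 0 (-1) (by decide) ?_ m
    have h : nf W A B C₁ D ((d0 25 : ℕ) : ℤ) ((d1 25 : ℕ) : ℤ) ((d2 25 : ℕ) : ℤ) ((d3 25 : ℕ) : ℤ) 0 = C₁ := by
      simp [nf, d0e, d1e, d2e, d3e]
    rw [h]
    exact g_C known
  · refine rep_all (r0 := ((d0 255 : ℕ) : ℤ)) (r1 := ((d1 255 : ℕ) : ℤ)) (r2 := ((d2 255 : ℕ) : ℤ))
      (r3 := ((d3 255 : ℕ) : ℤ)) 1 0 0 0 (by decide) ?_ m
    have h : nf W A B C₁ D ((d0 255 : ℕ) : ℤ) ((d1 255 : ℕ) : ℤ) ((d2 255 : ℕ) : ℤ) ((d3 255 : ℕ) : ℤ) 0 =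
        B * (D * D) := by
      simp [nf, d0e, d1e, d2e, d3e, pow_two]
    rw [h]
    exact g_BDD known
  · refine rep_all (r0 := ((d0 251 : ℕ) : ℤ)) (r1 := ((d1 251 : ℕ) : ℤ)) (r2 := ((d2 251 : ℕ) : ℤ))
      (r3 := ((d3 251 : ℕ) : ℤ)) 0 (-1) 0 0 (by decide) ?_ m
    have h : nf W A B C₁ D ((d0 251 : ℕ) : ℤ) ((d1 251 : ℕ) : ℤ) ((d2 251 : ℕ) : ℤ) ((d3 251 : ℕ) : ℤ) 0 =
        A * (D * D) := by
      simp [nf, d0e, d1e, d2e, d3e, pow_two]
    rw [h]
    exact g_ADD known

include known in
theorem goodW : G5 W := by
  have h1 : W = Cfsg.Agent.H839.Rad.HN.G * A * Cfsg.Agent.H839.Rad.HN.G⁻¹ := by rw [A_eq]; group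
  apply G5.of_conj Cfsg.Agent.H839.Rad.HN.G⁻¹
  rw [inv_inv, ← A_eq]
  exact g_A known

theorem move2 (g v : ℕ) (h : ∀ m, G5 (nv (mv2 g v) m * F)) : ∀ m, G5 (nv v m * F) := by
  intro m
  have key : ∀ (s : Spor.HN) (a0 a1 a2 a3 a4 s0 s1 s2 s3 : ℤ) (c0 c1 c2 c3 : ℕ),
      s⁻¹ = nf W A B C₁ D s0 s1 s2 s3 0 → F * s = nf W A B C₁ D a0 a1 a2 a3 a4 * F →
      (5 : ℤ) ∣ s0 + a0 - c0 → (5 : ℤ) ∣ s1 + a1 - c1 → (5 : ℤ) ∣ s2 + a2 - c2 → (5 : ℤ) ∣ s3 + a3 - c3 →
      (∀ m, G5 (nv (en (d0 v + c0) (d1 v + c1) (d2 v + c2) (d3 v + c3)) m * F)) → G5 (nv v m * F) := by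
    intro s a0 a1 a2 a3 a4 s0 s1 s2 s3 c0 c1 c2 c3 hs hF h0 h1 h2 h3 hv
    apply G5.of_conj s⁻¹
    obtain ⟨m', hm⟩ := step_F hs hF (d0 v) (d1 v) (d2 v) (d3 v) m
    rw [nv, hm]
    have h4 := hv m'
    rw [← nf_en] at h4
    rw [nf_mod (i' := ((d0 v + c0 : ℕ) : ℤ)) (j' := ((d1 v + c1 : ℕ) : ℤ)) (u' := ((d2 v + c2 : ℕ) : ℤ))
      (l' := ((d3 v + c3 : ℕ) : ℤ)) (by push_cast; omega) (by push_cast; omega) (by push_cast; omega)
      (by push_cast; omega)]
    exact h4
  rcases g with _ | _ | _ | g
  · exact key A _ _ _ _ _ (-1) 0 0 0 4 0 4 4 (by simp [nf]) e_fa1 (by norm_num) (by norm_num) (by norm_num) (by norm_num)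
      h
  · exact key B _ _ _ _ _ 0 (-1) 0 0 0 0 0 4 (by simp [nf]) e_fb1 (by norm_num) (by norm_num) (by norm_num) (by norm_num)
      h
  · exact key C₁ _ _ _ _ _ 0 0 (-1) 0 4 1 3 4 (by simp [nf]) e_fa2 (by norm_num) (by norm_num) (by norm_num)
      (by norm_num) h
  · exact key D _ _ _ _ _ 0 0 0 (-1) 4 0 4 3 (by simp [nf]) e_fb2 (by norm_num) (by norm_num) (by norm_num) (by norm_num)
      h

/-- the elements of order 25 -/
theorem g5_c {u : ℕ} (h : (C₁ ^ u * F) ^ 5 ≠ 1) (m : ℤ) : G5 (nf W A B C₁ D 0 0 u 0 m * F) := by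
  intro h1
  exfalso
  apply h
  have cF : Commute (W ^ m) F := (show Commute W F from FW.symm).zpow_left m
  have cC : Commute (W ^ m) (C₁ ^ u) := ((show Commute W C₁ from ext.wc).zpow_left m).pow_right u
  have h2 : nf W A B C₁ D 0 0 u 0 m * F = C₁ ^ u * F * W ^ m := by
    simp only [nf, zpow_zero, one_mul, mul_one, zpow_natCast]
    rw [mul_assoc, cF.eq, ← mul_assoc]
  have h3 : Commute (C₁ ^ u * F) (W ^ m) := Commute.mul_left cC.symm cF.symm
  rw [h2, h3.mul_pow] at h1
  have h4 : (W ^ m) ^ 5 = 1 := by
    rw [← zpow_natCast, ← zpow_mul, mul_comm, zpow_mul, zpow_natCast, e_w5, one_zpow]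
  rwa [h4, mul_one] at h1

include known in
theorem goodF : ∀ v < 625, ∀ m, G5 (nv v m * F) := by
  intro v hv
  refine all_of_rank (P := fun v => ∀ m, G5 (nv v m * F)) chk2 move2 ?_ _ v (Nat.lt_succ_self _) hv
    (fun h => absurd h (by decide))
  intro v hv m
  simp only [List.mem_cons, List.not_mem_nil, or_false] at hv
  have hc : ∀ u : ℕ, u < 5 → nv (25 * u) m = nf W A B C₁ D 0 0 u 0 m := by
    intro u hu
    rw [nv, d0e, d1e, d2e, d3e]
    apply nf_eq <;> omega
  rcases hv with rfl | rfl | rfl | rfl | rfl
  · have h0 : nv 0 m = W ^ m := by simp [nv, nf, d0e, d1e, d2e, d3e]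
    rw [h0]
    have h1 : W ^ m = W ^ (m % 5) := zpow_eq e_w5 (by omega)
    rw [h1]
    have h2 : m % 5 = 0 ∨ m % 5 = 1 ∨ m % 5 = 2 ∨ m % 5 = 3 ∨ m % 5 = 4 := by omega
    rcases h2 with h | h | h | h | h <;> rw [h]
    · rw [zpow_zero, one_mul]
      exact g_F known
    · rw [zpow_one]
      exact g_WF known
    · have h3 : W ^ (2 : ℤ) = W * W := by rw [zpow_ofNat, pow_two]
      rw [h3]
      exact g_WWF known
    · have h3 : W ^ (3 : ℤ) = W * (W * W) := by rw [zpow_ofNat, pow_succ, pow_two, mul_assoc]
      rw [h3]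
      exact g_WWWF known
    · have h3 : W ^ (4 : ℤ) = W * (W * (W * W)) := by
        rw [zpow_ofNat, pow_succ, pow_succ, pow_two, mul_assoc, mul_assoc]
      rw [h3]
      exact g_WWWWF known
  · rw [show (25 : ℕ) = 25 * 1 from rfl, hc 1 (by decide)]
    exact g5_c (by simpa only [pow_one] using T3.r_c1) m
  · rw [show (50 : ℕ) = 25 * 2 from rfl, hc 2 (by decide)]
    exact g5_c (by simpa only [pow_succ, pow_zero, one_mul, mul_assoc] using T3.r_c2) m
  · rw [show (75 : ℕ) = 25 * 3 from rfl, hc 3 (by decide)]
    refine g5_c ?_ m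
    have h3 : C₁ ^ 3 * F = C₁ * (C₁ * (C₁ * F)) := by simp only [pow_succ, pow_zero, one_mul, mul_assoc]
    rw [h3]
    exact T3.r_c3
  · rw [show (100 : ℕ) = 25 * 4 from rfl, hc 4 (by decide)]
    refine g5_c ?_ m
    have h3 : C₁ ^ 4 * F = C₁ * (C₁ * (C₁ * (C₁ * F))) := by simp only [pow_succ, pow_zero, one_mul, mul_assoc]
    rw [h3]
    exact T3.r_c4

include known in
theorem goodI_5 (x : Spor.HN) (hx : orderOf x = 5) : GoodI x := by
  have : Fact (Nat.Prime 5) := ⟨by norm_num⟩
  have hx5 : x ^ 5 = 1 := by rw [← hx]; exact pow_orderOf_eq_one x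
  obtain ⟨g, hg⟩ := Cfsg.Agent.H478.RadHeis.exists_conj_mem isPGroup_P index_P hx5
  have hgx5 : (g * x * g⁻¹) ^ 5 = 1 := by rw [conj_pow, hx5, mul_one, mul_inv_cancel]
  have hgx1 : g * x * g⁻¹ ≠ 1 := by
    intro h
    rw [conj_eq_one_iff] at h
    rw [h, orderOf_one] at hx
    omega
  apply GoodI.of_conj g
  suffices h : G5 (g * x * g⁻¹) from h hgx5
  obtain ⟨q, hq, s, hs⟩ := hg
  rw [hs] at hgx1 ⊢
  by_cases h5 : (5 : ℤ) ∣ s
  · have h1 : F ^ s = 1 := by rw [zpow_eq F5 (i := s) (j := 0) (by simpa using h5), zpow_zero]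
    rw [h1, mul_one] at hgx1 ⊢
    obtain ⟨i, j, u, l, m, rfl⟩ := hq
    obtain ⟨v, hv, he⟩ := exists_code i j u l m
    rw [he] at hgx1 ⊢
    by_cases h0 : v = 0
    · subst h0
      have h2 : nv 0 m = W ^ m := by simp [nv, nf, d0e, d1e, d2e, d3e]
      rw [h2] at hgx1 ⊢
      have h3 : ¬ (5 : ℤ) ∣ m := fun h => hgx1 (by rw [zpow_eq e_w5 (i := m) (j := 0) (by simpa using h), zpow_zero])
      obtain ⟨t, ht⟩ : ∃ t : ℕ, (5 : ℤ) ∣ m * t - 1 := by
        have h4 : m % 5 = 1 ∨ m % 5 = 2 ∨ m % 5 = 3 ∨ m % 5 = 4 := by omega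
        rcases h4 with h | h | h | h
        · exact ⟨1, by push_cast; omega⟩
        · exact ⟨3, by push_cast; omega⟩
        · exact ⟨2, by push_cast; omega⟩
        · exact ⟨4, by push_cast; omega⟩
      apply G5.of_pow t
      rw [← zpow_natCast, ← zpow_mul, zpow_eq e_w5 (j := 1) ht, zpow_one]
      exact goodW known
    · exact goodQ known v hv h0 m
  · obtain ⟨t, ht⟩ : ∃ t : ℕ, (5 : ℤ) ∣ s * t - 1 := by
      have h4 : s % 5 = 1 ∨ s % 5 = 2 ∨ s % 5 = 3 ∨ s % 5 = 4 := by omega
      rcases h4 with h | h | h | h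
      · exact ⟨1, by push_cast; omega⟩
      · exact ⟨3, by push_cast; omega⟩
      · exact ⟨2, by push_cast; omega⟩
      · exact ⟨4, by push_cast; omega⟩
    apply G5.of_pow t
    obtain ⟨q', hq', he⟩ := pow_form hq s t
    rw [he, zpow_eq F5 (i := s * t) (j := 1) ht, zpow_one]
    obtain ⟨i, j, u, l, m, rfl⟩ := hq'
    obtain ⟨v, hv, he⟩ := exists_code i j u l m
    rw [he]
    exact goodF known v hv m


include known in
/-- all the primes but `3` -/
theorem goodI_prime (h3 : ∀ g : Spor.HN, orderOf g = 3 → GoodI g) (g : Spor.HN) (hg : (orderOf g).Prime) : GoodI g := by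
  rcases Nat.lt_or_ge (orderOf g) 5 with h5 | h5
  · have h1 := hg.two_le
    have h2 : orderOf g = 2 ∨ orderOf g = 3 ∨ orderOf g = 4 := by omega
    rcases h2 with h | h | h
    · exact goodI_2 known h
    · exact h3 g h
    · rw [h] at hg
      exact absurd hg (by norm_num)
  · rcases Cfsg.Agent.H981.InvHN.prime_cases hg h5 (by rw [← card_HN]; exact orderOf_dvd_natCard g) with h | h | h | h
    · exact goodI_5 known g h
    · exact goodI_7 known h
    · exact goodI_11 known h
    · exact goodI_19 known h

end

end Cfsg.Agent.H315.SpHN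
end

private theorem dce_192bffb8e9b4 : _root_.True := by
  try have : _root_.True := by simp only [_root_.Cfsg.Agent.H315.SpHN.Wb.u.eq_1]
  try have : _root_.True := by simp only [_root_.Cfsg.Agent.HN.XWords.w0w.eq_1]
  exact _root_.True.intro
end

-- part: H767/SprHS_mg
section
prune_inst 0xc0002044002200000004051240003a8783000190000000000886044400808a200000a800040014020008800000000048110000a0020000000000040000000020888044003300000c660001800000000000000000000000000000000000000000000000000
set_option linter.all false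
open scoped Cfsg.Agent.FastGrp

-- part: H767/SprHeis
section
/-!
# S3938: explicit generation, Sylow subgroups `p ^ 2` and `p ^ (1 + 2)` (helper767)

`goodI_heis`: `x ^ p = y ^ p = z ^ p = 1`, `y x = x y z`, `z` commutes with `x` and `y`; the elements `z` (if `≠ 1`), `x` and
`x ^ r y` (`r < p`) are good, so are all nontrivial elements of `⟨x, y⟩`.
`goodI_of_pair_sq`, `goodI_of_pair_cube`: all the elements of order `p` of a group whose Sylow `p`-subgroup is `⟨x, y⟩`.
-/

set_option autoImplicit false

namespace Cfsg.Agent.H767.SprHeis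

open Subgroup Cfsg.Agent.H609.TH
open scoped commutatorElement

universe u

variable {T : Type u} [Group T]

section form

variable {x y z : T}

theorem y_xpow (hyx : y * x = x * y * z) (czx : z * x = x * z) (i : ℕ) : y * x ^ i = x ^ i * y * z ^ i := by
  have hc : ∀ n, z ^ n * x = x * z ^ n := fun n => ((show Commute z x from czx).pow_left n).eq
  induction i with
  | zero => simp
  | succ i ih =>
    calc y * x ^ (i + 1) = (y * x ^ i) * x := by rw [pow_succ]; group
      _ = x ^ i * y * (z ^ i * x) := by rw [ih]; group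
      _ = x ^ i * (y * x) * z ^ i := by rw [hc]; group
      _ = x ^ i * (x * y * z) * z ^ i := by rw [hyx]
      _ = x ^ (i + 1) * y * z ^ (i + 1) := by rw [pow_succ x, pow_succ' z]; group

theorem ypow_xpow (hyx : y * x = x * y * z) (czx : z * x = x * z) (czy : z * y = y * z) (i j : ℕ) :
    y ^ j * x ^ i = x ^ i * y ^ j * z ^ (i * j) := by
  have hc : ∀ n m, z ^ n * y ^ m = y ^ m * z ^ n := fun n m => ((show Commute z y from czy).pow_pow n m).eq
  induction j with
  | zero => simp
  | succ j ih =>
    calc y ^ (j + 1) * x ^ i = y * (y ^ j * x ^ i) := by rw [pow_succ']; group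
      _ = (y * x ^ i) * (y ^ j * z ^ (i * j)) := by rw [ih]; group
      _ = x ^ i * y * (z ^ i * y ^ j) * z ^ (i * j) := by rw [y_xpow hyx czx]; group
      _ = x ^ i * y * (y ^ j * z ^ i) * z ^ (i * j) := by rw [hc]
      _ = x ^ i * y ^ (j + 1) * z ^ (i * (j + 1)) := by
        rw [pow_succ' y, Nat.mul_succ, add_comm (i * j) i, pow_add]
        simp only [mul_assoc]

/-- products -/
theorem form_mul (hyx : y * x = x * y * z) (czx : z * x = x * z) (czy : z * y = y * z) (i j k i' j' k' : ℕ) :
    (x ^ i * y ^ j * z ^ k) * (x ^ i' * y ^ j' * z ^ k') = x ^ (i + i') * y ^ (j + j') * z ^ (i' * j + k + k') := by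
  have h1 : ∀ n m, z ^ n * x ^ m = x ^ m * z ^ n := fun n m => ((show Commute z x from czx).pow_pow n m).eq
  have h2 : ∀ n m, z ^ n * y ^ m = y ^ m * z ^ n := fun n m => ((show Commute z y from czy).pow_pow n m).eq
  calc (x ^ i * y ^ j * z ^ k) * (x ^ i' * y ^ j' * z ^ k')
      = x ^ i * y ^ j * (z ^ k * x ^ i') * y ^ j' * z ^ k' := by simp only [mul_assoc]
    _ = x ^ i * (y ^ j * x ^ i') * (z ^ k * y ^ j') * z ^ k' := by rw [h1]; simp only [mul_assoc]
    _ = x ^ i * (x ^ i' * y ^ j * z ^ (i' * j)) * (y ^ j' * z ^ k) * z ^ k' := by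
      rw [h2, ypow_xpow hyx czx czy]
    _ = x ^ i * x ^ i' * y ^ j * (z ^ (i' * j) * y ^ j') * z ^ k * z ^ k' := by simp only [mul_assoc]
    _ = x ^ (i + i') * y ^ (j + j') * z ^ (i' * j + k + k') := by
      rw [h2, pow_add x, pow_add y, pow_add z, pow_add z]
      simp only [mul_assoc]

/-- powers -/
theorem form_pow (hyx : y * x = x * y * z) (czx : z * x = x * z) (czy : z * y = y * z) (i j k t : ℕ) :
    ∃ m, (x ^ i * y ^ j * z ^ k) ^ t = x ^ (i * t) * y ^ (j * t) * z ^ m := by
  induction t with
  | zero => exact ⟨0, by simp⟩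
  | succ t ih =>
    obtain ⟨m, hm⟩ := ih
    rw [pow_succ, hm, form_mul hyx czx czy]
    exact ⟨_, rfl⟩

/-- the elements of `⟨x, y⟩` -/
theorem exists_form {p : ℕ} (hp : 0 < p) (hx : x ^ p = 1) (hy : y ^ p = 1) (hyx : y * x = x * y * z)
    (czx : z * x = x * z) (czy : z * y = y * z) {g : T} (hg : g ∈ _root_.Subgroup.closure ({x, y} : Set T)) :
    ∃ i j k : ℕ, g = x ^ i * y ^ j * z ^ k := by
  have hl : ∀ (a b : ℕ) (g : T), (∃ i j k : ℕ, g = x ^ i * y ^ j * z ^ k) →
      ∃ i j k : ℕ, x ^ a * y ^ b * g = x ^ i * y ^ j * z ^ k := by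
    rintro a b _ ⟨i, j, k, rfl⟩
    have h1 := form_mul hyx czx czy a b 0 i j k
    rw [pow_zero, mul_one] at h1
    exact ⟨_, _, _, h1⟩
  have hxi : x⁻¹ = x ^ (p - 1) := by
    rw [inv_eq_iff_mul_eq_one, ← pow_succ', Nat.sub_add_cancel hp, hx]
  have hyi : y⁻¹ = y ^ (p - 1) := by
    rw [inv_eq_iff_mul_eq_one, ← pow_succ', Nat.sub_add_cancel hp, hy]
  induction hg using Subgroup.closure_induction_left with
  | one => exact ⟨0, 0, 0, by simp⟩
  | mul_left a ha b _ ih =>
    rcases ha with rfl | rfl
    · have := hl 1 0 b ih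
      rwa [pow_one, pow_zero, mul_one] at this
    · have := hl 0 1 b ih
      rwa [pow_one, pow_zero, one_mul] at this
  | inv_mul_cancel a ha b _ ih =>
    rcases ha with rfl | rfl
    · have := hl (p - 1) 0 b ih
      rwa [pow_zero, mul_one, ← hxi] at this
    · have := hl 0 (p - 1) b ih
      rwa [pow_zero, one_mul, ← hyi] at this

/-- **All the nontrivial elements of `⟨x, y⟩` are good.** -/
theorem goodI_heis {p : ℕ} (hp : p.Prime) (hx : x ^ p = 1) (hy : y ^ p = 1) (hz : z ^ p = 1)
    (hyx : y * x = x * y * z) (czx : z * x = x * z) (czy : z * y = y * z)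
    (gz : z ≠ 1 → GoodI z) (gx : GoodI x) (gy : ∀ r < p, GoodI (x ^ r * y)) {g : T}
    (hg : g ∈ _root_.Subgroup.closure ({x, y} : Set T)) (hg1 : g ≠ 1) : GoodI g := by
  obtain ⟨i, j, k, rfl⟩ := exists_form hp.pos hx hy hyx czx czy hg
  by_cases hj : p ∣ j
  · have hyj : y ^ j = 1 := by
      obtain ⟨c, rfl⟩ := hj
      rw [pow_mul, hy, one_pow]
    rw [hyj, mul_one] at hg1 ⊢
    by_cases hi : p ∣ i
    · have hxi : x ^ i = 1 := by
        obtain ⟨c, rfl⟩ := hi
        rw [pow_mul, hx, one_pow]
      rw [hxi, one_mul] at hg1 ⊢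
      have hk : ¬ p ∣ k := by
        rintro ⟨c, rfl⟩
        exact hg1 (by rw [pow_mul, hz, one_pow])
      obtain ⟨t, -, ht⟩ := Nat.exists_mul_mod_eq_one_of_coprime ((Nat.Prime.coprime_iff_not_dvd hp).2 hk).symm hp.one_lt
      refine GoodI.of_pow t ?_
      rw [← pow_mul, pow_eq_pow_mod _ hz, ht, pow_one]
      refine gz fun h => hg1 ?_
      rw [h, one_pow]
    · obtain ⟨t, -, ht⟩ := Nat.exists_mul_mod_eq_one_of_coprime ((Nat.Prime.coprime_iff_not_dvd hp).2 hi).symm hp.one_lt
      refine GoodI.of_pow t ?_
      obtain ⟨m, hm⟩ := form_pow hyx czx czy i 0 k t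
      rw [pow_zero, mul_one, zero_mul, pow_zero, mul_one, pow_eq_pow_mod (i * t) hx, ht, pow_one] at hm
      rw [hm]
      refine GoodI.of_conj (y ^ ((p - 1) * m)) ?_
      have h1 : y ^ ((p - 1) * m) * (x * z ^ m) * (y ^ ((p - 1) * m))⁻¹ = x := by
        rw [mul_inv_eq_iff_eq_mul]
        have h2 := form_mul hyx czx czy 0 ((p - 1) * m) 0 1 0 m
        simp only [pow_zero, pow_one, one_mul, mul_one, zero_add, add_zero] at h2
        rw [h2]
        have h3 : (p - 1) * m + m = p * m := by
          obtain ⟨q, rfl⟩ : ∃ q, p = q + 1 := ⟨p - 1, by have := hp.pos; omega⟩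
          rw [Nat.add_sub_cancel]
          ring
        rw [h3, pow_mul z, hz, one_pow, mul_one]
      rw [h1]
      exact gx
  · obtain ⟨t, -, ht⟩ := Nat.exists_mul_mod_eq_one_of_coprime ((Nat.Prime.coprime_iff_not_dvd hp).2 hj).symm hp.one_lt
    refine GoodI.of_pow t ?_
    obtain ⟨m, hm⟩ := form_pow hyx czx czy i j k t
    rw [pow_eq_pow_mod (j * t) hy, ht, pow_one, pow_eq_pow_mod (i * t) hx] at hm
    rw [hm]
    refine GoodI.of_conj (x ^ m) ?_
    have h1 : x ^ m * (x ^ (i * t % p) * y * z ^ m) * (x ^ m)⁻¹ = x ^ (i * t % p) * y := by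
      rw [mul_inv_eq_iff_eq_mul]
      have h2 := form_mul hyx czx czy m 0 0 (i * t % p) 1 m
      have h3 := form_mul hyx czx czy (i * t % p) 1 0 m 0 0
      simp only [pow_zero, pow_one, one_mul, mul_one, zero_add, add_zero, mul_zero] at h2 h3
      rw [h2, h3, add_comm]
    rw [h1]
    exact gy _ (Nat.mod_lt _ hp.pos)

end form

/-- the elements of order `p`, if `E` is a `p`-subgroup of index prime to `p` -/
theorem goodI_of_sub [Finite T] {p : ℕ} (hp : p.Prime) {E : Subgroup T} (hE : IsPGroup p E) (hi : ¬ p ∣ E.index)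
    (h : ∀ g ∈ E, g ≠ 1 → GoodI g) (g : T) (hg : orderOf g = p) : GoodI g := by
  have : Fact p.Prime := ⟨hp⟩
  refine goodI_of_sylow (hE.toSylow hi) (fun g hg ho => h g hg ?_) g hg
  rintro rfl
  rw [orderOf_one] at ho
  exact hp.one_lt.ne ho

/-- **Sylow subgroup `p²`.** -/
theorem goodI_of_pair_sq [Finite T] {p : ℕ} (hp : p.Prime) {x y : T} (hx : x ^ p = 1) (hy : y ^ p = 1)
    (hxy : x * y = y * x) (hx1 : x ≠ 1) (hyx : y ∉ zpowers x) (h3 : ¬ p ^ 3 ∣ Nat.card T)
    (gx : GoodI x) (gy : ∀ r < p, GoodI (x ^ r * y)) (g : T) (hg : orderOf g = p) : GoodI g := by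
  refine goodI_of_sub hp (Cfsg.Agent.H51.Tools.isPGroup_closure hx hy ?_ ?_ ?_)
    (Cfsg.Agent.H51.Tools.not_dvd_index_sq hp hx hy hxy hx1 hyx h3) (fun g hg hg1 => ?_) g hg
  · rw [commutatorElement_eq_one_iff_mul_comm.2 hxy, one_pow]
  · rw [commutatorElement_eq_one_iff_mul_comm.2 hxy, one_mul, mul_one]
  · rw [commutatorElement_eq_one_iff_mul_comm.2 hxy, one_mul, mul_one]
  · exact goodI_heis hp hx hy (one_pow p) (z := 1) (by rw [mul_one, hxy]) (by rw [one_mul, mul_one])
      (by rw [one_mul, mul_one]) (fun h => absurd rfl h) gx gy hg hg1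

/-- **Sylow subgroup `p^(1+2)`.** -/
theorem goodI_of_pair_cube [Finite T] {p : ℕ} (hp : p.Prime) {x y : T} (hx : x ^ p = 1) (hy : y ^ p = 1)
    (hcx : ⁅x, y⁆ * x = x * ⁅x, y⁆) (hcy : ⁅x, y⁆ * y = y * ⁅x, y⁆) (hc1 : ⁅x, y⁆ ≠ 1)
    (h4 : ¬ p ^ 4 ∣ Nat.card T) (gz : GoodI ⁅x, y⁆) (gx : GoodI x) (gy : ∀ r < p, GoodI (x ^ r * y)) (g : T)
    (hg : orderOf g = p) : GoodI g := by
  have hz := Cfsg.Agent.H51.Tools.pow_comm_eq_one hx hcx hcy
  refine goodI_of_sub hp (Cfsg.Agent.H51.Tools.isPGroup_closure hx hy hz hcx hcy)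
    (Cfsg.Agent.H51.Tools.not_dvd_index_extra hp hx hy hcx hcy hc1 h4) (fun g hg hg1 => ?_) g hg
  have cx : Commute ⁅x, y⁆ x := hcx
  have cy : Commute ⁅x, y⁆ y := hcy
  refine goodI_heis hp hx hy (z := ⁅x, y⁆⁻¹) (by rw [inv_pow, hz, inv_one]) ?_ cx.inv_left.eq cy.inv_left.eq
    (fun _ => GoodI.of_zpowers (h := ⁅x, y⁆) ?_ gz) gx gy hg hg1
  · have h1 : ⁅x, y⁆ * (y * x) = x * y := by rw [commutatorElement_def]; group
    have h2 : Commute ⁅x, y⁆ (y * x) := cy.mul_right cx
    rw [← h1, h2.eq, mul_assoc, mul_inv_cancel, mul_one]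
  · have := inv_mem (mem_zpowers (⁅x, y⁆⁻¹))
    rwa [inv_inv] at this

end Cfsg.Agent.H767.SprHeis
end

-- part: H767/SprHS
section
/-!
# S3938: the row `HS` (helper767)

Explicit generation in the permutation group `Q` on 100 points: for every element `g` of prime order (up to conjugacy and powers) a
word `w` and three words in `w`, `g` whose values are the generators `X, Y, Z Y Z` of `Q`; for the involutory automorphisms
`a ∈ {φ a, X, Z, φ d}` the pair `w, a w a⁻¹`.
-/

set_option autoImplicit false
set_option maxRecDepth 100000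

namespace Cfsg.Agent.H767.SprHS

open Cfsg.Agent.SporadicA.PermTab Cfsg.Agent.HN.HS100 Cfsg.Agent.HN.Pres
open Cfsg.Agent.HN.P1408 (hw hw_x hw_z)
open Cfsg.Agent.HN.H0Basic (τ)
open Cfsg.Agent.HN.Syl (sq_cases hw_a)
open Cfsg.Agent.KFacts.HS
open Cfsg.Agent.H609.TH Cfsg.Agent.H424.Spr Equiv Subgroup
open Cfsg.Agent.H58.HSOdd (wd app x3 y3 x5 y5 pw cm app_spec wd_app wd_pw wd_cm eq_of_chk ne_of_pt wd_nil')
open scoped commutatorElement

/-! ### generation -/

section card

variable {H : Subgroup (Perm (Fin 100))}

theorem card_ge (iX : InG H tX) (iY : InG H tY) (iW : InG H tW) : 44352000 ≤ Nat.card H := by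
  have i3 : InG (ps H 0) s3 := InG.ps (word_of (L := [tX, tW, tX, tW, tX, tY]) (mem3 iX iY iW)
    (by simp only [_root_.List.cons_subset, _root_.List.mem_cons, _root_.List.not_mem_nil, _root_.or_false, _root_.true_or, _root_.or_true, _root_.List.nil_subset, _root_.List.subset_cons_of_subset, _root_.and_self]) (by decide +kernel)) (by decide +kernel)
  have i4 : InG (ps H 0) s4 := InG.ps (word_of (L := [tW, tY, tW, tY, tY, tY, tX]) (mem3 iX iY iW)
    (by simp only [_root_.List.cons_subset, _root_.List.mem_cons, _root_.List.not_mem_nil, _root_.or_false, _root_.or_true, _root_.true_or, _root_.List.nil_subset, _root_.List.subset_cons_of_subset, _root_.and_self]) (by decide +kernel)) (by decide +kernel)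
  have i5 : InG (ps (ps H 0) 1) s5 := InG.ps (word_of (L := [s3, s3, s4, s3, s4, s4, s3, s3, s3]) (mem2 i3 i4)
    (by simp) (by decide +kernel)) (by decide +kernel)
  have i6 : InG (ps (ps H 0) 1) s6 := InG.ps (word_of (L := [s3, s4, s3, s4, s4]) (mem2 i3 i4)
    (by simp) (by decide +kernel)) (by decide +kernel)
  have i7 : InG (ps (ps (ps H 0) 1) 3) s7 := InG.ps (word_of (L := [s6, s5, s5, s5, s5, s6]) (mem2 i5 i6)
    (by simp) (by decide +kernel)) (by decide +kernel)
  have i8 : InG (ps (ps (ps H 0) 1) 3) s8 := InG.ps (word_of (L := [s5, s5, s5, s6, s6, s5, s6]) (mem2 i5 i6)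
    (by simp only [_root_.List.cons_subset, _root_.List.mem_cons, _root_.List.not_mem_nil, _root_.or_false, _root_.true_or, _root_.or_true, _root_.List.Subset.refl, _root_.and_self]) (by decide +kernel)) (by decide +kernel)
  have i9 : InG (ps (ps (ps H 0) 1) 3) s9 := InG.ps (word_of (L := [s5, s5, s6, s5, s5, s6, s5, s6, s5, s6])
    (mem2 i5 i6) (by simp only [_root_.List.cons_subset, _root_.List.mem_cons, _root_.List.not_mem_nil, _root_.or_false, _root_.true_or, _root_.or_true, _root_.List.Subset.refl, _root_.and_self]) (by decide +kernel)) (by decide +kernel)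
  have i10 : InG (ps (ps (ps (ps H 0) 1) 3) 8) s10 := InG.ps (word_of (L := [s9, s8, s9, s9]) (mem3 i7 i8 i9)
    (by simp) (by decide +kernel)) (by decide +kernel)
  have h5 : 1 ≤ Nat.card (ps (ps (ps (ps (ps H 0) 1) 3) 8) 2) := Nat.card_pos
  have h4 : 3 * 1 ≤ Nat.card (ps (ps (ps (ps H 0) 1) 3) 8) :=
    card_ge_of_chk (x := 2) (L := [s10]) i10 (by intro P hP; rw [List.mem_singleton.1 hP]; exact i10)
      (C := oc4) (by decide +kernel) (by decide +kernel) h5
  have h3 : 32 * (3 * 1) ≤ Nat.card (ps (ps (ps H 0) 1) 3) :=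
    card_ge_of_chk (x := 8) (L := [s7, s8, s9]) i7 (mem3 i7 i8 i9) (C := oc3) (by decide +kernel)
      (by decide +kernel) h4
  have h2 : 60 * (32 * (3 * 1)) ≤ Nat.card (ps (ps H 0) 1) :=
    card_ge_of_chk (x := 3) (L := [s5, s6]) i5 (mem2 i5 i6) (C := oc2) (by decide +kernel)
      (by decide +kernel) h3
  have h1 : 77 * (60 * (32 * (3 * 1))) ≤ Nat.card (ps H 0) :=
    card_ge_of_chk (x := 1) (L := [s3, s4]) i3 (mem2 i3 i4) (C := oc1) (by decide +kernel)
      (by decide +kernel) h2
  have h0 : 100 * (77 * (60 * (32 * (3 * 1)))) ≤ Nat.card H :=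
    card_ge_of_chk (x := 0) (L := [tX, tY, tW]) iX (mem3 iX iY iW) (C := oc0) (by decide +kernel)
      (by decide +kernel) h1
  exact h0

end card

theorem card_Q : Nat.card Q = 44352000 := Cfsg.Agent.HN.AutBound.card_Q

/-- the word in the two tables -/
noncomputable def sel (A B : ℕ) (w : List ℕ) : List ℕ :=
  List.rec [] (fun b _ ih => (Nat.rec A (fun _ _ => B) b : ℕ) :: ih) w

theorem sel_mem {A B : ℕ} {w : List ℕ} {P : ℕ} (h : P ∈ sel A B w) : P = A ∨ P = B := by
  induction w with
  | nil => exact absurd h List.not_mem_nil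
  | cons b w ih =>
    rcases List.mem_cons.1 (h : P ∈ (Nat.rec A (fun _ _ => B) b : ℕ) :: sel A B w) with h | h
    · cases b with
      | zero => exact Or.inl h
      | succ n => exact Or.inr h
    · exact ih h

/-- **two elements with tables `A`, `B`** -/
theorem top_of_words {K : Subgroup Q} {q r : Q} (hq : q ∈ K) (hr : r ∈ K) {A B : ℕ}
    (hA : ∀ i : Fin 100, ((q.1 i : Fin 100) : ℕ) = lk A i) (hB : ∀ i : Fin 100, ((r.1 i : Fin 100) : ℕ) = lk B i)
    {u1 u2 u3 : List ℕ}
    (h1 : chkWord 100 tX (sel A B u1) = true) (h2 : chkWord 100 tY (sel A B u2) = true)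
    (h3 : chkWord 100 tW (sel A B u3) = true) : K = ⊤ := by
  have iA : InG (K.map Q.subtype) A := ⟨q.1, ⟨q, hq, rfl⟩, hA⟩
  have iB : InG (K.map Q.subtype) B := ⟨r.1, ⟨r, hr, rfl⟩, hB⟩
  have hw : ∀ {u : List ℕ}, ∀ P ∈ sel A B u, InG (K.map Q.subtype) P := by
    intro u P hP
    rcases sel_mem hP with rfl | rfl
    · exact iA
    · exact iB
  have h := card_ge (InG.word hw h1) (InG.word hw h2) (InG.word hw h3)
  rw [Subgroup.card_map_of_injective Q.subtype_injective] at h
  apply Subgroup.eq_top_of_le_card
  rw [card_Q]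
  exact h

/-- the check of the table of a word -/
noncomputable def chkT (w : List ℕ) (A : ℕ) : Bool := allB (fun i => Nat.beq (app w i) (lk A i)) 100

theorem tab_of_chk {w : List ℕ} {A : ℕ} (h : chkT w A = true) (i : Fin 100) :
    (((wd w).1 i : Fin 100) : ℕ) = lk A i := by
  rw [app_spec]
  exact Nat.eq_of_beq_eq_true ((allB_iff _ _).1 h i i.2)

/-- the check of the table of a conjugate -/
noncomputable def chkC (v w : List ℕ) (B : ℕ) : Bool :=
  allB (fun i => Nat.beq (Cfsg.Agent.HN.Classes.t1 v (app w i)) (lk B (Cfsg.Agent.HN.Classes.t1 v i))) 100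

theorem tab_of_chkC {v w : List ℕ} {B : ℕ} (h : chkC v w B = true) (i : Fin 100) :
    (((auQ (hw v) (wd w)).1 i : Fin 100) : ℕ) = lk B i := by
  obtain ⟨j, rfl⟩ := (φ (hw v)).surjective i
  have h1 : (auQ (hw v) (wd w)).1 (φ (hw v) j) = φ (hw v) ((wd w).1 j) := by
    rw [auQ_apply, Perm.mul_apply, Perm.mul_apply]
    congr 2
    exact (φ (hw v)).symm_apply_apply j
  rw [h1, Cfsg.Agent.HN.Classes.φ_hw_apply, Cfsg.Agent.HN.Classes.φ_hw_apply, app_spec]
  exact Nat.eq_of_beq_eq_true ((allB_iff _ _).1 h j j.2)

theorem goodI_cert {g w : List ℕ} {A B : ℕ} {u1 u2 u3 : List ℕ} (hA : chkT w A = true) (hB : chkT g B = true)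
    (h1 : chkWord 100 tX (sel A B u1) = true) (h2 : chkWord 100 tY (sel A B u2) = true)
    (h3 : chkWord 100 tW (sel A B u3) = true) : GoodI (wd g) :=
  ⟨wd w, top_of_words (q := wd w) (r := wd g) (Subgroup.subset_closure (Or.inl rfl))
    (Subgroup.subset_closure (Or.inr rfl)) (tab_of_chk hA) (tab_of_chk hB) h1 h2 h3⟩

theorem goodA_cert {v w : List ℕ} {A B : ℕ} {u1 u2 u3 : List ℕ} (hA : chkT w A = true) (hB : chkC v w B = true)
    (h1 : chkWord 100 tX (sel A B u1) = true) (h2 : chkWord 100 tY (sel A B u2) = true)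
    (h3 : chkWord 100 tW (sel A B u3) = true) : GoodA (auQ (hw v)) :=
  goodA_of_pair (x := wd w) (top_of_words (q := wd w) (r := auQ (hw v) (wd w))
    (Subgroup.subset_closure (Or.inl rfl)) (Subgroup.subset_closure (Or.inr rfl)) (tab_of_chk hA) (tab_of_chkC hB)
    h1 h2 h3)

/-- an element of order 7 -/
def w7 : List ℕ := [0, 2, 2, 4]
/-- an element of order 11 -/
def w11 : List ℕ := [0, 2, 2, 2, 4]

/-! ### certificates -/

theorem good_a : GoodA (auQ (hw [2, 2, 2])) :=
  goodA_cert (w := [5, 5, 0])
    (A := 0x6e1601a0120aa1441d02e0a01801d8630c20f82180d018178128450b812c2904e07015c1a8490500580a8030381582782b020174030540801682d81900004c0382407a1281302f0840c81f8590420600d8620980a41c84108c0d8188470be110298140580040f03c03a088268480120c00402a05a03c0700404e05c0d02003e028118020160cc02811)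
    (B := 0x2e1801b84c0300902c82d0aa0e8230440c20282180d0c40042083105203c1f83404415c1084b0240440200900618c278200bc1341f0050041602f83c0a21080580c08a1382a02304e0542e85a07016c2b00005c0681801302001c0c8080a014c0d8360a40ec2383d0920cc1601d072070158260501200a04004a1281781e0540582e03201c0d40f806)
    (u1 := [1, 0, 0, 1, 0, 0, 1, 1, 1, 1, 0, 1, 0, 0, 1, 1, 0, 1, 0, 1, 0, 0, 0])
    (u2 := [0, 1, 0, 1, 1, 0, 1, 1, 0, 1, 0, 0, 1, 0, 0, 0, 1, 0, 0, 1, 1, 0, 1, 0, 0])
    (u3 := [0, 0, 0, 1, 0, 1, 0, 0, 1, 1, 0, 0, 0, 0, 1, 0, 1, 0, 1, 1, 0, 0, 1, 1, 1, 1])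
    (by decide +kernel) (by decide +kernel) (by decide +kernel) (by decide +kernel) (by decide +kernel)

theorem good_x : GoodA (auQ (hw [0])) :=
  goodA_cert (w := [5, 3, 3])
    (A := 0x7c1383085905e1742301a0b80e82d06009007c2f84404e0ec1c02909e0881f8400ae0d40e84907213406811086058170260bc0941e0450201600403309403806024000010188200a00541505208e1042a8630a8028010620300d01b81e0640702580909808c1e85b0a2018168070ac1082980101e0500c82106c06c18003016014090130560a016017)
    (B := 0x641581a02f0aa1342604204c0501b05a0ae1440f82a05218c270540660a00881707a0b0118160c2008008240260400603703414c0783c05a174278090b81140684a0300ec1383008c1042904707c0d40306209217c2c80a02a00c108600b61102f0390960b80701c008160188480240640004000e10c2803f03c02c110080360ac1c03a00a0801281d)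
    (u1 := [0, 1, 0, 1, 0, 1, 0])
    (u2 := [0, 1, 0, 1, 1, 0, 1, 1, 0, 1, 0, 0, 0, 1, 1, 0, 1, 1, 1, 0, 0, 0, 0, 1, 0, 0])
    (u3 := [1, 0, 0, 1, 1, 1, 1, 0, 0, 1, 0, 0, 0, 1, 1, 0, 1, 1, 0, 1, 1, 0, 1, 0, 1, 1])
    (by decide +kernel) (by decide +kernel) (by decide +kernel) (by decide +kernel) (by decide +kernel)

theorem good_z : GoodA (auQ (hw [4])) :=
  goodA_cert (w := [2, 2, 0, 2])
    (A := 0x500e82403e0520b02f05b05e1880b8240440d409027098044300410781642904608e12c2506103e074198550121500c03f09a06c1580c0c6108200530160d02b81a07a140278430be0a80a80508a0780c8210b41742700206e0b8080070ac1240180f0021102e00a0261442c00000c08c1c82d0760c81000e0600501b00d0100980202502c0701c031)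
    (B := 0x500dc2484c03c0202905005c1443003a0440d41e81607e0740602f0781603182b058064308340b60c82785400617c0e03e07612c0d0170bc1102e84000c1282b84601e07c108430aa034128090020400d8330b214c3100b0481041480e0ac08c028120621702102000e1382d0000041200c04d05a044020130600541382608e0a80501406c0e41c045)
    (u1 := [1, 1, 0, 1, 0, 0, 0, 0, 0, 0, 1, 0, 0, 0, 0, 1, 1, 0, 1, 1, 0, 0, 1, 0, 1, 1])
    (u2 := [0, 0, 0, 0, 1, 0, 1, 1, 1, 1, 0, 1, 0, 0, 1, 1, 0, 0, 1, 0, 1, 1, 1, 1, 0, 1])
    (u3 := [0, 0, 1, 1, 0, 0, 1, 0, 1, 1, 1, 1, 0, 1, 0, 0, 0, 0, 0, 1, 0, 0, 0, 0, 1, 0])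
    (by decide +kernel) (by decide +kernel) (by decide +kernel) (by decide +kernel) (by decide +kernel)

theorem good_d : GoodA (auQ (hw [1, 3, 1, 2, 1, 4, 3, 4, 2, 4])) :=
  goodA_cert (w := [2, 2, 0])
    (A := 0x7c0e82404205e1482c04f0520a0160620c21682f83c03a1342f05b0301300b82405c0882b84b06a04c1581e02407c1383b022180198410b21181e81408e0c80584a08a138050550121501f81b0800d8060630920c429805068068280380860a80a8070720c004019042174010370201580180f0021102e0510000181182d0400940702601a0100b01c)
    (B := 0xb00d82402705e034268000b80e00c06200a04015801080130298370480ec0a05908a0d42b0490960541984208807c1703e05a0942d80802c0982b85d0940a41183d03c0842081b0601181500f02200810060072138188630681680701a00c1482a03f044064278120bc02c2885f05011c1d043038024060030141540b8040641841e01300e07416050)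
    (u1 := [0, 0, 0, 1, 0, 1, 0, 1, 0, 0, 1, 0, 0, 0, 0, 0, 1, 1, 0, 1, 1, 1])
    (u2 := [0, 0, 1, 0, 1, 1, 1, 1, 0, 1, 1, 0, 0, 1, 0, 0, 0, 1, 0, 0, 1, 1, 0, 1, 0])
    (u3 := [0, 0, 1, 1, 0, 1, 1, 0, 1, 1, 1, 0, 0, 1, 1, 0, 0, 1, 1, 1, 0, 1, 1])
    (by decide +kernel) (by decide +kernel) (by decide +kernel) (by decide +kernel) (by decide +kernel)

theorem good_t1 : GoodI (wd (x3)) :=
  goodI_cert (w := [5, 5, 0, 4])
    (A := 0x961741a0370380401d8500a8148270630481282283207e0942004301a160310530560d83085707a1041704f0840bc180600a2168070060bc0482604d0721182483501200c0d85f0aa1702c8200540b41300403a0b01d0070900581481808802c000560620f00f80f0460f8140270040880d00c0100040a83803c0cc028210260440501902805c2385b)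
    (B := 0xb40a0308250b60e82983601a104220110ae0202a82605605c238500121582c85e096144010420941202284d01c1183182d0200fc0c8430481300184f02c0c4150340720dc2e035052054060620ba0c01182c00c07c0e80405e084028520a809c3001c01e050038180400c80080b0360480003e0260f02f8400341241c04e07a0781103b06602817058)
    (u1 := [1, 0, 0, 0, 1, 1, 0, 1, 0, 0, 0, 1, 0, 0, 1, 1, 0, 0, 1, 1, 0, 0, 0, 0, 1])
    (u2 := [0, 0, 1, 1, 0, 0, 1, 0, 1, 0, 0, 1, 1, 0, 0, 0, 0, 1, 1, 0, 1, 1, 0, 1, 1, 0])
    (u3 := [0, 0, 0, 0, 1, 0, 1, 0, 0, 0, 0, 1, 1, 0, 0, 0, 0, 1, 0, 0, 0, 1])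
    (by decide +kernel) (by decide +kernel) (by decide +kernel) (by decide +kernel) (by decide +kernel)

theorem good_t2 : GoodI (wd (y3)) :=
  goodI_cert (w := [3])
    (A := 0xc01883083a0b61340a8310be18c2f05a09009c1784f08c0fc2e85c08214c2c85804415c1a84a0ac05c1e82a0aa11c2a00f0a41442285009c1301980a0960381b8490560940c0440861082003e0720241e03b03c0001c02c06c0d0190010600b81682002202c038290500981202304207c0e81c0360680c81602804c0901001a0100600601001401802)
    (B := 0x920b02583f05e0e8318080520080b84d0c200c2a8430b4160108450be0e42905e0ae0882e84800a1180e02004e108050350480ec1681e03a1301b00d06e138038340b80c82b01909e054150280820f4048620a80380806007002c0d00007807c1f050026144060180220580084701e0482c804036018118300940ac2d8330800980a02506214c17044)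
    (u1 := [0, 0, 0, 1, 0, 1, 0, 0, 0, 0, 1, 0, 1, 0, 0, 0, 0, 1, 0, 1, 0])
    (u2 := [0, 0, 0, 0, 0])
    (u3 := [0, 1, 1, 0, 0, 0, 0, 1, 0, 0, 0, 1, 0, 1, 0, 0, 0, 0, 1, 0, 1, 0, 1, 0, 0, 1])
    (by decide +kernel) (by decide +kernel) (by decide +kernel) (by decide +kernel) (by decide +kernel)

theorem good_t3 : GoodI (wd (x3 ++ y3)) :=
  goodI_cert (w := [2, 0])
    (A := 0xa2130250470860fc2d0410780ec1f0620c218c2d85005a1642685f0521601402c0840d02402206e0841c82e03e0c00f04e03a0e8158540bc05c228230ac0940a05707a14c0982f02413c2901101e0380b06006a0602300c09202c2e00a0aa0241200d066110080070640540284b03809c0401b0060a81885d0040101b0400020e00d00003201813020)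
    (B := 0x4188258100521302d04e046028100590c20cc2a80e082044028450b600c0b83a0ae084298420441200e05200c1182482a008090060270c01781885f02c1581e83406c0dc040070120041802c0c60641c02804c0f01f02509e0680a0580861501f85003611c200180000c81704a0260482203b01e078178350a21740683905a07c0581d0b80ac0a84d)
    (u1 := [1, 1, 0, 0, 1, 1, 0, 1, 1, 0, 0, 0, 1, 0, 1, 1, 0, 1, 0, 0, 0, 1, 0])
    (u2 := [1, 1, 0, 0, 1, 1, 0, 1, 1, 0, 0, 0, 1, 0, 1, 1, 0, 1, 0, 0, 0, 1, 0, 0])
    (u3 := [1, 1, 0, 0, 0, 0, 0, 0, 1, 1, 0, 1, 0, 0, 0, 1, 1, 0, 1, 0, 0, 1, 1, 0, 1])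
    (by decide +kernel) (by decide +kernel) (by decide +kernel) (by decide +kernel) (by decide +kernel)

theorem good_t4 : GoodI (wd (pw x3 2 ++ y3)) :=
  goodI_cert (w := [0, 2, 0, 2, 0])
    (A := 0x760742402705e0b0268120b81481403e092164278550bc1301d0300481602b0100861840a0050c01501983c0be07c0706202c0940405b05a1181e84a0ba0c8238570360fc0c81e06e0982880f00e0680604b04400c18863068010170020a00e00a8210721041580008002c1504403008c298450380241004e0140040b85a0520d4210130220d806806)
    (B := 0x140a02583e0461782085605e124290440c20e42a83c0c60001104501a0cc1004c0ae014158460421080e01703c120010300760102000604a0e82e05b0640200c8340620582703d0700b81a8620b401c2782c03e10c1f81d0120500581101c0980805001e128168180b00dc0a8510360482682402609c1482a08e14c2f8030181500d06006c17400859)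
    (u1 := [1, 0, 0, 1, 0, 1, 0, 1, 0, 1, 1, 0, 1, 0, 0, 1, 1, 0, 0, 0, 0, 0, 0, 1, 0])
    (u2 := [0, 1, 0, 1, 0, 0, 1, 0, 0, 1, 0, 1, 0, 0, 0, 1, 0, 0, 1, 1, 0, 1, 0, 1, 0])
    (u3 := [0, 0, 1, 0, 1, 0, 1, 1, 0, 1, 1, 0, 0, 1, 1, 0, 1, 0, 1, 0, 1, 1, 0, 0, 0, 0])
    (by decide +kernel) (by decide +kernel) (by decide +kernel) (by decide +kernel) (by decide +kernel)

theorem good_f0 : GoodI (wd (cm x5 y5)) :=
  goodI_cert (w := [0, 2])
    (A := 0x9c1602b85d0a01442c85b0aa1881d83e09212c1802e0b40b42604f0b81342902804e0d0240610881001c84303e1041e03f0bc074198260741580d8170460d42501407a0c42a02f0be0481601608a108068250c00902300c04411c1001903c0dc080110100240c0210640543180500c0381580f0a60e00180b0540d80d0070380080200a00000409829)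
    (B := 0x180cc2780906c1881d00f0160d41c8300c20102181909c0080180e0aa0a82080006e1501a02b0840c81d8110ae0542504702c11023052014088178180701742d82101a1801f8450900181285a0b20680e81707c0a41001c02017c2802e04609c260310260042681403e0900904b0101000f0280c6124038050581601e8560bc0b42e01b07814429826)
    (u1 := [0, 0, 0, 1, 1, 0, 1, 1, 0, 0, 1, 0, 0, 1, 0, 1, 1, 1, 0, 1, 1, 1, 1, 0, 0, 0])
    (u2 := [1, 1, 1, 0, 1, 0, 1, 1, 0, 1, 1, 1, 1, 0, 0, 1, 0, 1, 0, 0, 1, 0, 0, 0, 0])
    (u3 := [0, 1, 1, 0, 0, 0, 0, 1, 0, 0, 0, 0, 0, 1, 1, 0, 1, 0, 1, 0, 1, 0])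
    (by decide +kernel) (by decide +kernel) (by decide +kernel) (by decide +kernel) (by decide +kernel)

theorem good_f1 : GoodI (wd (x5)) :=
  goodI_cert (w := [3, 0])
    (A := 0x2a1682402705e0fc3004f0b814c2e8620c20e82d83101e1342f05f0a018c270510ac0d42b849044094158470880a821046080160198410b20ec2280e03c0281b04a07a05c190550601502902d02202c0004c0960f01402606e08c0c02108607c1f007072024100190700b00b0340020b80e01d020048148240180100d01b01004c0a00501a01801003)
    (B := 0x8a188040290ba178110580b402c298600260f80205c03807c080210ac0c43184d06e0140701a04a0001e8120360800602d0a40542601708c17c270180700e8160490660981e00905413c2185b0020fc2a0590841282b8510900d81a06105e11c0c803022058078140720081704b03c0182002b0601400683b06a0c80e82700e1540504405008c12041)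
    (u1 := [0, 0, 0, 1, 0, 0, 0, 1, 1, 0, 1, 0, 0, 1, 0, 1, 1, 1, 0, 1, 1, 1, 1])
    (u2 := [0, 0, 1, 0, 0, 0, 1, 1, 0, 1, 0, 0, 1, 0, 1, 1, 1, 0, 1, 1, 1, 1])
    (u3 := [1, 0, 0, 1, 0, 1, 0, 1, 0, 0, 0, 0, 1, 0, 1, 1, 1, 0, 1, 0, 1, 1, 0])
    (by decide +kernel) (by decide +kernel) (by decide +kernel) (by decide +kernel) (by decide +kernel)

theorem good_g0 : GoodI (wd (y5)) :=
  goodI_cert (w := [0, 3])
    (A := 0xac1602b8280a00ec060210aa1742904e0680dc0f83c0640b43185405c10028862028184118490c00941c81a0be12c2e0080bc1641985b0b40f82280608e0241384a03605c068420601102984c07a0382784d0240041b01d070120230000861041f813020014018260740a40b0350620bc160190560a80e0240440800f0110300080a80a01e02c03804)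
    (B := 0x980dc3080c0b612c160290a00d01204a0ae0202a8090041202c80d09e1442300a0ba1802f03f02a03c0c827086048190420200782e02f09a1680e02207402c1086207018c118540620181284902c00c228530220c0100170340d41982e0541101d81f0080f01e85f09c0a02003603611c1f00103a01c0c00001c104028130280b4130560720ac29058)
    (u1 := [1, 0, 1, 1, 0, 1, 0, 0, 1, 1, 0, 0, 1, 1, 0, 1, 1, 0, 1, 0, 1, 1])
    (u2 := [1, 1, 0, 0, 0, 1, 0, 0, 0, 0, 1, 1, 1, 1, 0, 0, 0, 0, 1, 1, 0, 1, 1, 0, 0])
    (u3 := [0, 0, 0, 1, 0, 1, 1, 0, 0, 0, 1, 0, 0, 0, 1, 1, 0, 1, 0, 1, 1, 0, 0, 0, 0])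
    (by decide +kernel) (by decide +kernel) (by decide +kernel) (by decide +kernel) (by decide +kernel)

theorem good_g1 : GoodI (wd (x5 ++ y5)) :=
  goodI_cert (w := [3])
    (A := 0xc01883083a0b61340a8310be18c2f05a09009c1784f08c0fc2e85c08214c2c85804415c1a84a0ac05c1e82a0aa11c2a00f0a41442285009c1301980a0960381b8490560940c0440861082003e0720241e03b03c0001c02c06c0d0190010600b81682002202c038290500981202304207c0e81c0360680c81602804c0901001a0100600601001401802)
    (B := 0x9a0e00403b0b40dc2d8540421242880502609c0201d0460682980d0ac040000320440a42f05205c0c0078420360181302005611c2c02a0c602c018360be0d41a0620301142405c0781542b80e0040a01e81c0800243083902c0b01984f07e0482302f08805c2605d0621641683a0220940a82403201c0a0410a00300501e09610c2503e09c0040f860)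
    (u1 := [0, 1, 0, 0, 1, 0, 0, 1, 1, 1, 0, 0, 1, 1, 0, 1, 0, 0, 0, 0, 1, 0, 1, 1, 1, 1])
    (u2 := [0, 0, 0, 0, 0])
    (u3 := [1, 0, 0, 0, 1, 1, 1, 1, 0, 1, 0, 1, 1, 0, 0, 0, 0, 1, 0, 1, 0, 0, 1, 0])
    (by decide +kernel) (by decide +kernel) (by decide +kernel) (by decide +kernel) (by decide +kernel)

theorem good_g2 : GoodI (wd (pw x5 2 ++ y5)) :=
  goodI_cert (w := [3])
    (A := 0xc01883083a0b61340a8310be18c2f05a09009c1784f08c0fc2e85c08214c2c85804415c1a84a0ac05c1e82a0aa11c2a00f0a41442285009c1301980a0960381b8490560940c0440861082003e0720241e03b03c0001c02c06c0d0190010600b81682002202c038290500981202304207c0e81c0360680c81602804c0901001a0100600601001401802)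
    (B := 0xc6060138460160e02d05c0680380800a03c108220190900580e00d07c0ac2082606c1502f01f09e02418020022154250610020943003f08a0d41403a0ba0b0248620280f40d05802e010098500461642600305a0740404e00416c198560a40180002a0240e42682207814c2185f08015c1705101e01c2580c0420ec1904706e06c0281506209017829)
    (u1 := [0, 0, 0, 1, 0, 1, 1, 0, 0, 0, 0, 1, 0, 1, 0, 1, 1, 1, 1, 0, 0, 0])
    (u2 := [0, 0, 0, 0, 0])
    (u3 := [0, 1, 0, 0, 0, 1, 1, 0, 1, 0, 1, 0, 0, 0, 0, 0, 1, 1, 0, 0, 1, 1, 1, 1, 0, 0])
    (by decide +kernel) (by decide +kernel) (by decide +kernel) (by decide +kernel) (by decide +kernel)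

theorem good_g3 : GoodI (wd (pw x5 3 ++ y5)) :=
  goodI_cert (w := [3])
    (A := 0xc01883083a0b61340a8310be18c2f05a09009c1784f08c0fc2e85c08214c2c85804415c1a84a0ac05c1e82a0aa11c2a00f0a41442285009c1301980a0960381b8490560940c0440861082003e0720241e03b03c0001c02c06c0d0190010600b81682002202c038290500981202304207c0e81c0360680c81602804c0901001a0100600601001401802)
    (B := 0x8a0502100006a060058580921401583208e0800900f0340080180d02a0040604a0741702f02f0ac074048610800100280804815c1485207a0b02c85f04416c070620961300b0600721100f02109014c26828086064138310461681983e03e1542083f00c1383183602e0700d85d05a04c2781006001c1b83b068118130250700440502e07814415054)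
    (u1 := [1, 1, 1, 0, 1, 1, 1, 0, 1, 1, 0, 0, 1, 1, 0, 1, 0, 0, 0, 1, 0, 1, 1, 0])
    (u2 := [0, 0, 0, 0, 0])
    (u3 := [0, 1, 0, 0, 1, 1, 1, 1, 0, 1, 0, 0, 0, 1, 1, 1, 1, 0, 1, 0, 1, 0, 0])
    (by decide +kernel) (by decide +kernel) (by decide +kernel) (by decide +kernel) (by decide +kernel)

theorem good_g4 : GoodI (wd (pw x5 4 ++ y5)) :=
  goodI_cert (w := [3])
    (A := 0xc01883083a0b61340a8310be18c2f05a09009c1784f08c0fc2e85c08214c2c85804415c1a84a0ac05c1e82a0aa11c2a00f0a41442285009c1301980a0960381b8490560940c0440861082003e0720241e03b03c0001c02c06c0d0190010600b81682002202c038290500981202304207c0e81c0360680c81602804c0901001a0100600601001401802)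
    (B := 0x7a12c100410580501a86001c0840082604a1840303002c08c1400d05c0901d8050be1602f02a07c0640e80805a110050270a204c2a01f09816c2985d06c1682806206e1340102909c048238340340703185903603c2103c09002c1981505e010060520aa0c42283a07200c088220860782b02b01201c1c046092000250570301001904f02e0401f85c)
    (u1 := [1, 0, 1, 1, 0, 1, 1, 0, 1, 0, 1, 1, 0, 1, 0, 1, 0, 1, 1, 0, 1, 1, 1, 1])
    (u2 := [0, 0, 0, 0, 0])
    (u3 := [1, 1, 0, 0, 1, 0, 0, 1, 0, 1, 0, 0, 1, 0, 1, 0, 1, 1, 1, 0, 1, 0, 0, 1, 1, 0])
    (by decide +kernel) (by decide +kernel) (by decide +kernel) (by decide +kernel) (by decide +kernel)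

theorem good_s7 : GoodI (wd (w7)) :=
  goodI_cert (w := [2])
    (A := 0xb4188308630b6164288500be1602684c09411c2184109c0fc1f03c0a80ec2f03a06e1201a05708414c1e83005e0b82782d0a40b0228290501801582506a08c248220720842e01f0aa0780e8240661100c0170ac0581901502812c0981c02409c0881001e0380683108c0302e80b0140240d8080800d8038050340e0150030320100100600200010026)
    (B := 0x740582b8620be0b42905001a1442b02808e080130370200741281f0781601902b05809c1a06103618c2785c0600780d03e0761740e0390bc138258590620142481406c0bc1080e0aa0b80600000e0fc2d80408014c260480541680a8430c004c2501200c1500c0350021102080900402c2104d0100e0198230060a40c83d0440900504601e05c08845)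
    (u1 := [0, 0, 1, 0, 1, 0, 1, 1, 0, 1, 1, 1, 1, 1, 1, 0, 1, 0, 1, 1, 0, 0, 1, 1, 1, 0])
    (u2 := [0])
    (u3 := [0, 1, 0, 1, 0, 1, 0, 1, 1, 1, 1, 0, 0, 0, 1, 1, 1, 1, 0, 0, 1, 1, 1, 0, 0, 1])
    (by decide +kernel) (by decide +kernel) (by decide +kernel) (by decide +kernel) (by decide +kernel)

theorem good_e11 : GoodI (wd (w11)) :=
  goodI_cert (w := [2])
    (A := 0xb4188308630b6164288500be1602684c09411c2184109c0fc1f03c0a80ec2f03a06e1201a05708414c1e83005e0b82782d0a40b0228290501801582506a08c248220720842e01f0aa0780e8240661100c0170ac0581901502812c0981c02409c0881001e0380683108c0302e80b0140240d8080800d8038050340e0150030320100100600200010026)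
    (B := 0x4a0302b83e060178288550420ec2e85604e018068600560581905f0b81602000802008c3084908a1641302e03e038210280a41380c03305a1882204c0400a81a04702e0782a01a0a00f0318130000b0278010b40fc0e8140121340582f0960642403706c16c01822052104090380140102183a0a60d41c84a0380900881b00a0540103100e1180783d)
    (u1 := [0, 1, 0, 1, 0, 1, 1, 0, 1, 0, 0, 0, 0, 1, 0, 1, 0, 0, 1, 1, 1, 0, 1, 0, 0])
    (u2 := [0])
    (u3 := [1, 1, 1, 1, 0, 0, 0, 0, 0, 1, 0, 1, 0, 0, 0, 0, 1, 1, 0, 1, 0, 0, 1])
    (by decide +kernel) (by decide +kernel) (by decide +kernel) (by decide +kernel) (by decide +kernel)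

/-! ### the odd primes -/

theorem goodI_three (g : Q) (hg : orderOf g = 3) : GoodI g := by
  have h := Cfsg.Agent.H58.HSOdd.c3
  simp only [Bool.and_eq_true, Bool.not_eq_true'] at h
  obtain ⟨⟨⟨⟨⟨⟨⟨⟨h1, h2⟩, h3⟩, -⟩, -⟩, n1⟩, n2⟩, n3⟩, n4⟩ := h
  have e1 : wd x3 ^ 3 = 1 := by rw [← wd_pw]; exact eq_of_chk h1
  have e2 : wd y3 ^ 3 = 1 := by rw [← wd_pw]; exact eq_of_chk h2
  have e3 : wd x3 * wd y3 = wd y3 * wd x3 := by
    rw [← wd_app, ← wd_app]; exact eq_of_chk h3
  have m1 : wd x3 ≠ 1 := by rw [← wd_nil']; exact ne_of_pt (by norm_num) n1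
  have m2 : wd y3 ≠ 1 := by rw [← wd_nil']; exact ne_of_pt (by norm_num) n2
  have m3 : wd y3 ≠ wd x3 := ne_of_pt (by norm_num) n3
  have m4 : wd y3 ≠ wd x3 ^ 2 := by rw [← wd_pw]; exact ne_of_pt (by norm_num) n4
  have hyx : wd y3 ∉ Subgroup.zpowers (wd x3) := by
    intro hm
    obtain ⟨n, hn⟩ := Subgroup.mem_zpowers_iff.1 hm
    have h6 : wd x3 ^ (n % 3) = wd y3 := by
      rw [← hn]
      conv_rhs => rw [← Int.emod_add_mul_ediv n 3, zpow_add, zpow_mul]
      rw [show (wd x3 : Q) ^ (3 : ℤ) = wd x3 ^ 3 from rfl, e1, one_zpow, mul_one]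
    have h7 : 0 ≤ n % 3 := Int.emod_nonneg _ (by norm_num)
    have h8 : n % 3 < 3 := Int.emod_lt_of_pos _ (by norm_num)
    have h9 : n % 3 = 0 ∨ n % 3 = 1 ∨ n % 3 = 2 := by omega
    rcases h9 with h9 | h9 | h9 <;> rw [h9] at h6
    · rw [zpow_zero] at h6; exact m2 h6.symm
    · rw [zpow_one] at h6; exact m3 h6.symm
    · exact m4 h6.symm
  refine SprHeis.goodI_of_pair_sq (by norm_num) e1 e2 e3 m1 hyx (by rw [card_Q]; norm_num) good_t1 (fun r hr => ?_) g hg
  rcases (by omega : r = 0 ∨ r = 1 ∨ r = 2) with rfl | rfl | rfl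
  · rw [pow_zero, one_mul]; exact good_t2
  · rw [pow_one, ← wd_app]; exact good_t3
  · rw [← wd_pw, ← wd_app]; exact good_t4

theorem goodI_five (g : Q) (hg : orderOf g = 5) : GoodI g := by
  have h := Cfsg.Agent.H58.HSOdd.c5
  simp only [Bool.and_eq_true, Bool.not_eq_true'] at h
  obtain ⟨⟨⟨⟨⟨⟨h1, h2⟩, h3⟩, h4⟩, -⟩, -⟩, h7⟩ := h
  have e1 : wd x5 ^ 5 = 1 := by rw [← wd_pw]; exact eq_of_chk h1
  have e2 : wd y5 ^ 5 = 1 := by rw [← wd_pw]; exact eq_of_chk h2
  have e3 : ⁅wd x5, wd y5⁆ * wd x5 = wd x5 * ⁅wd x5, wd y5⁆ := by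
    rw [← wd_cm, ← wd_app, ← wd_app]; exact eq_of_chk h3
  have e4 : ⁅wd x5, wd y5⁆ * wd y5 = wd y5 * ⁅wd x5, wd y5⁆ := by
    rw [← wd_cm, ← wd_app, ← wd_app]; exact eq_of_chk h4
  have e7 : ⁅wd x5, wd y5⁆ ≠ 1 := by
    rw [← wd_cm, ← wd_nil']; exact ne_of_pt (by norm_num) h7
  refine SprHeis.goodI_of_pair_cube (by norm_num) e1 e2 e3 e4 e7 (by rw [card_Q]; norm_num)
    (by rw [← wd_cm]; exact good_f0) good_f1 (fun r hr => ?_) g hg
  rcases (by omega : r = 0 ∨ r = 1 ∨ r = 2 ∨ r = 3 ∨ r = 4) with rfl | rfl | rfl | rfl | rfl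
  · rw [pow_zero, one_mul]; exact good_g0
  · rw [pow_one, ← wd_app]; exact good_g1
  · rw [← wd_pw, ← wd_app]; exact good_g2
  · rw [← wd_pw, ← wd_app]; exact good_g3
  · rw [← wd_pw, ← wd_app]; exact good_g4

theorem c7 : (Cfsg.Agent.H58.HSOdd.chk (pw w7 7) [] && !(Nat.beq (app w7 0) (app [] 0))) = true := by decide +kernel
theorem c11 : (Cfsg.Agent.H58.HSOdd.chk (pw w11 11) [] && !(Nat.beq (app w11 0) (app [] 0))) = true := by decide +kernel

theorem ord_of {w : List ℕ} {p : ℕ} (hp : p.Prime)
    (h : (Cfsg.Agent.H58.HSOdd.chk (pw w p) [] && !(Nat.beq (app w 0) (app [] 0))) = true) : orderOf (wd w) = p := by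
  rw [Bool.and_eq_true, Bool.not_eq_true'] at h
  have : Fact p.Prime := ⟨hp⟩
  refine orderOf_eq_prime ?_ ?_
  · rw [← wd_pw]; exact eq_of_chk h.1
  · rw [← wd_nil']; exact ne_of_pt (by norm_num) h.2

theorem goodI_seven (g : Q) (hg : orderOf g = 7) : GoodI g :=
  goodI_of_sq (by norm_num) (by rw [card_Q]; norm_num) (ord_of (by norm_num) c7) good_s7 g hg

theorem goodI_eleven (g : Q) (hg : orderOf g = 11) : GoodI g :=
  goodI_of_sq (by norm_num) (by rw [card_Q]; norm_num) (ord_of (by norm_num) c11) good_e11 g hg

theorem goodI_odd (g : Q) {p : ℕ} (hp : p.Prime) (hp2 : p ≠ 2) (hg : orderOf g = p) : GoodI g := by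
  have h1 : p ∣ 44352000 := by
    rw [← card_Q, ← hg]
    exact _root_.orderOf_dvd_natCard g
  have h2 : (44352000 : ℕ) = 2 ^ 9 * (3 ^ 2 * (5 ^ 3 * (7 * 11))) := by norm_num
  rw [h2] at h1
  have h3 : p = 2 ∨ p = 3 ∨ p = 5 ∨ p = 7 ∨ p = 11 := by
    have e : ∀ {q : ℕ}, q.Prime → p ∣ q → p = q := fun hq h => (Nat.prime_dvd_prime_iff_eq hp hq).1 h
    rcases (hp.dvd_mul).1 h1 with h | h
    · exact Or.inl (e (by norm_num) (hp.dvd_of_dvd_pow h))
    rcases (hp.dvd_mul).1 h with h | h
    · exact Or.inr (Or.inl (e (by norm_num) (hp.dvd_of_dvd_pow h)))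
    rcases (hp.dvd_mul).1 h with h | h
    · exact Or.inr (Or.inr (Or.inl (e (by norm_num) (hp.dvd_of_dvd_pow h))))
    rcases (hp.dvd_mul).1 h with h | h
    · exact Or.inr (Or.inr (Or.inr (Or.inl (e (by norm_num) h))))
    · exact Or.inr (Or.inr (Or.inr (Or.inr (e (by norm_num) h))))
  rcases h3 with rfl | rfl | rfl | rfl | rfl
  · exact absurd rfl hp2
  · exact goodI_three g hg
  · exact goodI_five g hg
  · exact goodI_seven g hg
  · exact goodI_eleven g hg

/-! ### the involutory automorphisms -/

theorem goodA_of_isConj {r g : H0} (h : IsConj r g) (hr : GoodA (auQ r)) : GoodA (auQ g) := by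
  rw [isConj_iff] at h
  obtain ⟨c, rfl⟩ := h
  refine GoodA.of_conj (auQ c)⁻¹ ?_
  have h1 : (auQ c)⁻¹ * auQ (c * r * c⁻¹) * (auQ c)⁻¹⁻¹ = auQ r := by
    rw [map_mul, map_mul, map_inv]
    group
  rw [h1]
  exact hr

theorem auQ_τ : auQ τ = 1 := (modQ.au_ker τ).2 (Or.inr rfl)

theorem goodA_two (α : MulAut Q) (h : orderOf α = 2) : GoodA α := by
  obtain ⟨g, rfl⟩ := modQ.au_surj α
  have h1 : modQ.au (g ^ 2) = 1 := by rw [map_pow, ← h, pow_orderOf_eq_one]
  have hne : modQ.au g ≠ 1 := by
    intro h2
    rw [h2, orderOf_one] at h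
    exact absurd h (by norm_num)
  change GoodA (auQ g)
  rcases sq_cases ((modQ.au_ker _).1 h1) with h | h | h | h | h | h | h
  · exact absurd ((modQ.au_ker g).2 (Or.inl h)) hne
  · exact absurd ((modQ.au_ker g).2 (Or.inr h)) hne
  · exact goodA_of_isConj h (by rw [← hw_a]; exact good_a)
  · exact goodA_of_isConj h (by rw [map_mul, auQ_τ, mul_one, ← hw_a]; exact good_a)
  · exact goodA_of_isConj h (by rw [← hw_x]; exact good_x)
  · exact goodA_of_isConj h (by rw [← hw_z]; exact good_z)
  · exact goodA_of_isConj h good_d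

/-- the square of an automorphism is inner -/
theorem sq_inner (α : MulAut Q) : ∃ g : Q, α * α = MulAut.conj g := by
  obtain ⟨p, hp, h⟩ := Cfsg.Agent.HN.AutHS.exists_perm α
  have hpp : p * p ∈ Q := Cfsg.Agent.HN.AutBound.mem_Q_iff.2 ⟨mul_mem hp hp, by rw [map_mul, Int.units_mul_self]⟩
  refine ⟨⟨p * p, hpp⟩, ?_⟩
  ext1 x
  apply Subtype.ext
  change (((α * α) x : Q) : Perm (Fin 100)) = p * p * (x : Perm (Fin 100)) * (p * p)⁻¹
  rw [MulAut.mul_apply, h, h]
  group

theorem spr_Q : Spr Q := by
  have hs : IsSimpleGroup Q := Cfsg.Agent.HN.AutHS.nonempty_Q.2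
  refine spr_of_prime fun α hα => ?_
  by_cases h2 : orderOf α = 2
  · exact goodA_two α h2
  · have hna := exists_not_comm (T := Q) card_Q (by norm_num)
    obtain ⟨k, hk⟩ := hα.odd_of_ne_two h2
    obtain ⟨q, hq⟩ := sq_inner α
    have h1 := pow_orderOf_eq_one α
    rw [hk] at h1
    have h3 : α = MulAut.conj (q ^ (k + 1)) := by
      rw [map_pow, ← hq]
      calc α = α ^ (2 * k + 1) * α := by rw [h1, one_mul]
        _ = (α * α) ^ (k + 1) := by
          rw [← pow_two, ← pow_mul, ← pow_succ]
          congr 1
    have hinj : Function.Injective (MulAut.conj : Q →* MulAut Q) := by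
      rw [injective_iff_map_eq_one]
      intro z hz
      have hz' : z ∈ center Q := by
        rw [mem_center_iff]
        intro y
        have h1 : MulAut.conj z y = y := by rw [hz]; rfl
        rw [MulAut.conj_apply] at h1
        calc y * z = z * y * z⁻¹ * z := by rw [h1]
          _ = z * y := by group
      rcases hs.eq_bot_or_eq_top_of_normal (center Q) inferInstance with h1 | h1
      · rwa [h1, mem_bot] at hz'
      · obtain ⟨x, y, hxy⟩ := hna
        have h2 : y ∈ center Q := by rw [h1]; exact mem_top _
        exact absurd (mem_center_iff.1 h2 x) hxy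
    rw [h3]
    refine goodA_of_goodI hna (goodI_odd _ hα h2 ?_)
    rw [h3, orderOf_injective _ hinj]

/-- **The row `HS` of S3938.** -/
theorem spr_hs (_known : Cfsg.Agent.H257.El.Known.{0}) {T : Type} [Group T] [Finite T] (h : Cfsg.Spor.IsoHS T) :
    Cfsg.Agent.H424.Spr.Spr T := by
  obtain ⟨e⟩ := h
  obtain ⟨f⟩ := Cfsg.Agent.HN.AutHS.nonempty_Q.1
  exact Spr.congr (f.trans e.symm) spr_Q

end Cfsg.Agent.H767.SprHS
end

-- part: H328/SprHe
section
/-!
# S3938: 3/2-generation of the Held group (task 5120, helper328)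

* inner automorphisms of prime order: for representatives `x` explicit `y` such that `⟨x, y⟩` contains elements of
  orders 17 and 7 (no proper subgroup does);
* outer involutory automorphisms `α`: no proper `α`-invariant subgroup contains `x₀` of order 17.  It would normalise
  `⟨x₀⟩` or `N = L₂(16), L₂(17), S₄(4)`; the automorphisms mapping `x₀` to `x₀ ^ i` are inner iff `i` is a square.
-/

set_option autoImplicit false
set_option maxRecDepth 100000

namespace Cfsg.Agent.H328.SprHe

open Subgroup Cfsg
open Cfsg.Spor.He (Gen)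
open Cfsg.Agent.SporadicB.HePerm (act wd phi phi_wd_apply gens mem_gens)
open Cfsg.Agent.FixBN.HeStab Cfsg.Agent.KFacts.He.Lv Cfsg.Agent.CpAutHe.Cnt
open Cfsg.Agent.H587.NR Cfsg.Agent.H587.NR.He
open Cfsg.Agent.H609.TH

/-- the letters `x, y, x⁻¹, y⁻¹` -/
def lx (X Y : List Gen) : ℕ → List Gen
  | 0 => X
  | 1 => Y
  | 2 => X.reverse
  | _ => Y.reverse

/-- words in `x, y` -/
def ew (X Y : List Gen) : List ℕ → List Gen
  | [] => []
  | c :: l => lx X Y c ++ ew X Y l

theorem lx_mem (X Y : List Gen) (c : ℕ) : wd (lx X Y c) ∈ _root_.Subgroup.closure ({wd Y, wd X} : Set Cfsg.Spor.He) := by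
  have h1 : wd X ∈ _root_.Subgroup.closure ({wd Y, wd X} : Set Cfsg.Spor.He) := Subgroup.subset_closure (Or.inr rfl)
  have h2 : wd Y ∈ closure ({wd Y, wd X} : Set Cfsg.Spor.He) := Subgroup.subset_closure (Or.inl rfl)
  match c with
  | 0 => exact h1
  | 1 => exact h2
  | 2 =>
    rw [show lx X Y 2 = X.reverse from rfl, wd_reverse]
    exact inv_mem h1
  | n + 3 =>
    rw [show lx X Y (n + 3) = Y.reverse from rfl, wd_reverse]
    exact inv_mem h2

theorem ew_mem (X Y : List Gen) (l : List ℕ) : wd (ew X Y l) ∈ _root_.Subgroup.closure ({wd Y, wd X} : Set Cfsg.Spor.He) := by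
  induction l with
  | nil => exact one_mem _
  | cons c l ih =>
    rw [show ew X Y (c :: l) = lx X Y c ++ ew X Y l from rfl, wd_append]
    exact mul_mem (lx_mem X Y c) ih

/-- the certificate: words in `X`, `Y` of orders 17 and (the `d`-th power) 7 -/
def genB (X Y : List Gen) (l₁ l₂ : List ℕ) (d : ℕ) : Bool :=
  and (and (chkB (pw (ew X Y l₁) 17) []) (not (chkB (ew X Y l₁) [])))
    (and (chkB (pw (ew X Y l₂) (d * 7)) []) (not (chkB (pw (ew X Y l₂) d) [])))

theorem goodI_of_genB (H : Cfsg.Agent.H257.Cov.OInc Cfsg.Spor.He 17 7) {X Y : List Gen} {l₁ l₂ : List ℕ} {d : ℕ}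
    (h : genB X Y l₁ l₂ d = true) : GoodI (wd X) := by
  have h17 : Fact (Nat.Prime 17) := ⟨by norm_num⟩
  have h7 : Fact (Nat.Prime 7) := ⟨by norm_num⟩
  unfold genB at h
  simp only [Bool.and_eq_true] at h
  obtain ⟨⟨h1, h2⟩, h3, h4⟩ := h
  have e1 := eq_of_chkB h1
  have e3 := eq_of_chkB h3
  rw [wd_pw, wd_nil] at e1 e3
  have e2 : wd (ew X Y l₁) ≠ 1 := by
    rw [← wd_nil]
    exact ne_of_chkB (by simpa using h2)
  have e4 : wd (ew X Y l₂) ^ d ≠ 1 := by
    rw [← wd_pw, ← wd_nil]
    exact ne_of_chkB (by simpa using h4)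
  refine ⟨wd Y, ?_⟩
  by_contra hne
  exact H _ hne _ (ew_mem X Y l₁) _ (pow_mem (ew_mem X Y l₂) d) (orderOf_eq_prime e1 e2)
    (orderOf_eq_prime (by rw [← pow_mul, e3]) e4)

def A3 : List Gen := [.c, .f, .d, .g, .d, .c, .e, .d, .c, .g, .b, .e, .d, .g, .e, .c, .d, .c, .g, .d, .e, .b, .g, .c, .d, .e, .c, .d, .g, .d, .c, .d]

def B3 : List Gen := [.b, .e, .d, .g, .e, .c, .d, .c, .g, .d, .e, .b]

def W3 : List Gen := [.d, .f]

def W17 : List Gen := [.f, .g, .c, .b, .d, .g, .e]

theorem i_a : genB [.a] [.b, .c, .d, .f] [1] [0, 1] 3 = true := by decide +kernel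

theorem i_d : genB [.d] [.b, .c, .f, .d, .e] [0, 1] [1] 3 = true := by decide +kernel

theorem c7_w : genB W7 [.f] [0, 0, 0, 1] [0] 1 = true := by decide +kernel

theorem c7_b : genB B7 [.a] [0, 1] [0] 1 = true := by decide +kernel

theorem c7_0 : genB X7_0 [.b, .f] [0, 1] [0] 1 = true := by decide +kernel

theorem c7_1 : genB X7_1 [.a, .c] [0, 1] [0] 1 = true := by decide +kernel

theorem c7_2 : genB X7_2 [.a] [0, 1] [0] 1 = true := by decide +kernel

theorem c7_3 : genB X7_3 [.c] [0, 1] [0] 1 = true := by decide +kernel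

theorem c7_4 : genB X7_4 [.d] [0, 1] [0] 1 = true := by decide +kernel

theorem c7_5 : genB X7_5 [.f] [0, 1] [0] 1 = true := by decide +kernel

theorem c7_6 : genB X7_6 [.c, .d] [0, 1] [0] 1 = true := by decide +kernel

theorem c5_b : genB B5 [.a, .b] [0, 1] [0, 0, 1] 1 = true := by decide +kernel

theorem c5_0 : genB X5_0 [.b, .f] [0, 1, 2, 1] [0, 1] 4 = true := by decide +kernel

theorem c5_1 : genB X5_1 [.b, .c] [0, 0, 1] [0, 3] 2 = true := by decide +kernel

theorem c5_2 : genB X5_2 [.b, .a] [0, 0, 3] [0, 1] 1 = true := by decide +kernel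

theorem c5_3 : genB X5_3 [.b, .c] [0, 1] [0, 0, 1] 2 = true := by decide +kernel

theorem c5_4 : genB X5_4 [.b, .c] [0, 0, 1] [0, 1] 3 = true := by decide +kernel

theorem c17 : genB W17 [.c, .g] [0] [0, 1] 2 = true := by decide +kernel

theorem c3_w : genB W3 [.a, .b, .c] [0, 1, 1] [0, 1] 3 = true := by decide +kernel

theorem c3_b : genB B3 [.a, .b, .c] [0, 1, 2, 1] [0, 1] 2 = true := by decide +kernel

theorem c3_0 : genB A3 [.b, .c] [0, 1, 2, 3] [0, 1] 2 = true := by decide +kernel

theorem c3_1 : genB (A3 ++ B3) [.c, .d] [0, 1, 2, 1] [0, 1] 3 = true := by decide +kernel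

theorem c3_2 : genB (A3 ++ (B3 ++ B3)) [.c, .e] [0, 1, 2, 1] [0, 1] 2 = true := by decide +kernel


/-! ### The elements of order 17 -/

theorem sc : Cfsg.Agent.H537.Cop.SC 17 Cfsg.Spor.He := by
  intro x hx
  have : Finite Cfsg.Spor.He := Nat.finite_of_card_ne_zero (by rw [card_he]; norm_num)
  refine le_antisymm (H679.SpHe.card_cent_of hx) ?_
  rw [← hx]
  exact Nat.le_of_dvd Nat.card_pos (Subgroup.orderOf_dvd_natCard _ (mem_centralizer_singleton_iff.2 rfl))

/-- the factorisation of the order -/
def fl : List (ℕ × ℕ) := [(2, 10), (3, 3), (5, 2), (7, 3), (17, 1)]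

theorem chk_n : chkN 4030387200 fl 17 = true := by decide +kernel

theorem chk_f : Cfsg.Agent.H257.El.chkF 4030387200 fl 17 7 [] = true := by decide +kernel

theorem oinc (known : Cfsg.Agent.H257.El.Known.{0}) : Cfsg.Agent.H257.Cov.OInc Cfsg.Spor.He 17 7 := by
  have : Finite Cfsg.Spor.He := Nat.finite_of_card_ne_zero (by rw [card_he]; norm_num)
  have h17 : Fact (Nat.Prime 17) := ⟨by norm_num⟩
  refine Cfsg.Agent.H257.Cov.oinc_of_primes Cfsg.Agent.OrdDiv.table known card_he (by norm_num) (by norm_num)
    (fun z hz => ?_) chk_f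
  have h1 : orderOf (z ^ 7) = 17 := by
    rw [orderOf_pow_of_dvd (by norm_num) (by rw [hz]; norm_num), hz]
  have h2 : orderOf (z ^ 17) = 7 := by
    rw [orderOf_pow_of_dvd (by norm_num) (by rw [hz]; norm_num), hz]
  refine H679.SpHe.no_comm (x := z ^ 17) h1 (by rw [h2]; norm_num) (by rw [h2]; norm_num) ?_
  exact ((Commute.refl z).pow_pow 7 17).eq

/-! ### Inner automorphisms -/

theorem good_seven (H : Cfsg.Agent.H257.Cov.OInc Cfsg.Spor.He 17 7) {x : Cfsg.Spor.He} (hx : orderOf x = 7) :
    GoodI x := by
  have h7 : Fact (Nat.Prime 7) := ⟨by norm_num⟩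
  have : Finite Cfsg.Spor.He := Nat.finite_of_card_ne_zero (by rw [card_he]; norm_num)
  by_contra hng
  have r1 : wd B7 * wd A7 = wd W7 * (wd A7 * wd B7) := by
    have h1 := eq_of_chkB (show chkB (B7 ++ A7) (W7 ++ (A7 ++ B7)) = true by decide +kernel)
    rwa [wd_append, wd_append, wd_append] at h1
  have r2 : wd A7 * wd W7 = wd W7 * wd A7 := by
    have h1 := eq_of_chkB (show chkB (A7 ++ W7) (W7 ++ A7) = true by decide +kernel)
    rwa [wd_append, wd_append] at h1
  have r3 : wd B7 * wd W7 = wd W7 * wd B7 := by
    have h1 := eq_of_chkB (show chkB (B7 ++ W7) (W7 ++ B7) = true by decide +kernel)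
    rwa [wd_append, wd_append] at h1
  have r4 : wd A7 ^ 7 = 1 := by
    have h1 := eq_of_chkB (show chkB (pw A7 7) [] = true by decide +kernel)
    rwa [wd_pw, wd_nil] at h1
  have r5 : wd B7 ^ 7 = 1 := by
    have h1 := eq_of_chkB (show chkB (pw B7 7) [] = true by decide +kernel)
    rwa [wd_pw, wd_nil] at h1
  have r6 : wd W7 ^ 7 = 1 := by
    have h1 := eq_of_chkB (show chkB (pw W7 7) [] = true by decide +kernel)
    rwa [wd_pw, wd_nil] at h1
  have r7 : wd W7 ≠ 1 := by
    rw [← wd_nil]
    exact ne_of_chkB (by decide +kernel)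
  have key : ∀ (j : ℕ) (X : List Gen), chkB (A7 ++ pw B7 j) X = true → wd A7 * wd B7 ^ j = wd X := by
    intro j X hj
    have h1 := eq_of_chkB hj
    rwa [wd_append, wd_pw] at h1
  rcases exists_extra (p := 7) r1 r2 r3 r4 r5 r6 r7 (by rw [card_he]; norm_num) (S := fun x => ¬ GoodI x)
    (fun x k h h' => h (h'.of_pow k)) (fun x u h h' => h (h'.of_conj u)) hx hng with h | h | ⟨j, hj, h⟩
  · exact h (goodI_of_genB H c7_w)
  · exact h (goodI_of_genB H c7_b)
  · interval_cases j
    · exact h (by rw [key _ _ eq7_0]; exact goodI_of_genB H c7_0)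
    · exact h (by rw [key _ _ eq7_1]; exact goodI_of_genB H c7_1)
    · exact h (by rw [key _ _ eq7_2]; exact goodI_of_genB H c7_2)
    · exact h (by rw [key _ _ eq7_3]; exact goodI_of_genB H c7_3)
    · exact h (by rw [key _ _ eq7_4]; exact goodI_of_genB H c7_4)
    · exact h (by rw [key _ _ eq7_5]; exact goodI_of_genB H c7_5)
    · exact h (by rw [key _ _ eq7_6]; exact goodI_of_genB H c7_6)

theorem good_five (H : Cfsg.Agent.H257.Cov.OInc Cfsg.Spor.He 17 7) {x : Cfsg.Spor.He} (hx : orderOf x = 5) :
    GoodI x := by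
  have h5 : Fact (Nat.Prime 5) := ⟨by norm_num⟩
  have : Finite Cfsg.Spor.He := Nat.finite_of_card_ne_zero (by rw [card_he]; norm_num)
  by_contra hng
  have r1 : wd B5 * wd A5 = wd A5 * wd B5 := by
    have h1 := eq_of_chkB (show chkB (B5 ++ A5) (A5 ++ B5) = true by decide +kernel)
    rwa [wd_append, wd_append] at h1
  have r4 : wd A5 ^ 5 = 1 := by
    have h1 := eq_of_chkB (show chkB (pw A5 5) [] = true by decide +kernel)
    rwa [wd_pw, wd_nil] at h1
  have r5 : wd B5 ^ 5 = 1 := by
    have h1 := eq_of_chkB (show chkB (pw B5 5) [] = true by decide +kernel)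
    rwa [wd_pw, wd_nil] at h1
  have r6 : wd A5 ≠ 1 := by
    rw [← wd_nil]
    exact ne_of_chkB (by decide +kernel)
  have r7 : ∀ j < 5, wd B5 ≠ wd A5 ^ j := by
    intro j hj
    rw [← wd_pw]
    apply ne_of_chkB
    interval_cases j <;> decide +kernel
  have key : ∀ (j : ℕ) (X : List Gen), chkB (A5 ++ pw B5 j) X = true → wd A5 * wd B5 ^ j = wd X := by
    intro j X hj
    have h1 := eq_of_chkB hj
    rwa [wd_append, wd_pw] at h1
  rcases exists_abel (p := 5) r1 r4 r5 r6 r7 (by rw [card_he]; norm_num) (S := fun x => ¬ GoodI x)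
    (fun x k h h' => h (h'.of_pow k)) (fun x u h h' => h (h'.of_conj u)) hx hng with h | ⟨j, hj, h⟩
  · exact h (goodI_of_genB H c5_b)
  · interval_cases j
    · exact h (by rw [key _ _ eq5_0]; exact goodI_of_genB H c5_0)
    · exact h (by rw [key _ _ eq5_1]; exact goodI_of_genB H c5_1)
    · exact h (by rw [key _ _ eq5_2]; exact goodI_of_genB H c5_2)
    · exact h (by rw [key _ _ eq5_3]; exact goodI_of_genB H c5_3)
    · exact h (by rw [key _ _ eq5_4]; exact goodI_of_genB H c5_4)

theorem rel3_ba : wd B3 * wd A3 = wd W3 * (wd A3 * wd B3) := by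
  have h1 := eq_of_chkB (show chkB (B3 ++ A3) (W3 ++ (A3 ++ B3)) = true by decide +kernel)
  rwa [wd_append, wd_append, wd_append] at h1

theorem rel3_aw : wd A3 * wd W3 = wd W3 * wd A3 := by
  have h1 := eq_of_chkB (show chkB (A3 ++ W3) (W3 ++ A3) = true by decide +kernel)
  rwa [wd_append, wd_append] at h1

theorem rel3_bw : wd B3 * wd W3 = wd W3 * wd B3 := by
  have h1 := eq_of_chkB (show chkB (B3 ++ W3) (W3 ++ B3) = true by decide +kernel)
  rwa [wd_append, wd_append] at h1

theorem rel3_a : wd A3 ^ 3 = 1 := by
  have h1 := eq_of_chkB (show chkB (pw A3 3) [] = true by decide +kernel)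
  rwa [wd_pw, wd_nil] at h1

theorem rel3_b : wd B3 ^ 3 = 1 := by
  have h1 := eq_of_chkB (show chkB (pw B3 3) [] = true by decide +kernel)
  rwa [wd_pw, wd_nil] at h1

theorem rel3_w : wd W3 ^ 3 = 1 := by
  have h1 := eq_of_chkB (show chkB (pw W3 3) [] = true by decide +kernel)
  rwa [wd_pw, wd_nil] at h1

theorem good_three (H : Cfsg.Agent.H257.Cov.OInc Cfsg.Spor.He 17 7) {x : Cfsg.Spor.He} (hx : orderOf x = 3) :
    GoodI x := by
  have h3 : Fact (Nat.Prime 3) := ⟨by norm_num⟩
  have : Finite Cfsg.Spor.He := Nat.finite_of_card_ne_zero (by rw [card_he]; norm_num)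
  by_contra hng
  have r7 : wd W3 ≠ 1 := by
    rw [← wd_nil]
    exact ne_of_chkB (by decide +kernel)
  rcases exists_extra (p := 3) rel3_ba rel3_aw rel3_bw rel3_a rel3_b rel3_w r7 (by rw [card_he]; norm_num)
    (S := fun x => ¬ GoodI x)
    (fun x k h h' => h (h'.of_pow k)) (fun x u h h' => h (h'.of_conj u)) hx hng with h | h | ⟨j, hj, h⟩
  · exact h (goodI_of_genB H c3_w)
  · exact h (goodI_of_genB H c3_b)
  · interval_cases j
    · apply h
      rw [pow_zero, mul_one]
      exact goodI_of_genB H c3_0
    · apply h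
      rw [pow_one, ← wd_append]
      exact goodI_of_genB H c3_1
    · apply h
      rw [pow_two, ← wd_append, ← wd_append]
      exact goodI_of_genB H c3_2

theorem good_two (H : Cfsg.Agent.H257.Cov.OInc Cfsg.Spor.He 17 7) {x : Cfsg.Spor.He} (hx : orderOf x = 2) :
    GoodI x := by
  have h1 : x * x = 1 := by rw [← pow_two, ← hx, pow_orderOf_eq_one]
  have h2 : x ≠ 1 := by
    rintro rfl
    rw [orderOf_one] at hx
    exact absurd hx (by norm_num)
  rcases Cfsg.Agent.KFacts.He.Classes.two_classes_ad h1 h2 with ⟨g, hg⟩ | ⟨g, hg⟩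
  · refine GoodI.of_conj g⁻¹ ?_
    have h3 : g⁻¹ * x * g⁻¹⁻¹ = wd [.d] := by
      rw [wd_one, ← hg]
      group
      rfl
    rw [h3]
    exact goodI_of_genB H i_d
  · refine GoodI.of_conj g⁻¹ ?_
    have h3 : g⁻¹ * x * g⁻¹⁻¹ = wd [.a] := by
      rw [wd_one, ← hg]
      group
      rfl
    rw [h3]
    exact goodI_of_genB H i_a

theorem orderOf_w17 : orderOf (wd W17) = 17 := by
  have h17 : Fact (Nat.Prime 17) := ⟨by norm_num⟩
  refine orderOf_eq_prime ?_ ?_
  · have h1 := eq_of_chkB (show chkB (pw W17 17) [] = true by decide +kernel)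
    rwa [wd_pw, wd_nil] at h1
  · rw [← wd_nil]
    exact ne_of_chkB (by decide +kernel)

theorem good_inner (H : Cfsg.Agent.H257.Cov.OInc Cfsg.Spor.He 17 7) {x : Cfsg.Spor.He} (hp : (orderOf x).Prime) :
    GoodI x := by
  have : Finite Cfsg.Spor.He := Nat.finite_of_card_ne_zero (by rw [card_he]; norm_num)
  obtain ⟨p, hx⟩ : ∃ p, p = orderOf x := ⟨_, rfl⟩
  rw [← hx] at hp
  have h1 : p ∣ 2 ^ 10 * 3 ^ 3 * 5 ^ 2 * 7 ^ 3 * 17 := by
    have h3 : (4030387200 : ℕ) = 2 ^ 10 * 3 ^ 3 * 5 ^ 2 * 7 ^ 3 * 17 := by norm_num
    rw [← h3, ← card_he, hx]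
    exact _root_.orderOf_dvd_natCard x
  rcases (Nat.Prime.dvd_mul hp).1 h1 with h1 | h1
  · rcases (Nat.Prime.dvd_mul hp).1 h1 with h1 | h1
    · rcases (Nat.Prime.dvd_mul hp).1 h1 with h1 | h1
      · rcases (Nat.Prime.dvd_mul hp).1 h1 with h1 | h1
        · have h2 := (Nat.prime_dvd_prime_iff_eq hp Nat.prime_two).1 (hp.dvd_of_dvd_pow h1)
          exact good_two H (hx.symm.trans h2)
        · have h2 := (Nat.prime_dvd_prime_iff_eq hp Nat.prime_three).1 (hp.dvd_of_dvd_pow h1)
          exact good_three H (hx.symm.trans h2)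
      · have h2 := (Nat.prime_dvd_prime_iff_eq hp (by norm_num)).1 (hp.dvd_of_dvd_pow h1)
        exact good_five H (hx.symm.trans h2)
    · have h2 := (Nat.prime_dvd_prime_iff_eq hp (by norm_num)).1 (hp.dvd_of_dvd_pow h1)
      exact good_seven H (hx.symm.trans h2)
  · have h2 := (Nat.prime_dvd_prime_iff_eq hp (by norm_num)).1 h1
    exact goodI_of_sq (p := 17) (by norm_num) (by rw [card_he]; norm_num) orderOf_w17
      (goodI_of_genB H c17) x (hx.symm.trans h2)

theorem finite_he : Finite Cfsg.Spor.He := Nat.finite_of_card_ne_zero (by rw [card_he]; norm_num)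

/-! ### No elements of order 9 -/

theorem cube_chk : ((List.range 3).all fun l => (List.range 3).all fun i => (List.range 3).all fun j =>
    chkB (pw (pw W3 l ++ (pw A3 i ++ pw B3 j)) 3) []) = true := by decide +kernel

theorem cube {x : Cfsg.Spor.He} (hx : x ∈ _root_.Subgroup.closure ({wd A3, wd B3} : Set Cfsg.Spor.He)) : x ^ 3 = 1 := by
  obtain ⟨l, i, j, h⟩ := normal_form rel3_ba rel3_aw rel3_bw (by norm_num) rel3_a rel3_b hx
  have hm : ∀ (y : Cfsg.Spor.He) (_ : y ^ 3 = 1) (k : ℕ), y ^ k = y ^ (k % 3) := fun y hy k =>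
    pow_eq_pow_mod k hy
  rw [h, hm _ rel3_w l, hm _ rel3_a i, hm _ rel3_b j]
  have h1 := cube_chk
  rw [List.all_eq_true] at h1
  have h2 := h1 (l % 3) (List.mem_range.2 (Nat.mod_lt _ (by norm_num)))
  rw [List.all_eq_true] at h2
  have h3 := h2 (i % 3) (List.mem_range.2 (Nat.mod_lt _ (by norm_num)))
  rw [List.all_eq_true] at h3
  have h4 := h3 (j % 3) (List.mem_range.2 (Nat.mod_lt _ (by norm_num)))
  have h5 := eq_of_chkB h4
  rwa [wd_pw, wd_append, wd_append, wd_pw, wd_pw, wd_pw, wd_nil] at h5

theorem no_nine (x : Cfsg.Spor.He) (hx : orderOf x = 9) : False := by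
  have h3 : Fact (Nat.Prime 3) := ⟨by norm_num⟩
  have := finite_he
  set Q : Subgroup Cfsg.Spor.He := _root_.Subgroup.closure ({wd A3, wd B3} : Set Cfsg.Spor.He) with hQdef
  have hQ : IsPGroup 3 Q := isPGroup_closure rel3_ba rel3_aw rel3_bw (by norm_num) rel3_a rel3_b rel3_w
  have haQ : wd A3 ∈ Q := Subgroup.subset_closure (by simp)
  have hbQ : wd B3 ∈ Q := Subgroup.subset_closure (by simp)
  have hi : ¬ 3 ∣ Q.index := by
    refine not_dvd_index (n := 3) ?_ (by rw [card_he]; norm_num)
    obtain ⟨n, hn⟩ := IsPGroup.iff_card.1 hQ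
    rw [hn]
    refine pow_dvd_pow 3 ?_
    by_contra h3
    have hcomm : ∀ u v : Q, u * v = v * u := by
      have h4 : n = 0 ∨ n = 1 ∨ n = 2 := by omega
      rcases h4 with rfl | rfl | rfl
      · have : Subsingleton Q := (Nat.card_eq_one_iff_unique.1 (by rw [hn, pow_zero])).1
        intro u v
        exact Subsingleton.elim _ _
      · have : IsCyclic Q := isCyclic_of_prime_card (by rw [hn, pow_one])
        exact (IsCyclic.isMulCommutative (α := Q)).is_comm.comm
      · exact (IsPGroup.isMulCommutative_of_card_eq_prime_sq hn).is_comm.comm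
    have h5 : wd B3 * wd A3 = wd A3 * wd B3 := congrArg Subtype.val (hcomm ⟨_, hbQ⟩ ⟨_, haQ⟩)
    have h6 : wd (B3 ++ A3) = wd (A3 ++ B3) := by rw [wd_append, wd_append, h5]
    exact ne_of_chkB (show chkB (B3 ++ A3) (A3 ++ B3) = false by decide +kernel) h6
  let P : Sylow 3 Cfsg.Spor.He := hQ.toSylow hi
  have hx' : IsPGroup 3 ↥(zpowers x) := IsPGroup.of_card (n := 2) (by rw [Nat.card_zpowers, hx]; norm_num)
  obtain ⟨P', hP'⟩ := hx'.exists_le_sylow
  obtain ⟨g, hg⟩ := MulAction.exists_smul_eq Cfsg.Spor.He P' P
  have h1 : g * x * g⁻¹ ∈ (P : Subgroup Cfsg.Spor.He) := by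
    rw [← hg, Sylow.coe_subgroup_smul]
    exact smul_mem_pointwise_smul x (MulAut.conj g) _ (hP' (mem_zpowers x))
  have h2 := cube h1
  have h4 : x ^ 3 = 1 := by
    rw [conj_pow] at h2
    have h5 : g * x ^ 3 = g := by rw [mul_inv_eq_one] at h2; exact h2
    exact mul_eq_left.1 h5
  have h5 := orderOf_dvd_of_pow_eq_one h4
  rw [hx] at h5
  revert h5
  norm_num

/-! ### Elements of order 9 of `PSL₂(17)` -/

section PSL

open Matrix

variable {F : Type} [Field F]

/-- an element of order 9 (characteristic 17) -/
def mN : _root_.Matrix.SpecialLinearGroup (Fin 2) F := ⟨!![0, -1; 1, 7], by simp [Matrix.det_fin_two]⟩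

theorem mN_cube (h17 : (17 : F) = 0) : ((mN : _root_.Matrix.SpecialLinearGroup (Fin 2) F) ^ 3).1 = !![10, 3; 14, 6] := by
  have h : ((mN : _root_.Matrix.SpecialLinearGroup (Fin 2) F) ^ 3).1 = (mN : _root_.Matrix.SpecialLinearGroup (Fin 2) F).1 *
      ((mN : _root_.Matrix.SpecialLinearGroup (Fin 2) F).1 * (mN : _root_.Matrix.SpecialLinearGroup (Fin 2) F).1) := by
    rw [pow_succ', pow_two]
    rfl
  rw [h]
  ext i j
  (revert i j; simp only [mN, Matrix.mul_apply, Fin.sum_univ_two, _root_.Fin.forall_fin_succ, _root_.Matrix.cons_mul, _root_.Nat.succ_eq_add_one, Nat.reduceAdd, _root_.Matrix.vecMul_cons, _root_.Matrix.head_cons, _root_.zero_smul, _root_.Matrix.tail_cons, _root_.neg_smul, _root_.one_smul, _root_.Matrix.neg_cons, _root_.Matrix.neg_empty, _root_.Matrix.empty_vecMul, _root_.add_zero, _root_.zero_add, _root_.Matrix.smul_cons, _root_.smul_eq_mul, _root_.mul_one, _root_.Matrix.smul_empty, _root_.Matrix.add_cons, _root_.Matrix.empty_add_empty, _root_.Matrix.empty_mul, _root_.Equiv.symm_apply_apply, _root_.Matrix.of_apply,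 _root_.Matrix.cons_val', _root_.Matrix.cons_val_fin_one, Fin.isValue, _root_.Matrix.cons_val_zero, _root_.Matrix.cons_val_one, _root_.mul_neg, _root_.Matrix.cons_val_succ, _root_.forall_const, _root_.neg_zero, _root_.neg_mul, _root_.one_mul, _root_.MulZeroClass.zero_mul, _root_.neg_add_rev, _root_.neg_neg, _root_.and_true, _root_.true_and]) <;> (repeat' with_reducible apply And.intro)
  · linear_combination (-1 : F) * h17
  · linear_combination (-3 : F) * h17
  · linear_combination (2 : F) * h17
  · linear_combination (19 : F) * h17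

theorem mN_nine (h17 : (17 : F) = 0) : (mN : _root_.Matrix.SpecialLinearGroup (Fin 2) F) ^ 9 = 1 := by
  apply Subtype.ext
  have h : ((mN : _root_.Matrix.SpecialLinearGroup (Fin 2) F) ^ 9).1 = ((mN : _root_.Matrix.SpecialLinearGroup (Fin 2) F) ^ 3).1 *
      (((mN : _root_.Matrix.SpecialLinearGroup (Fin 2) F) ^ 3).1 * ((mN : _root_.Matrix.SpecialLinearGroup (Fin 2) F) ^ 3).1) := by
    rw [show (9 : ℕ) = 3 * 3 from rfl, pow_mul, pow_succ' _ 2, pow_two]
    rfl
  rw [h, mN_cube h17]
  ext i j
  (revert i j; simp only [Matrix.mul_apply, Fin.sum_univ_two, _root_.Fin.forall_fin_succ, _root_.Matrix.cons_mul, _root_.Nat.succ_eq_add_one, Nat.reduceAdd, _root_.Matrix.vecMul_cons, _root_.Matrix.head_cons, _root_.Matrix.smul_cons, _root_.smul_eq_mul, _root_.Matrix.smul_empty, _root_.Matrix.tail_cons, _root_.Matrix.empty_vecMul, _root_.add_zero, _root_.Matrix.add_cons, _root_.Matrix.empty_add_empty, _root_.Matrix.empty_mul, _root_.Equiv.symm_apply_apply, _root_.Matrix.of_apply, _root_.Matrix.cons_val', _root_.Matrix.cons_val_fin_one, Fin.isValue,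 _root_.Matrix.cons_val_zero, _root_.Matrix.cons_val_one, _root_.Matrix.SpecialLinearGroup.coe_one, _root_.Matrix.cons_val_succ, _root_.IsEmpty.forall_iff, _root_.Matrix.one_apply_eq, _root_.Fin.succ_zero_eq_one, _root_.ne_eq, _root_.zero_ne_one, _root_.not_false_eq_true, _root_.Matrix.one_apply_ne, _root_.Fin.succ_ne_zero, _root_.and_true, _root_.true_and]) <;> (repeat' with_reducible apply And.intro)
  · linear_combination (123 : F) * h17
  · linear_combination (42 : F) * h17
  · linear_combination (196 : F) * h17
  · linear_combination (67 : F) * h17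

theorem exists_nine [Fintype F] (hF : Fintype.card F = 17) :
    ∃ x : ProjectiveSpecialLinearGroup (Fin 2) F, orderOf x = 9 := by
  have h17 : Fact (Nat.Prime 17) := ⟨by norm_num⟩
  have h3 : Fact (Nat.Prime 3) := ⟨by norm_num⟩
  have hc : CharP F 17 := charP_of_card_eq_prime hF
  have h0 : (17 : F) = 0 := by
    have := CharP.cast_eq_zero F 17
    exact_mod_cast this
  refine ⟨QuotientGroup.mk' _ mN, ?_⟩
  refine orderOf_eq_prime_pow (p := 3) (n := 1) ?_ ?_
  · rw [pow_one, ← map_pow]
    intro h1
    have h2 := (QuotientGroup.eq_one_iff _).1 h1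
    rw [Matrix.SpecialLinearGroup.mem_center_iff] at h2
    obtain ⟨r, -, hr⟩ := h2
    have h4 := congrFun (congrFun hr 1) 0
    rw [mN_cube h0] at h4
    simp at h4
    have h5 : (1 : F) = 0 := by linear_combination (5 : F) * h0 + (6 : F) * h4
    exact one_ne_zero h5
  · rw [← map_pow, show 3 ^ (1 + 1) = 9 from rfl, mN_nine h0, map_one]

end PSL

/-! ### No subgroups normalised by an element of order 17 -/

theorem free17 : Free 17 Cfsg.Spor.He := by
  have hfin := finite_he
  have h17 : Fact (Nat.Prime 17) := ⟨by norm_num⟩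
  obtain ⟨p, y₀, hp, hp5, hy₀, hsq, -, -, hSU⟩ := H679.SpHe.he (G := Cfsg.Spor.He) ⟨MulEquiv.refl _⟩
  have hpd : p ∣ 2 ^ 10 * 3 ^ 3 * 5 ^ 2 * 7 ^ 3 * 17 := by
    have h3 : (4030387200 : ℕ) = 2 ^ 10 * 3 ^ 3 * 5 ^ 2 * 7 ^ 3 * 17 := by norm_num
    rw [← h3, ← card_he, ← hy₀]
    exact _root_.orderOf_dvd_natCard _
  rw [card_he] at hsq
  have hp17 : p = 17 := by
    rcases (Nat.Prime.dvd_mul hp).1 hpd with h1 | h1
    · exfalso
      rcases (Nat.Prime.dvd_mul hp).1 h1 with h1 | h1
      · rcases (Nat.Prime.dvd_mul hp).1 h1 with h1 | h1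
        · rcases (Nat.Prime.dvd_mul hp).1 h1 with h1 | h1
          · have := (Nat.prime_dvd_prime_iff_eq hp Nat.prime_two).1 (hp.dvd_of_dvd_pow h1)
            omega
          · have := (Nat.prime_dvd_prime_iff_eq hp Nat.prime_three).1 (hp.dvd_of_dvd_pow h1)
            omega
        · have := (Nat.prime_dvd_prime_iff_eq hp (by norm_num)).1 (hp.dvd_of_dvd_pow h1)
          subst this
          revert hsq
          norm_num
      · have := (Nat.prime_dvd_prime_iff_eq hp (by norm_num)).1 (hp.dvd_of_dvd_pow h1)
        subst this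
        revert hsq
        norm_num
    · exact (Nat.prime_dvd_prime_iff_eq hp (by norm_num)).1 h1
  subst hp17
  rw [← card_he] at hsq
  intro y hy q hq hq17 R hR hyR
  have hq' : Fact q.Prime := ⟨hq⟩
  obtain ⟨g, hg⟩ := Cfsg.Agent.H257.El.conj_of_cyclic (fun S => Cfsg.Agent.H257.El.cyclic_of_sq hsq S) hy₀ hy
  have hg1 : orderOf (g * y * g⁻¹) = 17 := by
    rw [← hy]
    exact orderOf_injective (MulAut.conj g).toMonoidHom (MulAut.conj g).injective y
  have hgz : zpowers (g * y * g⁻¹) = zpowers y₀ := by
    refine eq_of_le_of_card_ge (by rwa [zpowers_le]) ?_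
    rw [Nat.card_zpowers, Nat.card_zpowers, hg1, hy₀]
  set M₀ : Subgroup Cfsg.Spor.He := R ⊔ zpowers y with hM₀
  have hyM₀ : y ∈ M₀ := (le_sup_right : zpowers y ≤ M₀) (mem_zpowers y)
  have hsol : Group.IsSolvable M₀ := by
    refine SignalizersComponents.CoprimeBasic.isSolvable_sup (by rwa [zpowers_le]) ?_ ?_
    · have := hR.isNilpotent
      infer_instance
    · infer_instance
  set M : Subgroup Cfsg.Spor.He := M₀.map (MulAut.conj g).toMonoidHom with hM
  have hsolM : Group.IsSolvable M :=
    Group.isSolvable_of_surjective (f := (MulAut.conj g).toMonoidHom.subgroupMap M₀)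
      (MonoidHom.subgroupMap_surjective _ _)
  have hmemM : ∀ z ∈ M₀, g * z * g⁻¹ ∈ M := fun z hz => ⟨z, hz, rfl⟩
  have hy₀M : zpowers y₀ ≤ M := by
    rw [← hgz, zpowers_le]
    exact hmemM y hyM₀
  have hcomm : ∀ u ∈ R, u * y * u⁻¹ ∈ zpowers y := by
    intro u hu
    have huM : u ∈ M₀ := (le_sup_left : R ≤ M₀) hu
    have h1 : zpowers (g * (u * y * u⁻¹) * g⁻¹) ≤ M := by
      rw [zpowers_le]
      exact hmemM _ (mul_mem (mul_mem huM hyM₀) (inv_mem huM))
    have ho : orderOf (g * (u * y * u⁻¹) * g⁻¹) = 17 := by
      have h2 := orderOf_injective (MulAut.conj (g * u)).toMonoidHom (MulAut.conj (g * u)).injective y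
      have h3 : (MulAut.conj (g * u)).toMonoidHom y = g * (u * y * u⁻¹) * g⁻¹ := by
        change g * u * y * (g * u)⁻¹ = _
        group
      rw [← h3, h2, hy]
    have h2 := hSU M hsolM (hy₀M (mem_zpowers _)) _ _ h1 hy₀M (by rw [Nat.card_zpowers, ho])
      (by rw [Nat.card_zpowers, hy₀])
    have h3 : g * (u * y * u⁻¹) * g⁻¹ ∈ zpowers (g * y * g⁻¹) := by
      rw [hgz, ← h2]
      exact mem_zpowers _
    obtain ⟨k, hk⟩ := mem_zpowers_iff.1 h3
    refine mem_zpowers_iff.2 ⟨k, ?_⟩
    have h4 : g * y ^ k * g⁻¹ = g * (u * y * u⁻¹) * g⁻¹ := by rw [← hk, conj_zpow]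
    exact mul_left_cancel (mul_right_cancel h4)
  have hinf : ∀ z ∈ R, z ∈ zpowers y → z = 1 := by
    intro z hz hzy
    have h1 : orderOf z ∣ 17 := by
      have := Subgroup.orderOf_dvd_natCard _ hzy
      rwa [Nat.card_zpowers, hy] at this
    rcases (Nat.dvd_prime (by norm_num)).1 h1 with h2 | h2
    · exact orderOf_eq_one_iff.1 h2
    · exfalso
      obtain ⟨b, hb⟩ := IsPGroup.iff_card.1 hR
      have h3 := Subgroup.orderOf_dvd_natCard _ hz
      rw [h2, hb] at h3
      exact hq17 ((Nat.prime_dvd_prime_iff_eq (by norm_num) hq).1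
        ((by norm_num : Nat.Prime 17).dvd_of_dvd_pow h3)).symm
  rw [eq_bot_iff]
  intro u hu
  have h1 : u * y * u⁻¹ * y⁻¹ = 1 := by
    refine hinf _ ?_ (mul_mem (hcomm u hu) (inv_mem (mem_zpowers y)))
    have h2 : u * y * u⁻¹ * y⁻¹ = u * (y * u⁻¹ * y⁻¹) := by group
    rw [h2]
    exact mul_mem hu ((mem_normalizer_iff.1 hyR _).1 (inv_mem hu))
  have h2 : u * y = y * u := by
    calc u * y = (u * y * u⁻¹ * y⁻¹) * y * u := by group
      _ = y * u := by rw [h1, one_mul]
  exact mem_bot.2 (hinf u hu (mem_zpowers_of_comm sc hy h2))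

/-! ### An outer automorphism -/

/-- the diagram automorphism -/
def sg : Gen → Gen
  | .a => .a
  | .b => .b
  | .c => .c
  | .d => .d
  | .e => .e
  | .f => .g
  | .g => .f

theorem sg_sg (x : Gen) : sg (sg x) = x := by cases x <;> rfl

theorem sg_cox (x y : Gen) : (gn (sg x) * gn (sg y)) ^ Cfsg.Spor.coxLabel Cfsg.Spor.He.edges x y = 1 := by
  have h : (gens.all fun x => gens.all fun y =>
      chkB (pw [sg x, sg y] (Cfsg.Spor.coxLabel Cfsg.Spor.He.edges x y)) []) = true := by decide +kernel
  rw [List.all_eq_true] at h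
  have h1 := h x (mem_gens x)
  rw [List.all_eq_true] at h1
  have h2 := eq_of_chkB (h1 y (mem_gens y))
  rwa [wd_pw, wd_nil, wd_cons, wd_one] at h2

theorem sg_rel : ∀ r ∈ Cfsg.Spor.coxRelators Cfsg.Spor.He.edges ∪ {r | r ∈ Cfsg.Spor.He.extra},
    FreeGroup.lift (fun x => gn (sg x)) r = 1 := by
  rintro r (⟨x, -, y, -, rfl⟩ | hr)
  · rw [map_pow, map_mul, FreeGroup.lift_apply_of, FreeGroup.lift_apply_of]
    exact sg_cox x y
  · have hr' : r ∈ Cfsg.Spor.He.extra := hr
    simp only [Cfsg.Spor.He.extra, List.mem_cons, List.not_mem_nil, or_false] at hr'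
    rcases hr' with rfl | rfl | rfl | rfl
    · simp only [map_mul, map_inv, map_pow, FreeGroup.lift_apply_of]
      have h1 := eq_of_chkB (show chkB [.e] (pw [.g, .f] 2) = true by decide +kernel)
      rw [wd_pw, wd_one, wd_cons, wd_one] at h1
      exact mul_inv_eq_one.2 h1
    · simp only [map_mul, map_inv, map_pow, FreeGroup.lift_apply_of]
      have h1 := eq_of_chkB (show chkB [.e] (pw [.a, .b, .c] 3) = true by decide +kernel)
      rw [wd_pw, wd_one, wd_cons, wd_cons, wd_one, ← mul_assoc] at h1
      exact mul_inv_eq_one.2 h1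
    · simp only [map_mul, map_inv, map_pow, FreeGroup.lift_apply_of]
      have h1 := eq_of_chkB (show chkB [.a] (pw [.c, .d] 5) = true by decide +kernel)
      rw [wd_pw, wd_one, wd_cons, wd_one] at h1
      exact mul_inv_eq_one.2 h1
    · simp only [map_mul, map_pow, FreeGroup.lift_apply_of]
      have h1 := eq_of_chkB (show chkB (pw [.c, .d, .g, .f] 4) [] = true by decide +kernel)
      rw [wd_pw, wd_nil, wd_cons, wd_cons, wd_cons, wd_one, ← mul_assoc, ← mul_assoc] at h1
      exact h1

/-- the homomorphism -/
noncomputable def sgHom : Cfsg.Spor.He →* Cfsg.Spor.He := PresentedGroup.toGroup sg_rel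

theorem sgHom_gn (x : Gen) : sgHom (gn x) = gn (sg x) := PresentedGroup.toGroup.of sg_rel

theorem sgHom_wd (w : List Gen) : sgHom (wd w) = wd (w.map sg) := by
  induction w with
  | nil => rw [wd_nil, map_one, List.map_nil, wd_nil]
  | cons x w ih => rw [wd_cons, map_mul, ih, sgHom_gn, List.map_cons, wd_cons]

theorem sgHom_sgHom (x : Cfsg.Spor.He) : sgHom (sgHom x) = x := by
  have h : sgHom.comp sgHom = MonoidHom.id _ := by
    refine PresentedGroup.ext fun y => ?_
    change sgHom (sgHom (gn y)) = gn y
    rw [sgHom_gn, sgHom_gn, sg_sg]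
  exact DFunLike.congr_fun h x

/-- the automorphism -/
noncomputable def sgm : MulAut Cfsg.Spor.He where
  toFun := sgHom
  invFun := sgHom
  left_inv := sgHom_sgHom
  right_inv := sgHom_sgHom
  map_mul' := map_mul sgHom

/-- the element of order 17 -/
def X0 : List Gen := [.g, .d, .c, .b]

/-- the conjugating element -/
def H0 : List Gen := [.e, .d, .c, .d, .f, .g, .e, .c, .b, .c, .d, .f, .g, .e, .d, .c, .d, .g, .d, .g, .f, .g,
  .d, .e, .d, .f, .g, .d, .a, .b, .d, .c, .f, .g, .d, .e, .g, .f, .d, .e, .f]

theorem orderOf_X0 : orderOf (wd X0) = 17 := by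
  have h17 : Fact (Nat.Prime 17) := ⟨by norm_num⟩
  refine orderOf_eq_prime ?_ ?_
  · have h1 := eq_of_chkB (show chkB (pw X0 17) [] = true by decide +kernel)
    rwa [wd_pw, wd_nil] at h1
  · rw [← wd_nil]
    exact ne_of_chkB (by decide +kernel)

/-- the outer automorphism -/
noncomputable def tau : MulAut Cfsg.Spor.He := MulAut.conj (wd H0) * sgm

theorem tau_X0 : tau (wd X0) = wd X0 ^ 11 := by
  change wd H0 * sgHom (wd X0) * (wd H0)⁻¹ = _
  rw [sgHom_wd, mul_inv_eq_iff_eq_mul]
  have h1 := eq_of_chkB (show chkB (H0 ++ X0.map sg) (pw X0 11 ++ H0) = true by decide +kernel)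
  rwa [wd_append, wd_append, wd_pw] at h1

/-! ### The action on `⟨x₀⟩` -/

theorem pow_of_norm {G : Type*} [Group G] [Finite G] {s c : G} {e i : ℕ} (hs : orderOf s = 17) {N : Subgroup G}
    (hcard : Nat.card (normalizer ((zpowers s : Subgroup G) : Set G) ⊓ N : Subgroup G) = 17 * e) (hc : c ∈ N)
    (h : c * s * c⁻¹ = s ^ i) : (i : ZMod 17) ^ e = 1 := by
  have h17 : Fact (Nat.Prime 17) := ⟨by norm_num⟩
  have h1 : (zpowers s).map (MulAut.conj c).toMonoidHom = zpowers s := by
    refine eq_of_le_of_card_ge ?_ (by rw [card_map_of_injective (MulAut.conj c).injective])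
    rw [MonoidHom.map_zpowers, zpowers_le]
    change c * s * c⁻¹ ∈ zpowers s
    rw [h]
    exact pow_mem (mem_zpowers s) i
  have hcn : c ∈ normalizer ((zpowers s : Subgroup G) : Set G) := by
    rw [mem_normalizer_iff]
    intro y
    constructor
    · intro hy
      rw [← h1]
      exact ⟨y, hy, rfl⟩
    · intro hy
      rw [← h1] at hy
      obtain ⟨z, hz, hzy⟩ := hy
      have : z = y := (MulAut.conj c).injective hzy
      rwa [← this]
  have h2 : c ^ (17 * e) = 1 := by
    have h3 := Subgroup.orderOf_dvd_natCard _ (mem_inf.2 ⟨hcn, hc⟩)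
    rw [hcard] at h3
    exact orderOf_dvd_iff_pow_eq_one.1 h3
  have h3 : ∀ k : ℕ, c ^ k * s * (c ^ k)⁻¹ = s ^ (i ^ k) := by
    intro k
    induction k with
    | zero => simp
    | succ k ih =>
      have h4 : c ^ (k + 1) * s * (c ^ (k + 1))⁻¹ = c * (c ^ k * s * (c ^ k)⁻¹) * c⁻¹ := by
        rw [pow_succ']
        group
      rw [h4, ih, ← conj_pow, h, ← pow_mul, ← pow_succ']
  have h4 := h3 (17 * e)
  rw [h2, one_mul, inv_one, mul_one] at h4
  have h5 : i ^ (17 * e) ≡ 1 [MOD 17] := by
    rw [← hs, ← pow_eq_pow_iff_modEq, pow_one, hs, ← h4]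
  rw [← ZMod.natCast_eq_natCast_iff] at h5
  push_cast at h5
  rw [mul_comm, pow_mul, ZMod.pow_card] at h5
  exact h5

theorem pow_inner {g : Cfsg.Spor.He} {i : ℕ} (h : g * wd X0 * g⁻¹ = wd X0 ^ i) : (i : ZMod 17) ^ 8 = 1 := by
  have := finite_he
  refine pow_of_norm orderOf_X0 (N := ⊤) ?_ (mem_top _) h
  rw [card_norm_inf (by norm_num) (by rw [card_he]; norm_num) sc orderOf_X0 (mem_top _)
    (by rw [card_top, card_he]; norm_num), card_top, card_he]

theorem tau_ne (g : Cfsg.Spor.He) : tau ≠ MulAut.conj g := by
  intro h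
  have h1 : g * wd X0 * g⁻¹ = wd X0 ^ 11 := by
    rw [← tau_X0, h]
    rfl
  have h2 := pow_inner h1
  revert h2
  decide

theorem pow_outer {b : MulAut Cfsg.Spor.He} (hb : ∀ g : Cfsg.Spor.He, b ≠ MulAut.conj g) {i : ℕ}
    (h : b (wd X0) = wd X0 ^ i) : (i : ZMod 17) ^ 8 = -1 := by
  have hbn : b ∉ (MulAut.conj : Cfsg.Spor.He →* MulAut Cfsg.Spor.He).range := fun ⟨g, hg⟩ => hb g hg.symm
  rcases Cfsg.Agent.KFacts.He.Outer.index_le_two (K := Cfsg.Spor.He) ⟨MulEquiv.refl _⟩ with h1 | h1
  · exfalso
    apply hbn
    rw [Subgroup.index_eq_one.1 h1]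
    exact mem_top _
  · have h2 : tau * b ∈ (MulAut.conj : Cfsg.Spor.He →* MulAut Cfsg.Spor.He).range := by
      rw [Subgroup.mul_mem_iff_of_index_two h1]
      exact ⟨fun ⟨g, hg⟩ => absurd hg.symm (tau_ne g), fun h => absurd h hbn⟩
    obtain ⟨g, hg⟩ := h2
    have h3 : g * wd X0 * g⁻¹ = wd X0 ^ (11 * i) := by
      have h4 : g * wd X0 * g⁻¹ = (MulAut.conj g) (wd X0) := rfl
      rw [h4, hg, MulAut.mul_apply, h, map_pow, tau_X0, ← pow_mul]
    have h4 := pow_inner h3
    push_cast at h4
    rw [mul_pow, show (11 : ZMod 17) ^ 8 = -1 by decide] at h4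
    linear_combination -h4

theorem surv_chk : ∀ g ∈ Cfsg.Agent.H257.El.surv 4030387200 fl 17 [],
    Cfsg.Agent.OrdDiv.ordN g ≠ 17 ∧ ((Cfsg.Agent.OrdDiv.ordN g / 17) % 17 ∣ 4 ∨ g = Cfsg.Agent.OrdDiv.Grp.psl 2 17) := by
  decide +kernel

theorem one_ne : (1 : ZMod 17) ≠ -1 := by decide

/-- **The outer involutory automorphisms.** -/
theorem good_outer (known : Cfsg.Agent.H257.El.Known.{0}) {a : MulAut Cfsg.Spor.He} (haa : a * a = 1)
    (hne : ∀ g : Cfsg.Spor.He, a ≠ MulAut.conj g) : GoodA a := by
  have hfin := finite_he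
  have h17 : Fact (Nat.Prime 17) := ⟨by norm_num⟩
  obtain ⟨hv, -, -, hsq, -⟩ := of_chkN chk_n
  have hsq' : ¬ 17 ^ 2 ∣ Nat.card Cfsg.Spor.He := by rwa [card_he]
  refine ⟨wd X0, fun K hxK hK => ?_⟩
  by_contra hKt
  set s : Cfsg.Spor.He := wd X0 with hsdef
  have hs : orderOf s = 17 := orderOf_X0
  have has : orderOf (a s) = 17 := by rw [MulEquiv.orderOf_eq, hs]
  have haas : ∀ y, a (a y) = y := fun y => by
    rw [← MulAut.mul_apply, haa, MulAut.one_apply]
  have hpow : ∀ z ∈ zpowers s, ∃ i : ℕ, z = s ^ i := by
    intro z hz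
    obtain ⟨i, hi⟩ := (isOfFinOrder_of_finite s).mem_powers_iff_mem_zpowers.2 hz
    exact ⟨i, hi.symm⟩
  rcases cases Cfsg.Agent.OrdDiv.table known card_he hv (by norm_num) hsq free17 hs hKt hxK with h | ⟨N, hN⟩
  · have h1 : a s ∈ zpowers s := by
      refine mem_of_norm (r := 17) (by norm_num) hsq' (by rw [Nat.card_zpowers, hs]) has (h (hK _ hxK))
    obtain ⟨i, hi⟩ := hpow _ h1
    have h8 := pow_outer hne hi
    have h2 : s ^ (i * i) = s ^ 1 := by
      rw [pow_mul, ← hi, ← map_pow, ← hi, haas, pow_one]
    have h3 : i * i ≡ 1 [MOD 17] := by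
      rw [pow_eq_pow_iff_modEq, hs] at h2
      exact h2
    rw [← ZMod.natCast_eq_natCast_iff] at h3
    push_cast at h3
    have h4 : (i : ZMod 17) ^ 8 = 1 := by
      calc (i : ZMod 17) ^ 8 = ((i : ZMod 17) * i) ^ 4 := by ring
        _ = 1 := by rw [h3, one_pow]
    rw [h4] at h8
    exact one_ne h8
  · have hsN := hN.mem
    have h17N : 17 ∣ Nat.card N := by
      have := Subgroup.orderOf_dvd_natCard _ hsN
      rwa [hs] at this
    have hasN : a s ∈ N := mem_of_norm (r := 17) (by norm_num) hsq' h17N has (hN.le_norm (hK _ hxK))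
    -- `a N = N`
    set M : Subgroup Cfsg.Spor.He := N.map a.toMonoidHom with hM
    have hMK : M ≤ K := by
      rintro _ ⟨y, hy, rfl⟩
      exact hK y (hN.le hy)
    have hcM : Nat.card M = Nat.card N := card_map_of_injective a.injective
    have hMs : IsSimpleGroup M := by
      have := hN.simple
      have e : N ≃* M := N.equivMapOfInjective a.toMonoidHom a.injective
      have : Nontrivial M := e.symm.toEquiv.nontrivial
      exact IsSimpleGroup.isSimpleGroup_of_surjective e.toMonoidHom e.surjective
    have hnm : (N.subgroupOf M).Normal := ⟨fun n hn m => by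
      rw [mem_subgroupOf] at hn ⊢
      exact (mem_normalizer_iff.1 (hN.le_norm (hMK m.2)) _).1 hn⟩
    have hMN : M ≤ N := by
      rcases hMs.eq_bot_or_eq_top_of_normal _ hnm with h1 | h1
      · exfalso
        have h2 : (⟨a s, ⟨s, hsN, rfl⟩⟩ : M) ∈ N.subgroupOf M := mem_subgroupOf.2 hasN
        rw [h1, mem_bot] at h2
        have h3 : a s = 1 := congrArg Subtype.val h2
        rw [h3, orderOf_one] at has
        exact absurd has (by norm_num)
      · exact subgroupOf_eq_top.1 h1
    -- conjugate in `N`
    have hsqN : ¬ 17 ^ 2 ∣ Nat.card N := fun h => hsq' (h.trans (card_subgroup_dvd_card N))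
    obtain ⟨m, hm⟩ := Cfsg.Agent.H257.El.conj_of_cyclic
      (fun S => Cfsg.Agent.H257.El.cyclic_of_sq hsqN S) (x := (⟨s, hsN⟩ : N)) (y := ⟨a s, hasN⟩)
      (by rw [Subgroup.orderOf_mk, hs]) (by rw [Subgroup.orderOf_mk, has])
    have hm' : (m : Cfsg.Spor.He) * a s * (m : Cfsg.Spor.He)⁻¹ ∈ zpowers s := by
      obtain ⟨k, hk⟩ := mem_zpowers_iff.1 hm
      exact mem_zpowers_iff.2 ⟨k, congrArg Subtype.val hk⟩
    obtain ⟨i, hi⟩ := hpow _ hm'
    have h8 : (i : ZMod 17) ^ 8 = -1 := by
      refine pow_outer (b := MulAut.conj (m : Cfsg.Spor.He) * a) (fun g hg => ?_) hi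
      refine hne ((m : Cfsg.Spor.He)⁻¹ * g) ?_
      rw [map_mul, ← hg, ← mul_assoc, ← map_mul, inv_mul_cancel, map_one, one_mul]
    have hc : (m : Cfsg.Spor.He) * a m ∈ N := mul_mem m.2 (hMN ⟨m, m.2, rfl⟩)
    have hcs : ((m : Cfsg.Spor.He) * a m) * s * ((m : Cfsg.Spor.He) * a m)⁻¹ = s ^ (i * i) := by
      have h1 : a ((m : Cfsg.Spor.He) * a s * (m : Cfsg.Spor.He)⁻¹) = a m * s * (a m)⁻¹ := by
        rw [map_mul, map_mul, map_inv, haas]
      calc ((m : Cfsg.Spor.He) * a m) * s * ((m : Cfsg.Spor.He) * a m)⁻¹
          = (m : Cfsg.Spor.He) * (a m * s * (a m)⁻¹) * (m : Cfsg.Spor.He)⁻¹ := by group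
        _ = (m : Cfsg.Spor.He) * (a s) ^ i * (m : Cfsg.Spor.He)⁻¹ := by rw [← h1, hi, map_pow]
        _ = s ^ (i * i) := by rw [← conj_pow, hi, ← pow_mul]
    obtain ⟨g, hg, hgr, hgc⟩ := hN.real
    obtain ⟨hg1, hg2⟩ := surv_chk g hg
    have hcard := card_norm_inf (by norm_num) hsq' sc hs hsN (by rw [hgc]; exact hg1)
    have h5 := pow_of_norm hs hcard hc hcs
    rw [hgc] at h5
    rcases hg2 with ⟨t, ht⟩ | hg2
    · have h6 : ((i * i : ℕ) : ZMod 17) ^ 4 = 1 := by rw [ht, pow_mul, h5, one_pow]
      push_cast at h6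
      have h7 : (i : ZMod 17) ^ 8 = 1 := by
        rw [← h6]
        ring
      rw [h7] at h8
      exact one_ne h8
    · subst hg2
      obtain ⟨F, _, _, hF, ⟨e⟩⟩ := hgr
      obtain ⟨x, hx⟩ := exists_nine hF
      refine no_nine ((e.symm x : N) : Cfsg.Spor.He) ?_
      rw [Subgroup.orderOf_coe, MulEquiv.orderOf_eq, hx]

theorem spr_model (known : Cfsg.Agent.H257.El.Known.{0}) : Cfsg.Agent.H424.Spr.Spr Cfsg.Spor.He := by
  have := finite_he
  have : IsSimpleGroup Cfsg.Spor.He := Cfsg.Agent.S1695.result.1
  refine spr_of_out_two (exists_not_comm card_he (by norm_num)) (fun g hg => good_inner (oinc known) hg) (fun a => ?_)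
    (fun a ha hne => good_outer known (by rw [← pow_two, ← ha, pow_orderOf_eq_one]) hne)
  obtain ⟨g, hg⟩ := Cfsg.Agent.KFacts.He.Outer.sq_inner (K := Cfsg.Spor.He) ⟨MulEquiv.refl _⟩ a
  exact ⟨g, hg.symm⟩

/-- **3/2-generation of the Held group** -/
theorem spr_he (known : Cfsg.Agent.H257.El.Known.{0}) {T : Type} [Group T] [Finite T] (h : Spor.IsoHe T) :
    Cfsg.Agent.H424.Spr.Spr T := by
  obtain ⟨e⟩ := h
  exact Cfsg.Agent.H424.Spr.Spr.congr e.symm (spr_model known)

end Cfsg.Agent.H328.SprHe
end

-- part: H680/Split/HNTb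
section
/-! The kernel check of `Cfsg.Agent.H315.Spr.HNTb`, one check for each segment of the program (helper680). -/

set_option autoImplicit false
set_option maxRecDepth 100000
set_option Elab.async false

namespace Cfsg.Agent.H680.Split.HNTb

open Cfsg.Agent.H154.Split
open Cfsg.Agent.HN.RepData (C)
open Cfsg.Agent.HN.A12Step (L20)
open Cfsg.Agent.H680.Split.HNPre (D0 D1 D2 D3 D5 D6 D8 D11 D12 D13 D18 D22 D23 S0 S1 S2 c0 c1 c2)

/-- segment 3 -/
def S3 : Seg where
  ws := [
    (48, [50, 0, 51, 49, 10, 1]),
    (0, [0]),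
    (0, [0]),
    (0, [0]),
    (0, [0]),
    (0, [3, 4]),
    (50, [54, 6, 55, 51, 16, 7, 7]),
    (0, [0]),
    (0, [0]),
    (0, [0]),
    (0, [0]),
    (0, [3, 4])]
  m := [0, 0, 0, 0, 0, 0, 0, 0, 0, 0, 0, 0]
  N := [0, 0, 0, 0, 0, 0, 0, 0, 0, 0, 0, 0]
  es := [(6, 35), (0, 35)]
  ns := []

/-- segment 4 -/
def S4 : Seg where
  ws := [
    (59, [12, 58, 17]),
    (0, [0]),
    (0, [0]),
    (0, [0]),
    (0, [0]),
    (0, [3, 4]),
    (68, [66, 18, 67, 69, 23, 42]),
    (0, [0]),
    (0, [0]),
    (0, [0]),
    (0, [0]),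
    (0, [3, 4])]
  m := [0, 0, 0, 0, 0, 0, 0, 0, 0, 0, 0, 0]
  N := [0, 0, 0, 0, 0, 0, 0, 0, 0, 0, 0, 0]
  es := [(6, 47), (0, 47)]
  ns := []

/-- segment 5 -/
def S5 : Seg where
  ws := [
    (72, [24, 73, 29, 48, 48]),
    (0, [0]),
    (0, [0]),
    (0, [0]),
    (0, [0]),
    (0, [3, 4]),
    (78, [30, 79, 35, 31]),
    (0, [0]),
    (0, [0]),
    (0, [0]),
    (0, [0]),
    (0, [3, 4])]
  m := [0, 0, 0, 0, 0, 0, 0, 0, 0, 0, 0, 0]
  N := [0, 0, 0, 0, 0, 0, 0, 0, 0, 0, 0, 0]
  es := [(6, 59), (0, 59)]
  ns := []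

/-- segment 6 -/
def S6 : Seg where
  ws := [
    (82, [36, 83, 41, 37, 60]),
    (0, [0]),
    (0, [0]),
    (0, [0]),
    (0, [0]),
    (0, [3, 4]),
    (86, [86, 42, 87, 87, 47, 43, 66, 66]),
    (0, [0]),
    (0, [0]),
    (0, [0]),
    (0, [0]),
    (0, [3, 4])]
  m := [0, 0, 0, 0, 0, 0, 0, 0, 0, 0, 0, 0]
  N := [0, 0, 0, 0, 0, 0, 0, 0, 0, 0, 0, 0]
  es := [(6, 71), (0, 71)]
  ns := []

/-- segment 7 -/
def S7 : Seg where
  ws := [
    (98, [48, 99, 53, 49, 49]),
    (0, [0]),
    (0, [0]),
    (0, [0]),
    (0, [0]),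
    (0, [3, 4]),
    (98, [102, 54, 103, 99, 59, 55, 55, 78]),
    (0, [0]),
    (0, [0]),
    (0, [0]),
    (0, [0]),
    (0, [3, 4])]
  m := [0, 0, 0, 0, 0, 0, 0, 0, 0, 0, 0, 0]
  N := [0, 0, 0, 0, 0, 0, 0, 0, 0, 0, 0, 0]
  es := [(6, 83), (0, 83)]
  ns := []

/-- segment 8 -/
def S8 : Seg where
  ws := [
    (107, [60, 106, 65, 70, 61, 61]),
    (0, [0]),
    (0, [0]),
    (0, [0]),
    (0, [0]),
    (0, [3, 4])]
  m := [0, 0, 0, 0, 0, 0]
  N := [0, 0, 0, 0, 0, 0]
  es := [(0, 89)]
  ns := []

theorem c3 : segC C S3 (S2.N ++ (S1.N ++ (S0.N ++ (L20)))) = true := by (rewrite [show @Cfsg.Agent.H154.Split.segC = delta% @Cfsg.Agent.H154.Split.segC from by delta Cfsg.Agent.H154.Split.segC; rfl, Cfsg.Agent.Lib.PackCol.withM_col]; decide +kernel)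
theorem c4 : segC C S4 (S3.N ++ (S2.N ++ (S1.N ++ (S0.N ++ (L20))))) = true := by (rewrite [show @Cfsg.Agent.H154.Split.segC = delta% @Cfsg.Agent.H154.Split.segC from by delta Cfsg.Agent.H154.Split.segC; rfl, Cfsg.Agent.Lib.PackCol.withM_col]; decide +kernel)
theorem c5 : segC C S5 (S4.N ++ (S3.N ++ (S2.N ++ (S1.N ++ (S0.N ++ (L20)))))) = true := by (rewrite [show @Cfsg.Agent.H154.Split.segC = delta% @Cfsg.Agent.H154.Split.segC from by delta Cfsg.Agent.H154.Split.segC; rfl, Cfsg.Agent.Lib.PackCol.withM_col]; decide +kernel)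
theorem c6 : segC C S6 (S5.N ++ (S4.N ++ (S3.N ++ (S2.N ++ (S1.N ++ (S0.N ++ (L20))))))) = true := by (rewrite [show @Cfsg.Agent.H154.Split.segC = delta% @Cfsg.Agent.H154.Split.segC from by delta Cfsg.Agent.H154.Split.segC; rfl, Cfsg.Agent.Lib.PackCol.withM_col]; decide +kernel)
theorem c7 : segC C S7 (S6.N ++ (S5.N ++ (S4.N ++ (S3.N ++ (S2.N ++ (S1.N ++ (S0.N ++ (L20)))))))) = true := by (rewrite [show @Cfsg.Agent.H154.Split.segC = delta% @Cfsg.Agent.H154.Split.segC from by delta Cfsg.Agent.H154.Split.segC; rfl, Cfsg.Agent.Lib.PackCol.withM_col]; decide +kernel)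
theorem c8 : segC C S8 (S7.N ++ (S6.N ++ (S5.N ++ (S4.N ++ (S3.N ++ (S2.N ++ (S1.N ++ (S0.N ++ (L20))))))))) = true := by (rewrite [show @Cfsg.Agent.H154.Split.segC = delta% @Cfsg.Agent.H154.Split.segC from by delta Cfsg.Agent.H154.Split.segC; rfl, Cfsg.Agent.Lib.PackCol.withM_col]; decide +kernel)

/-- the segments -/
def segs : List Seg := [S0, S1, S2, S3, S4, S5, S6, S7, S8]

theorem chain : Chain C L20 segs := ⟨c0, c1, c2, c3, c4, c5, c6, c7, c8, trivial⟩

end Cfsg.Agent.H680.Split.HNTb
end

-- part: H315/Spr/HNTb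
section
/-!
# Elements of order 3, part 2 (helper315, for S3938, row `HN`)
-/

set_option autoImplicit false
set_option maxRecDepth 100000

namespace Cfsg.Agent.H315.SpHN.Tb

open Cfsg.Agent.HN Cfsg.Agent.Lib.PackMatMul Cfsg.Agent.HN.RepData Cfsg.Agent.H285.HN3 Cfsg.Agent.H315.SpHN.T3
open Cfsg.Agent.HN.A12Step (L20)

/-- the program -/
def own : List (ℕ × List ℕ) := [
  (46, [43, 45, 50, 47, 46, 44]),
  (48, [50, 0, 51, 49, 10, 1]),
  (0, [0]),
  (0, [0]),
  (0, [0]),
  (0, [0]),
  (0, [3, 4]),
  (50, [54, 6, 55, 51, 16, 7, 7]),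
  (0, [0]),
  (0, [0]),
  (0, [0]),
  (0, [0]),
  (0, [3, 4]),
  (59, [12, 58, 17]),
  (0, [0]),
  (0, [0]),
  (0, [0]),
  (0, [0]),
  (0, [3, 4]),
  (68, [66, 18, 67, 69, 23, 42]),
  (0, [0]),
  (0, [0]),
  (0, [0]),
  (0, [0]),
  (0, [3, 4]),
  (72, [24, 73, 29, 48, 48]),
  (0, [0]),
  (0, [0]),
  (0, [0]),
  (0, [0]),
  (0, [3, 4]),
  (78, [30, 79, 35, 31]),
  (0, [0]),
  (0, [0]),
  (0, [0]),
  (0, [0]),
  (0, [3, 4]),
  (82, [36, 83, 41, 37, 60]),
  (0, [0]),
  (0, [0]),
  (0, [0]),
  (0, [0]),
  (0, [3, 4]),
  (86, [86, 42, 87, 87, 47, 43, 66, 66]),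
  (0, [0]),
  (0, [0]),
  (0, [0]),
  (0, [0]),
  (0, [3, 4]),
  (98, [48, 99, 53, 49, 49]),
  (0, [0]),
  (0, [0]),
  (0, [0]),
  (0, [0]),
  (0, [3, 4]),
  (98, [102, 54, 103, 99, 59, 55, 55, 78]),
  (0, [0]),
  (0, [0]),
  (0, [0]),
  (0, [0]),
  (0, [3, 4]),
  (107, [60, 106, 65, 70, 61, 61]),
  (0, [0]),
  (0, [0]),
  (0, [0]),
  (0, [0]),
  (0, [3, 4])]

/-- the program with the prefix -/
def pr : List (ℕ × List ℕ) := pre ++ own

/-- the equalities -/
def es : List (ℕ × ℕ) := [(60, 89), (54, 89), (48, 89), (42, 89), (36, 89), (30, 89), (24, 89), (18, 89), (12, 89), (6, 89), (0, 89)]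

/-- the inequalities -/
def ns : List (ℕ × ℕ) := []

theorem chk : checkS C pr es ns L20 = true :=
  Cfsg.Agent.H154.Split.checkS_of_segs 28 Cfsg.Agent.H680.Split.HNTb.segs rfl (by decide +kernel)
    Cfsg.Agent.H680.Split.HNTb.chain

theorem snd : (∀ q ∈ es, S3 pr q.1 = S3 pr q.2) ∧ (∀ q ∈ ns, S3 pr q.1 ≠ S3 pr q.2) := sound3 chk (by decide)

theorem g (j : ℕ) : S3 pr (67 + j) = R (62 + j) := pre3 own j

theorem gA : S3 pr 71 = A := g 4
theorem gB : S3 pr 76 = B := g 9
theorem gC : S3 pr 67 = C₁ := g 0
theorem gD : S3 pr 90 = D := g 23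
theorem gx : S3 pr 110 = Rep.x := (g 43).trans (genR 0)
theorem gxi : S3 pr 111 = Rep.x⁻¹ := (g 44).trans (genR 1)
theorem gy : S3 pr 112 = Rep.y := (g 45).trans (genR 2)
theorem gyi : S3 pr 113 = Rep.y⁻¹ := (g 46).trans (genR 3)
theorem gz : S3 pr 114 = Rep.z := (g 47).trans (genR 4)
theorem gzi : S3 pr 115 = Rep.z⁻¹ := (g 48).trans (genR 5)
theorem gt : S3 pr 116 = Rep.t := (g 49).trans (genR 6)
theorem gti : S3 pr 117 = Rep.t⁻¹ := (g 50).trans (genR 7)
theorem g1 : S3 pr 89 = 1 := (g 22).trans one_eq

/-- the element of order `11` -/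
noncomputable def u : Cfsg.Spor.HN := Rep.y⁻¹ * (Rep.x * (Rep.y * (Rep.t⁻¹ * (Rep.z * (Rep.y⁻¹ * (Rep.x⁻¹))))))

theorem u_eq : S3 pr 66 = u := by
  have h := step3 (p := pr) (i := 66) (w := [46, 43, 45, 50, 47, 46, 44]) (by decide) (by rfl)
  simp only [evF, mul_one] at h
  rw [h]
  show S3 pr 113 * (S3 pr 110 * (S3 pr 112 * (S3 pr 117 * (S3 pr 114 * (S3 pr 113 * (S3 pr 111)))))) = _
  rw [gyi, gx, gy, gti, gz, gxi, u]
theorem v_v0110 : S3 pr 65 = Rep.z * (Rep.t * (u * (Rep.t⁻¹ * (Rep.z⁻¹ * (B * (C₁)))))) := by
  have h := step3 (p := pr) (i := 65) (w := [48, 50, 0, 51, 49, 10, 1]) (by decide) (by rfl)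
  simp only [evF, mul_one] at h
  rw [h]
  show S3 pr 114 * (S3 pr 116 * (S3 pr 66 * (S3 pr 117 * (S3 pr 115 * (S3 pr 76 * (S3 pr 67)))))) = _
  rw [gz, gt, u_eq, gti, gzi, gB, gC]
theorem s2_v0110 : S3 pr 64 = S3 pr 65 * S3 pr 65 := by
  have h := step3 (p := pr) (i := 64) (w := [0, 0]) (by decide) (by rfl)
  simp only [evF, mul_one] at h
  rw [h]
theorem s4_v0110 : S3 pr 63 = S3 pr 64 * S3 pr 64 := by
  have h := step3 (p := pr) (i := 63) (w := [0, 0]) (by decide) (by rfl)
  simp only [evF, mul_one] at h
  rw [h]
theorem s8_v0110 : S3 pr 62 = S3 pr 63 * S3 pr 63 := by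
  have h := step3 (p := pr) (i := 62) (w := [0, 0]) (by decide) (by rfl)
  simp only [evF, mul_one] at h
  rw [h]
theorem s16_v0110 : S3 pr 61 = S3 pr 62 * S3 pr 62 := by
  have h := step3 (p := pr) (i := 61) (w := [0, 0]) (by decide) (by rfl)
  simp only [evF, mul_one] at h
  rw [h]
theorem r_v0110 : (Rep.z * (Rep.t * (u * (Rep.t⁻¹ * (Rep.z⁻¹ * (B * (C₁))))))) ^ 19 = 1 := by
  have h := step3 (p := pr) (i := 60) (w := [0, 3, 4]) (by decide) (by rfl)
  simp only [evF, mul_one] at h
  have h1 : S3 pr 60 = S3 pr 61 * (S3 pr 64 * S3 pr 65) := h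
  have h2 : S3 pr 60 = S3 pr 89 := snd.1 (60, 89) (by decide)
  rw [h1, g1, s16_v0110, s8_v0110, s4_v0110, s2_v0110, v_v0110] at h2
  simpa only [pow_succ, pow_zero, one_mul, mul_assoc] using h2

theorem v_v0120 : S3 pr 59 = Rep.x * (Rep.z * (u * (Rep.z⁻¹ * (Rep.x⁻¹ * (B * (C₁ * (C₁))))))) := by
  have h := step3 (p := pr) (i := 59) (w := [50, 54, 6, 55, 51, 16, 7, 7]) (by decide) (by rfl)
  simp only [evF, mul_one] at h
  rw [h]
  show S3 pr 110 * (S3 pr 114 * (S3 pr 66 * (S3 pr 115 * (S3 pr 111 * (S3 pr 76 * (S3 pr 67 * (S3 pr 67))))))) = _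
  rw [gx, gz, u_eq, gzi, gxi, gB, gC]
theorem s2_v0120 : S3 pr 58 = S3 pr 59 * S3 pr 59 := by
  have h := step3 (p := pr) (i := 58) (w := [0, 0]) (by decide) (by rfl)
  simp only [evF, mul_one] at h
  rw [h]
theorem s4_v0120 : S3 pr 57 = S3 pr 58 * S3 pr 58 := by
  have h := step3 (p := pr) (i := 57) (w := [0, 0]) (by decide) (by rfl)
  simp only [evF, mul_one] at h
  rw [h]
theorem s8_v0120 : S3 pr 56 = S3 pr 57 * S3 pr 57 := by
  have h := step3 (p := pr) (i := 56) (w := [0, 0]) (by decide) (by rfl)
  simp only [evF, mul_one] at h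
  rw [h]
theorem s16_v0120 : S3 pr 55 = S3 pr 56 * S3 pr 56 := by
  have h := step3 (p := pr) (i := 55) (w := [0, 0]) (by decide) (by rfl)
  simp only [evF, mul_one] at h
  rw [h]
theorem r_v0120 : (Rep.x * (Rep.z * (u * (Rep.z⁻¹ * (Rep.x⁻¹ * (B * (C₁ * (C₁)))))))) ^ 19 = 1 := by
  have h := step3 (p := pr) (i := 54) (w := [0, 3, 4]) (by decide) (by rfl)
  simp only [evF, mul_one] at h
  have h1 : S3 pr 54 = S3 pr 55 * (S3 pr 58 * S3 pr 59) := h
  have h2 : S3 pr 54 = S3 pr 89 := snd.1 (54, 89) (by decide)
  rw [h1, g1, s16_v0120, s8_v0120, s4_v0120, s2_v0120, v_v0120] at h2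
  simpa only [pow_succ, pow_zero, one_mul, mul_assoc] using h2

theorem v_v1000 : S3 pr 53 = Rep.y⁻¹ * (u * (Rep.y * (A))) := by
  have h := step3 (p := pr) (i := 53) (w := [59, 12, 58, 17]) (by decide) (by rfl)
  simp only [evF, mul_one] at h
  rw [h]
  show S3 pr 113 * (S3 pr 66 * (S3 pr 112 * (S3 pr 71))) = _
  rw [gyi, u_eq, gy, gA]
theorem s2_v1000 : S3 pr 52 = S3 pr 53 * S3 pr 53 := by
  have h := step3 (p := pr) (i := 52) (w := [0, 0]) (by decide) (by rfl)
  simp only [evF, mul_one] at h
  rw [h]
theorem s4_v1000 : S3 pr 51 = S3 pr 52 * S3 pr 52 := by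
  have h := step3 (p := pr) (i := 51) (w := [0, 0]) (by decide) (by rfl)
  simp only [evF, mul_one] at h
  rw [h]
theorem s8_v1000 : S3 pr 50 = S3 pr 51 * S3 pr 51 := by
  have h := step3 (p := pr) (i := 50) (w := [0, 0]) (by decide) (by rfl)
  simp only [evF, mul_one] at h
  rw [h]
theorem s16_v1000 : S3 pr 49 = S3 pr 50 * S3 pr 50 := by
  have h := step3 (p := pr) (i := 49) (w := [0, 0]) (by decide) (by rfl)
  simp only [evF, mul_one] at h
  rw [h]
theorem r_v1000 : (Rep.y⁻¹ * (u * (Rep.y * (A)))) ^ 19 = 1 := by
  have h := step3 (p := pr) (i := 48) (w := [0, 3, 4]) (by decide) (by rfl)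
  simp only [evF, mul_one] at h
  have h1 : S3 pr 48 = S3 pr 49 * (S3 pr 52 * S3 pr 53) := h
  have h2 : S3 pr 48 = S3 pr 89 := snd.1 (48, 89) (by decide)
  rw [h1, g1, s16_v1000, s8_v1000, s4_v1000, s2_v1000, v_v1000] at h2
  simpa only [pow_succ, pow_zero, one_mul, mul_assoc] using h2

theorem v_v1001 : S3 pr 47 = Rep.t * (Rep.z * (u * (Rep.z⁻¹ * (Rep.t⁻¹ * (A * (D)))))) := by
  have h := step3 (p := pr) (i := 47) (w := [68, 66, 18, 67, 69, 23, 42]) (by decide) (by rfl)
  simp only [evF, mul_one] at h
  rw [h]
  show S3 pr 116 * (S3 pr 114 * (S3 pr 66 * (S3 pr 115 * (S3 pr 117 * (S3 pr 71 * (S3 pr 90)))))) = _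
  rw [gt, gz, u_eq, gzi, gti, gA, gD]
theorem s2_v1001 : S3 pr 46 = S3 pr 47 * S3 pr 47 := by
  have h := step3 (p := pr) (i := 46) (w := [0, 0]) (by decide) (by rfl)
  simp only [evF, mul_one] at h
  rw [h]
theorem s4_v1001 : S3 pr 45 = S3 pr 46 * S3 pr 46 := by
  have h := step3 (p := pr) (i := 45) (w := [0, 0]) (by decide) (by rfl)
  simp only [evF, mul_one] at h
  rw [h]
theorem s8_v1001 : S3 pr 44 = S3 pr 45 * S3 pr 45 := by
  have h := step3 (p := pr) (i := 44) (w := [0, 0]) (by decide) (by rfl)
  simp only [evF, mul_one] at h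
  rw [h]
theorem s16_v1001 : S3 pr 43 = S3 pr 44 * S3 pr 44 := by
  have h := step3 (p := pr) (i := 43) (w := [0, 0]) (by decide) (by rfl)
  simp only [evF, mul_one] at h
  rw [h]
theorem r_v1001 : (Rep.t * (Rep.z * (u * (Rep.z⁻¹ * (Rep.t⁻¹ * (A * (D))))))) ^ 19 = 1 := by
  have h := step3 (p := pr) (i := 42) (w := [0, 3, 4]) (by decide) (by rfl)
  simp only [evF, mul_one] at h
  have h1 : S3 pr 42 = S3 pr 43 * (S3 pr 46 * S3 pr 47) := h
  have h2 : S3 pr 42 = S3 pr 89 := snd.1 (42, 89) (by decide)
  rw [h1, g1, s16_v1001, s8_v1001, s4_v1001, s2_v1001, v_v1001] at h2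
  simpa only [pow_succ, pow_zero, one_mul, mul_assoc] using h2

theorem v_v1002 : S3 pr 41 = Rep.z * (u * (Rep.z⁻¹ * (A * (D * (D))))) := by
  have h := step3 (p := pr) (i := 41) (w := [72, 24, 73, 29, 48, 48]) (by decide) (by rfl)
  simp only [evF, mul_one] at h
  rw [h]
  show S3 pr 114 * (S3 pr 66 * (S3 pr 115 * (S3 pr 71 * (S3 pr 90 * (S3 pr 90))))) = _
  rw [gz, u_eq, gzi, gA, gD]
theorem s2_v1002 : S3 pr 40 = S3 pr 41 * S3 pr 41 := by
  have h := step3 (p := pr) (i := 40) (w := [0, 0]) (by decide) (by rfl)
  simp only [evF, mul_one] at h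
  rw [h]
theorem s4_v1002 : S3 pr 39 = S3 pr 40 * S3 pr 40 := by
  have h := step3 (p := pr) (i := 39) (w := [0, 0]) (by decide) (by rfl)
  simp only [evF, mul_one] at h
  rw [h]
theorem s8_v1002 : S3 pr 38 = S3 pr 39 * S3 pr 39 := by
  have h := step3 (p := pr) (i := 38) (w := [0, 0]) (by decide) (by rfl)
  simp only [evF, mul_one] at h
  rw [h]
theorem s16_v1002 : S3 pr 37 = S3 pr 38 * S3 pr 38 := by
  have h := step3 (p := pr) (i := 37) (w := [0, 0]) (by decide) (by rfl)
  simp only [evF, mul_one] at h
  rw [h]
theorem r_v1002 : (Rep.z * (u * (Rep.z⁻¹ * (A * (D * (D)))))) ^ 19 = 1 := by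
  have h := step3 (p := pr) (i := 36) (w := [0, 3, 4]) (by decide) (by rfl)
  simp only [evF, mul_one] at h
  have h1 : S3 pr 36 = S3 pr 37 * (S3 pr 40 * S3 pr 41) := h
  have h2 : S3 pr 36 = S3 pr 89 := snd.1 (36, 89) (by decide)
  rw [h1, g1, s16_v1002, s8_v1002, s4_v1002, s2_v1002, v_v1002] at h2
  simpa only [pow_succ, pow_zero, one_mul, mul_assoc] using h2

theorem v_v1010 : S3 pr 35 = Rep.z * (u * (Rep.z⁻¹ * (A * (C₁)))) := by
  have h := step3 (p := pr) (i := 35) (w := [78, 30, 79, 35, 31]) (by decide) (by rfl)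
  simp only [evF, mul_one] at h
  rw [h]
  show S3 pr 114 * (S3 pr 66 * (S3 pr 115 * (S3 pr 71 * (S3 pr 67)))) = _
  rw [gz, u_eq, gzi, gA, gC]
theorem s2_v1010 : S3 pr 34 = S3 pr 35 * S3 pr 35 := by
  have h := step3 (p := pr) (i := 34) (w := [0, 0]) (by decide) (by rfl)
  simp only [evF, mul_one] at h
  rw [h]
theorem s4_v1010 : S3 pr 33 = S3 pr 34 * S3 pr 34 := by
  have h := step3 (p := pr) (i := 33) (w := [0, 0]) (by decide) (by rfl)
  simp only [evF, mul_one] at h
  rw [h]
theorem s8_v1010 : S3 pr 32 = S3 pr 33 * S3 pr 33 := by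
  have h := step3 (p := pr) (i := 32) (w := [0, 0]) (by decide) (by rfl)
  simp only [evF, mul_one] at h
  rw [h]
theorem s16_v1010 : S3 pr 31 = S3 pr 32 * S3 pr 32 := by
  have h := step3 (p := pr) (i := 31) (w := [0, 0]) (by decide) (by rfl)
  simp only [evF, mul_one] at h
  rw [h]
theorem r_v1010 : (Rep.z * (u * (Rep.z⁻¹ * (A * (C₁))))) ^ 19 = 1 := by
  have h := step3 (p := pr) (i := 30) (w := [0, 3, 4]) (by decide) (by rfl)
  simp only [evF, mul_one] at h
  have h1 : S3 pr 30 = S3 pr 31 * (S3 pr 34 * S3 pr 35) := h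
  have h2 : S3 pr 30 = S3 pr 89 := snd.1 (30, 89) (by decide)
  rw [h1, g1, s16_v1010, s8_v1010, s4_v1010, s2_v1010, v_v1010] at h2
  simpa only [pow_succ, pow_zero, one_mul, mul_assoc] using h2

theorem v_v1011 : S3 pr 29 = Rep.y * (u * (Rep.y⁻¹ * (A * (C₁ * (D))))) := by
  have h := step3 (p := pr) (i := 29) (w := [82, 36, 83, 41, 37, 60]) (by decide) (by rfl)
  simp only [evF, mul_one] at h
  rw [h]
  show S3 pr 112 * (S3 pr 66 * (S3 pr 113 * (S3 pr 71 * (S3 pr 67 * (S3 pr 90))))) = _
  rw [gy, u_eq, gyi, gA, gC, gD]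
theorem s2_v1011 : S3 pr 28 = S3 pr 29 * S3 pr 29 := by
  have h := step3 (p := pr) (i := 28) (w := [0, 0]) (by decide) (by rfl)
  simp only [evF, mul_one] at h
  rw [h]
theorem s4_v1011 : S3 pr 27 = S3 pr 28 * S3 pr 28 := by
  have h := step3 (p := pr) (i := 27) (w := [0, 0]) (by decide) (by rfl)
  simp only [evF, mul_one] at h
  rw [h]
theorem s8_v1011 : S3 pr 26 = S3 pr 27 * S3 pr 27 := by
  have h := step3 (p := pr) (i := 26) (w := [0, 0]) (by decide) (by rfl)
  simp only [evF, mul_one] at h
  rw [h]
theorem s16_v1011 : S3 pr 25 = S3 pr 26 * S3 pr 26 := by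
  have h := step3 (p := pr) (i := 25) (w := [0, 0]) (by decide) (by rfl)
  simp only [evF, mul_one] at h
  rw [h]
theorem r_v1011 : (Rep.y * (u * (Rep.y⁻¹ * (A * (C₁ * (D)))))) ^ 19 = 1 := by
  have h := step3 (p := pr) (i := 24) (w := [0, 3, 4]) (by decide) (by rfl)
  simp only [evF, mul_one] at h
  have h1 : S3 pr 24 = S3 pr 25 * (S3 pr 28 * S3 pr 29) := h
  have h2 : S3 pr 24 = S3 pr 89 := snd.1 (24, 89) (by decide)
  rw [h1, g1, s16_v1011, s8_v1011, s4_v1011, s2_v1011, v_v1011] at h2
  simpa only [pow_succ, pow_zero, one_mul, mul_assoc] using h2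

theorem v_v1012 : S3 pr 23 = Rep.x * (Rep.x * (u * (Rep.x⁻¹ * (Rep.x⁻¹ * (A * (C₁ * (D * (D)))))))) := by
  have h := step3 (p := pr) (i := 23) (w := [86, 86, 42, 87, 87, 47, 43, 66, 66]) (by decide) (by rfl)
  simp only [evF, mul_one] at h
  rw [h]
  show S3 pr 110 * (S3 pr 110 * (S3 pr 66 * (S3 pr 111 * (S3 pr 111 * (S3 pr 71 * (S3 pr 67 * (S3 pr 90 * (S3 pr 90)))))))) = _
  rw [gx, u_eq, gxi, gA, gC, gD]
theorem s2_v1012 : S3 pr 22 = S3 pr 23 * S3 pr 23 := by
  have h := step3 (p := pr) (i := 22) (w := [0, 0]) (by decide) (by rfl)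
  simp only [evF, mul_one] at h
  rw [h]
theorem s4_v1012 : S3 pr 21 = S3 pr 22 * S3 pr 22 := by
  have h := step3 (p := pr) (i := 21) (w := [0, 0]) (by decide) (by rfl)
  simp only [evF, mul_one] at h
  rw [h]
theorem s8_v1012 : S3 pr 20 = S3 pr 21 * S3 pr 21 := by
  have h := step3 (p := pr) (i := 20) (w := [0, 0]) (by decide) (by rfl)
  simp only [evF, mul_one] at h
  rw [h]
theorem s16_v1012 : S3 pr 19 = S3 pr 20 * S3 pr 20 := by
  have h := step3 (p := pr) (i := 19) (w := [0, 0]) (by decide) (by rfl)
  simp only [evF, mul_one] at h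
  rw [h]
theorem r_v1012 : (Rep.x * (Rep.x * (u * (Rep.x⁻¹ * (Rep.x⁻¹ * (A * (C₁ * (D * (D))))))))) ^ 19 = 1 := by
  have h := step3 (p := pr) (i := 18) (w := [0, 3, 4]) (by decide) (by rfl)
  simp only [evF, mul_one] at h
  have h1 : S3 pr 18 = S3 pr 19 * (S3 pr 22 * S3 pr 23) := h
  have h2 : S3 pr 18 = S3 pr 89 := snd.1 (18, 89) (by decide)
  rw [h1, g1, s16_v1012, s8_v1012, s4_v1012, s2_v1012, v_v1012] at h2
  simpa only [pow_succ, pow_zero, one_mul, mul_assoc] using h2

theorem v_v1020 : S3 pr 17 = Rep.t * (u * (Rep.t⁻¹ * (A * (C₁ * (C₁))))) := by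
  have h := step3 (p := pr) (i := 17) (w := [98, 48, 99, 53, 49, 49]) (by decide) (by rfl)
  simp only [evF, mul_one] at h
  rw [h]
  show S3 pr 116 * (S3 pr 66 * (S3 pr 117 * (S3 pr 71 * (S3 pr 67 * (S3 pr 67))))) = _
  rw [gt, u_eq, gti, gA, gC]
theorem s2_v1020 : S3 pr 16 = S3 pr 17 * S3 pr 17 := by
  have h := step3 (p := pr) (i := 16) (w := [0, 0]) (by decide) (by rfl)
  simp only [evF, mul_one] at h
  rw [h]
theorem s4_v1020 : S3 pr 15 = S3 pr 16 * S3 pr 16 := by
  have h := step3 (p := pr) (i := 15) (w := [0, 0]) (by decide) (by rfl)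
  simp only [evF, mul_one] at h
  rw [h]
theorem s8_v1020 : S3 pr 14 = S3 pr 15 * S3 pr 15 := by
  have h := step3 (p := pr) (i := 14) (w := [0, 0]) (by decide) (by rfl)
  simp only [evF, mul_one] at h
  rw [h]
theorem s16_v1020 : S3 pr 13 = S3 pr 14 * S3 pr 14 := by
  have h := step3 (p := pr) (i := 13) (w := [0, 0]) (by decide) (by rfl)
  simp only [evF, mul_one] at h
  rw [h]
theorem r_v1020 : (Rep.t * (u * (Rep.t⁻¹ * (A * (C₁ * (C₁)))))) ^ 19 = 1 := by
  have h := step3 (p := pr) (i := 12) (w := [0, 3, 4]) (by decide) (by rfl)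
  simp only [evF, mul_one] at h
  have h1 : S3 pr 12 = S3 pr 13 * (S3 pr 16 * S3 pr 17) := h
  have h2 : S3 pr 12 = S3 pr 89 := snd.1 (12, 89) (by decide)
  rw [h1, g1, s16_v1020, s8_v1020, s4_v1020, s2_v1020, v_v1020] at h2
  simpa only [pow_succ, pow_zero, one_mul, mul_assoc] using h2

theorem v_v1021 : S3 pr 11 = Rep.x * (Rep.z * (u * (Rep.z⁻¹ * (Rep.x⁻¹ * (A * (C₁ * (C₁ * (D)))))))) := by
  have h := step3 (p := pr) (i := 11) (w := [98, 102, 54, 103, 99, 59, 55, 55, 78]) (by decide) (by rfl)
  simp only [evF, mul_one] at h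
  rw [h]
  show S3 pr 110 * (S3 pr 114 * (S3 pr 66 * (S3 pr 115 * (S3 pr 111 * (S3 pr 71 * (S3 pr 67 * (S3 pr 67 * (S3 pr 90)))))))) = _
  rw [gx, gz, u_eq, gzi, gxi, gA, gC, gD]
theorem s2_v1021 : S3 pr 10 = S3 pr 11 * S3 pr 11 := by
  have h := step3 (p := pr) (i := 10) (w := [0, 0]) (by decide) (by rfl)
  simp only [evF, mul_one] at h
  rw [h]
theorem s4_v1021 : S3 pr 9 = S3 pr 10 * S3 pr 10 := by
  have h := step3 (p := pr) (i := 9) (w := [0, 0]) (by decide) (by rfl)
  simp only [evF, mul_one] at h
  rw [h]
theorem s8_v1021 : S3 pr 8 = S3 pr 9 * S3 pr 9 := by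
  have h := step3 (p := pr) (i := 8) (w := [0, 0]) (by decide) (by rfl)
  simp only [evF, mul_one] at h
  rw [h]
theorem s16_v1021 : S3 pr 7 = S3 pr 8 * S3 pr 8 := by
  have h := step3 (p := pr) (i := 7) (w := [0, 0]) (by decide) (by rfl)
  simp only [evF, mul_one] at h
  rw [h]
theorem r_v1021 : (Rep.x * (Rep.z * (u * (Rep.z⁻¹ * (Rep.x⁻¹ * (A * (C₁ * (C₁ * (D))))))))) ^ 19 = 1 := by
  have h := step3 (p := pr) (i := 6) (w := [0, 3, 4]) (by decide) (by rfl)
  simp only [evF, mul_one] at h
  have h1 : S3 pr 6 = S3 pr 7 * (S3 pr 10 * S3 pr 11) := h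
  have h2 : S3 pr 6 = S3 pr 89 := snd.1 (6, 89) (by decide)
  rw [h1, g1, s16_v1021, s8_v1021, s4_v1021, s2_v1021, v_v1021] at h2
  simpa only [pow_succ, pow_zero, one_mul, mul_assoc] using h2

theorem v_v1120 : S3 pr 5 = Rep.y⁻¹ * (u * (Rep.y * (A * (B * (C₁ * (C₁)))))) := by
  have h := step3 (p := pr) (i := 5) (w := [107, 60, 106, 65, 70, 61, 61]) (by decide) (by rfl)
  simp only [evF, mul_one] at h
  rw [h]
  show S3 pr 113 * (S3 pr 66 * (S3 pr 112 * (S3 pr 71 * (S3 pr 76 * (S3 pr 67 * (S3 pr 67)))))) = _
  rw [gyi, u_eq, gy, gA, gB, gC]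
theorem s2_v1120 : S3 pr 4 = S3 pr 5 * S3 pr 5 := by
  have h := step3 (p := pr) (i := 4) (w := [0, 0]) (by decide) (by rfl)
  simp only [evF, mul_one] at h
  rw [h]
theorem s4_v1120 : S3 pr 3 = S3 pr 4 * S3 pr 4 := by
  have h := step3 (p := pr) (i := 3) (w := [0, 0]) (by decide) (by rfl)
  simp only [evF, mul_one] at h
  rw [h]
theorem s8_v1120 : S3 pr 2 = S3 pr 3 * S3 pr 3 := by
  have h := step3 (p := pr) (i := 2) (w := [0, 0]) (by decide) (by rfl)
  simp only [evF, mul_one] at h
  rw [h]
theorem s16_v1120 : S3 pr 1 = S3 pr 2 * S3 pr 2 := by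
  have h := step3 (p := pr) (i := 1) (w := [0, 0]) (by decide) (by rfl)
  simp only [evF, mul_one] at h
  rw [h]
theorem r_v1120 : (Rep.y⁻¹ * (u * (Rep.y * (A * (B * (C₁ * (C₁))))))) ^ 19 = 1 := by
  have h := step3 (p := pr) (i := 0) (w := [0, 3, 4]) (by decide) (by rfl)
  simp only [evF, mul_one] at h
  have h1 : S3 pr 0 = S3 pr 1 * (S3 pr 4 * S3 pr 5) := h
  have h2 : S3 pr 0 = S3 pr 89 := snd.1 (0, 89) (by decide)
  rw [h1, g1, s16_v1120, s8_v1120, s4_v1120, s2_v1120, v_v1120] at h2
  simpa only [pow_succ, pow_zero, one_mul, mul_assoc] using h2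

end Cfsg.Agent.H315.SpHN.Tb
end

-- part: H315/Spr/HNThree
section
/-!
# S3938, row `HN` (helper315, task 5132): the elements of order `3`

`P = Q⟨F⟩`, `Q = 3 ^ (1 + 4)` (helper285). The elements of `Q` outside of the centre `⟨W⟩` are conjugate under `Q`, `F` (and up to
powers) to 16 elements, the elements of `Q F` to `W ^ m F`, `A F`, `C₁ F`, `A C₁ F`, `A C₁² F`.
-/

set_option autoImplicit false
set_option maxRecDepth 100000
set_option linter.unusedSimpArgs false

namespace Cfsg.Agent.H315.SpHN.Three

open Subgroup Cfsg Cfsg.Agent.H839.Rad.Ext Cfsg.Agent.HN Cfsg.Agent.H285.HN3 Cfsg.Agent.H609.TH Cfsg.Agent.H315.SpHN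
open Cfsg.Agent.H981.InvHN (lk)

/-! ### codes of vectors -/

/-- digits -/
def d0 (v : ℕ) : ℕ := Nat.mod v 3
/-- digits -/
def d1 (v : ℕ) : ℕ := Nat.mod (Nat.div v 3) 3
/-- digits -/
def d2 (v : ℕ) : ℕ := Nat.mod (Nat.div v 9) 3
/-- digits -/
def d3 (v : ℕ) : ℕ := Nat.mod (Nat.div v 27) 3
/-- code -/
def en (a b c d : ℕ) : ℕ := a % 3 + 3 * (b % 3) + 9 * (c % 3) + 27 * (d % 3)

/-- the action of `F` and of the square on `Q / Z(Q)` -/
def mv1 (g v : ℕ) : ℕ :=
  match g with
  | 0 => en (d0 v) (d1 v + d0 v) (d2 v) (d3 v + 2 * d2 v)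
  | _ => en (2 * d0 v) (2 * d1 v) (2 * d2 v) (2 * d3 v)

/-- rank table -/
def R1 : ℕ := 0x312221112313322102311240101323222103312221201311220100311200101111220100311220100
/-- move table -/
def G1 : ℕ := 0x10000401111000400000040411411440401010

/-- one vector is good -/
def okv (mv : ℕ → ℕ → ℕ) (R G : ℕ) (reps : List ℕ) (v : ℕ) : Bool :=
  (Nat.beq v 0) || reps.any (Nat.beq v) ||
    (Nat.blt (lk R 4 (mv (lk G 2 v) v)) (lk R 4 v) && Nat.blt (mv (lk G 2 v) v) 81 && !Nat.beq (mv (lk G 2 v) v) 0)

theorem chk1 : (List.range 81).all (okv mv1 R1 G1 [27, 9, 3, 1, 30, 12, 28, 10, 57, 21, 55, 37, 19, 64, 46, 22]) = true := by decide +kernel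

theorem all_of_rank {P : ℕ → Prop} {mv : ℕ → ℕ → ℕ} {R G : ℕ} {reps : List ℕ}
    (hc : (List.range 81).all (okv mv R G reps) = true) (hmv : ∀ g v, P (mv g v) → P v)
    (hr : ∀ v ∈ reps, P v) : ∀ n v : ℕ, lk R 4 v < n → v < 81 → v ≠ 0 → P v := by
  intro n
  induction n with
  | zero => intro v h; omega
  | succ n ih =>
    intro v hv h6 hz
    have h1 := List.all_eq_true.1 hc v (List.mem_range.2 h6)
    unfold okv at h1
    rw [Bool.or_eq_true, Bool.or_eq_true, Bool.and_eq_true, Bool.and_eq_true] at h1
    rcases h1 with (h3 | h2) | ⟨⟨h2, h3⟩, h4⟩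
    · exact absurd (Nat.eq_of_beq_eq_true h3) hz
    · obtain ⟨a, ha, hb⟩ := List.any_eq_true.1 h2
      rw [Nat.eq_of_beq_eq_true hb]
      exact hr a ha
    · rw [Nat.blt_eq] at h2 h3
      refine hmv (lk G 2 v) v (ih _ (by omega) h3 fun h0 => ?_)
      rw [h0] at h4
      simp at h4

/-! ### normal forms -/

/-- the element of `Q` -/
noncomputable def nv (v : ℕ) (m : ℤ) : Spor.HN := nf W A B C₁ D (d0 v) (d1 v) (d2 v) (d3 v) m

theorem nf_mod4 {i j u l m i' j' u' l' : ℤ} (h1 : (3 : ℤ) ∣ i - i') (h2 : (3 : ℤ) ∣ j - j') (h3 : (3 : ℤ) ∣ u - u')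
    (h4 : (3 : ℤ) ∣ l - l') : nf W A B C₁ D i j u l m = nf W A B C₁ D i' j' u' l' m := by
  unfold nf
  rw [zpow_eq ext.ha h1, zpow_eq ext.hb h2, zpow_eq ext.hc h3, zpow_eq ext.hd h4]

theorem d0e (v : ℕ) : d0 v = v % 3 := rfl
theorem d1e (v : ℕ) : d1 v = v / 3 % 3 := rfl
theorem d2e (v : ℕ) : d2 v = v / 9 % 3 := rfl
theorem d3e (v : ℕ) : d3 v = v / 27 % 3 := rfl

theorem d0_en (a b c d : ℕ) : d0 (en a b c d) = a % 3 := by rw [d0e, en]; omega
theorem d1_en (a b c d : ℕ) : d1 (en a b c d) = b % 3 := by rw [d1e, en]; omega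
theorem d2_en (a b c d : ℕ) : d2 (en a b c d) = c % 3 := by rw [d2e, en]; omega
theorem d3_en (a b c d : ℕ) : d3 (en a b c d) = d % 3 := by rw [d3e, en]; omega

/-- the code of a normal form -/
theorem nf_en (a b c d : ℕ) (m : ℤ) : nf W A B C₁ D a b c d m = nv (en a b c d) m := by
  rw [nv, d0_en, d1_en, d2_en, d3_en]
  apply nf_mod4 <;> (clear * -; omega)

theorem exists_code (i j u l m : ℤ) : ∃ v < 81, nf W A B C₁ D i j u l m = nv v m := by
  refine ⟨en (i % 3).toNat (j % 3).toNat (u % 3).toNat (l % 3).toNat, by unfold en; omega, ?_⟩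
  rw [← nf_en]
  apply nf_mod4 <;> (clear * -; omega)

/-- conjugation by `F` -/
theorem conj_F (i j u l : ℕ) (m : ℤ) : ∃ m' : ℤ, F * nf W A B C₁ D i j u l m * F⁻¹ =
    nf W A B C₁ D (i : ℤ) (j + i : ℤ) (u : ℤ) (l + 2 * u : ℤ) m' := by
  have h0 : F * nf W A B C₁ D i j u l m * F⁻¹ =
      (F * A * F⁻¹) ^ i * (F * B * F⁻¹) ^ j * (F * C₁ * F⁻¹) ^ u * (F * D * F⁻¹) ^ l * (F * W * F⁻¹) ^ m := by
    unfold nf
    simp only [zpow_natCast, conj_pow, conj_zpow]
    group
  obtain ⟨x1, -, h1⟩ := ext.nf_pow 1 1 0 0 1 i
  obtain ⟨x3, -, h3⟩ := ext.nf_pow 0 0 1 2 2 u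
  have h2 : B ^ j = nf W A B C₁ D 0 j 0 0 0 := by simp [nf]
  have h4 : D ^ l = nf W A B C₁ D 0 0 0 l 0 := by simp [nf]
  have h5 : W ^ m = nf W A B C₁ D 0 0 0 0 m := by simp [nf]
  rw [h0, F_A, F_B, F_C, F_D, F_W, h1, h2, h3, h4, h5, ext.nf_mul, ext.nf_mul, ext.nf_mul, ext.nf_mul]
  exact ⟨_, nf_eq (by ring) (by ring) (by ring) (by ring) rfl⟩

/-! ### the predicate -/

/-- an element of order `3` is good -/
def G3 (x : Spor.HN) : Prop := x ^ 3 = 1 → GoodI x

theorem G3.of_pow {x : Spor.HN} (n : ℕ) (h : G3 (x ^ n)) : G3 x := fun hx =>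
  GoodI.of_pow n (h (by rw [← pow_mul, mul_comm, pow_mul, hx, one_pow]))

theorem G3.of_conj {x : Spor.HN} (t : Spor.HN) (h : G3 (t * x * t⁻¹)) : G3 x := fun hx =>
  GoodI.of_conj t (h (by rw [conj_pow, hx, mul_one, mul_inv_cancel]))

/-- the criterion for conjugates of `u` -/
theorem g3_of (known : Cfsg.Agent.H257.El.Known.{0}) {g w : Cfsg.Spor.HN} (h : (w * Wa.u * w⁻¹ * g) ^ 19 = 1) : G3 g :=
  fun hg => goodI_conj known hg (by norm_num) h

theorem move1 (g v : ℕ) (h : ∀ m, G3 (nv (mv1 g v) m)) : ∀ m, G3 (nv v m) := by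
  rcases g with _ | g
  · intro m
    apply G3.of_conj F
    obtain ⟨m', hm⟩ := conj_F (d0 v) (d1 v) (d2 v) (d3 v) m
    rw [nv, hm]
    have h1 := h m'
    have h2 : mv1 0 v = en (d0 v) (d1 v + d0 v) (d2 v) (d3 v + 2 * d2 v) := rfl
    rw [h2, ← nf_en] at h1
    push_cast at h1
    exact h1
  · intro m
    apply G3.of_pow 2
    obtain ⟨e, -, h1⟩ := ext.nf_pow (d0 v) (d1 v) (d2 v) (d3 v) m 2
    rw [nv, h1]
    have h2 : mv1 (g + 1) v = en (2 * d0 v) (2 * d1 v) (2 * d2 v) (2 * d3 v) := rfl
    have h3 := h (((2 : ℕ) : ℤ) * m - e * ((d0 v : ℤ) * (d1 v : ℤ) + (d2 v : ℤ) * (d3 v : ℤ)))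
    rw [h2, ← nf_en] at h3
    push_cast at h3 ⊢
    exact h3

/-- the central part of a normal form can be changed by conjugation -/
theorem rep_all {r0 r1 r2 r3 : ℤ} (s0 s1 s2 s3 : ℤ) (hω : s0 * r1 - r0 * s1 + s2 * r3 - r2 * s3 = 1)
    (h : G3 (nf W A B C₁ D r0 r1 r2 r3 0)) (m : ℤ) : G3 (nf W A B C₁ D r0 r1 r2 r3 m) := by
  apply G3.of_conj (nf W A B C₁ D (-m * s0) (-m * s1) (-m * s2) (-m * s3) 0)
  rw [ext.nf_mul_comm, mul_assoc (W ^ _), mul_inv_cancel_right]
  have h1 : -m * s0 * r1 - r0 * (-m * s1) + -m * s2 * r3 - r2 * (-m * s3) = -m := by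
    linear_combination (-m) * hω
  rw [h1]
  have h2 : W ^ (-m) = nf W A B C₁ D 0 0 0 0 (-m) := by simp [nf]
  rw [h2, ext.nf_mul]
  have h3 : nf W A B C₁ D (0 + r0) (0 + r1) (0 + r2) (0 + r3) (-m + m - r0 * 0 - r2 * 0) =
      nf W A B C₁ D r0 r1 r2 r3 0 := by
    congr 1 <;> ring
  rw [h3]
  exact h

/-- conjugation by `B` -/
theorem conj_B (i u m : ℤ) : B * (nf W A B C₁ D i 0 u 0 m * F) * B⁻¹ = nf W A B C₁ D i 0 u 0 (m - i) * F := by
  have h3 : B = nf W A B C₁ D 0 1 0 0 0 := by simp [nf]
  have h1 : F * B⁻¹ = B⁻¹ * F := by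
    have h2 : F * B⁻¹ * F⁻¹ = B⁻¹ := by
      calc F * B⁻¹ * F⁻¹ = (F * B * F⁻¹)⁻¹ := by group
        _ = B⁻¹ := by rw [F_B]
    calc F * B⁻¹ = F * B⁻¹ * F⁻¹ * F := by group
      _ = B⁻¹ * F := by rw [h2]
  calc B * (nf W A B C₁ D i 0 u 0 m * F) * B⁻¹ = B * nf W A B C₁ D i 0 u 0 m * (F * B⁻¹) := by group
    _ = (B * nf W A B C₁ D i 0 u 0 m) * B⁻¹ * F := by rw [h1]; group
    _ = W ^ (0 * 0 - i * 1 + 0 * 0 - u * 0) * (nf W A B C₁ D i 0 u 0 m * B) * B⁻¹ * F := by
        nth_rewrite 1 [h3]
        rw [ext.nf_mul_comm, ← h3]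
    _ = W ^ (-i) * nf W A B C₁ D i 0 u 0 m * F := by
        rw [show (0 * 0 - i * 1 + 0 * 0 - u * 0 : ℤ) = -i by ring]
        group
    _ = _ := by
        have h5 : W ^ (-i) = nf W A B C₁ D 0 0 0 0 (-i) := by simp [nf]
        rw [h5, ext.nf_mul]
        congr 1
        exact nf_eq (by ring) (by ring) (by ring) (by ring) (by ring)

/-- conjugation by `D` -/
theorem conj_D (i u m : ℤ) : D * (nf W A B C₁ D i 0 u 0 m * F) * D⁻¹ = nf W A B C₁ D i 0 u 0 (m - u) * F := by
  have h3 : D = nf W A B C₁ D 0 0 0 1 0 := by simp [nf]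
  have h1 : F * D⁻¹ = D⁻¹ * F := by
    have h2 : F * D⁻¹ * F⁻¹ = D⁻¹ := by
      calc F * D⁻¹ * F⁻¹ = (F * D * F⁻¹)⁻¹ := by group
        _ = D⁻¹ := by rw [F_D]
    calc F * D⁻¹ = F * D⁻¹ * F⁻¹ * F := by group
      _ = D⁻¹ * F := by rw [h2]
  calc D * (nf W A B C₁ D i 0 u 0 m * F) * D⁻¹ = D * nf W A B C₁ D i 0 u 0 m * (F * D⁻¹) := by group
    _ = (D * nf W A B C₁ D i 0 u 0 m) * D⁻¹ * F := by rw [h1]; group
    _ = W ^ (0 * 0 - i * 0 + 0 * 0 - u * 1) * (nf W A B C₁ D i 0 u 0 m * D) * D⁻¹ * F := by
        nth_rewrite 1 [h3]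
        rw [ext.nf_mul_comm, ← h3]
    _ = W ^ (-u) * nf W A B C₁ D i 0 u 0 m * F := by
        rw [show (0 * 0 - i * 0 + 0 * 0 - u * 1 : ℤ) = -u by ring]
        group
    _ = _ := by
        have h5 : W ^ (-u) = nf W A B C₁ D 0 0 0 0 (-u) := by simp [nf]
        rw [h5, ext.nf_mul]
        congr 1
        exact nf_eq (by ring) (by ring) (by ring) (by ring) (by ring)

/-- conjugation by `S` -/
theorem conj_S (i u m : ℤ) : S * (nf W A B C₁ D i 0 u 0 m * F) * S⁻¹ = nf W A B C₁ D (-i) 0 (-u) 0 m * F := by
  have h0 : ∀ i u m : ℤ, nf W A B C₁ D i 0 u 0 m = A ^ i * C₁ ^ u * W ^ m := by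
    intro i u m
    simp [nf]
  rw [h0, h0]
  calc S * (A ^ i * C₁ ^ u * W ^ m * F) * S⁻¹ =
      (S * A * S⁻¹) ^ i * (S * C₁ * S⁻¹) ^ u * (S * W * S⁻¹) ^ m * (S * F * S⁻¹) := by
        rw [conj_zpow, conj_zpow, conj_zpow]; group
    _ = _ := by rw [S_A, S_C, S_W, S_F, inv_zpow, inv_zpow, zpow_neg, zpow_neg]

section

variable (known : Cfsg.Agent.H257.El.Known.{0})

include known

theorem g_ACCF : G3 (A * (C₁ * (C₁ * (F)))) := g3_of known (w := 1) (by
  have h : (Wa.u * (A * (C₁ * (C₁ * (F))))) ^ 19 = 1 := Ta.r_ACCF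
  simpa only [inv_one, one_mul, mul_one, mul_assoc] using h)

theorem g_ACF : G3 (A * (C₁ * (F))) := g3_of known (w := Rep.z * Rep.t⁻¹) (by
  have h : (Rep.z * (Rep.t⁻¹ * (Wa.u * (Rep.t * (Rep.z⁻¹ * (A * (C₁ * (F)))))))) ^ 19 = 1 := Ta.r_ACF
  simpa only [mul_inv_rev, mul_assoc, inv_inv] using h)

theorem g_F : G3 (F) := g3_of known (w := Rep.y * Rep.z) (by
  have h : (Rep.y * (Rep.z * (Wa.u * (Rep.z⁻¹ * (Rep.y⁻¹ * (F)))))) ^ 19 = 1 := Ta.r_F
  simpa only [mul_inv_rev, mul_assoc, inv_inv] using h)

theorem g_W : G3 (W) := g3_of known (w := Rep.y) (by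
  have h : (Rep.y * (Wa.u * (Rep.y⁻¹ * (W)))) ^ 19 = 1 := Ta.r_W
  simpa only [mul_inv_rev, mul_assoc, inv_inv] using h)

theorem g_WF : G3 (W * (F)) := g3_of known (w := Rep.x⁻¹ * Rep.y) (by
  have h : (Rep.x⁻¹ * (Rep.y * (Wa.u * (Rep.y⁻¹ * (Rep.x * (W * (F))))))) ^ 19 = 1 := Ta.r_WF
  simpa only [mul_inv_rev, mul_assoc, inv_inv] using h)

theorem g_WWF : G3 (W * (W * (F))) := g3_of known (w := Rep.y⁻¹ * Rep.x * Rep.z) (by
  have h : (Rep.y⁻¹ * (Rep.x * (Rep.z * (Wa.u * (Rep.z⁻¹ * (Rep.x⁻¹ * (Rep.y * (W * (W * (F)))))))))) ^ 19 = 1 := Ta.r_WWF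
  simpa only [mul_inv_rev, mul_assoc, inv_inv] using h)

theorem g_v0001 : G3 (D) := g3_of known (w := Rep.t) (by
  have h : (Rep.t * (Wa.u * (Rep.t⁻¹ * (D)))) ^ 19 = 1 := Ta.r_v0001
  simpa only [mul_inv_rev, mul_assoc, inv_inv] using h)

theorem g_v0010 : G3 (C₁) := g3_of known (w := Rep.x) (by
  have h : (Rep.x * (Wa.u * (Rep.x⁻¹ * (C₁)))) ^ 19 = 1 := Ta.r_v0010
  simpa only [mul_inv_rev, mul_assoc, inv_inv] using h)

theorem g_v0100 : G3 (B) := g3_of known (w := Rep.y) (by
  have h : (Rep.y * (Wa.u * (Rep.y⁻¹ * (B)))) ^ 19 = 1 := Ta.r_v0100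
  simpa only [mul_inv_rev, mul_assoc, inv_inv] using h)

theorem g_v0101 : G3 (B * (D)) := g3_of known (w := Rep.y * Rep.z) (by
  have h : (Rep.y * (Rep.z * (Wa.u * (Rep.z⁻¹ * (Rep.y⁻¹ * (B * (D))))))) ^ 19 = 1 := Ta.r_v0101
  simpa only [mul_inv_rev, mul_assoc, inv_inv] using h)

theorem g_v0102 : G3 (B * (D * (D))) := g3_of known (w := Rep.t) (by
  have h : (Rep.t * (Wa.u * (Rep.t⁻¹ * (B * (D * (D)))))) ^ 19 = 1 := Ta.r_v0102
  simpa only [mul_inv_rev, mul_assoc, inv_inv] using h)

theorem g_v0110 : G3 (B * (C₁)) := g3_of known (w := Rep.z * Rep.t) (by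
  have h : (Rep.z * (Rep.t * (Wa.u * (Rep.t⁻¹ * (Rep.z⁻¹ * (B * (C₁))))))) ^ 19 = 1 := Tb.r_v0110
  simpa only [mul_inv_rev, mul_assoc, inv_inv] using h)

theorem g_v0120 : G3 (B * (C₁ * (C₁))) := g3_of known (w := Rep.x * Rep.z) (by
  have h : (Rep.x * (Rep.z * (Wa.u * (Rep.z⁻¹ * (Rep.x⁻¹ * (B * (C₁ * (C₁)))))))) ^ 19 = 1 := Tb.r_v0120
  simpa only [mul_inv_rev, mul_assoc, inv_inv] using h)

theorem g_v1000 : G3 (A) := g3_of known (w := Rep.y⁻¹) (by
  have h : (Rep.y⁻¹ * (Wa.u * (Rep.y * (A)))) ^ 19 = 1 := Tb.r_v1000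
  simpa only [mul_inv_rev, mul_assoc, inv_inv] using h)

theorem g_v1001 : G3 (A * (D)) := g3_of known (w := Rep.t * Rep.z) (by
  have h : (Rep.t * (Rep.z * (Wa.u * (Rep.z⁻¹ * (Rep.t⁻¹ * (A * (D))))))) ^ 19 = 1 := Tb.r_v1001
  simpa only [mul_inv_rev, mul_assoc, inv_inv] using h)

theorem g_v1002 : G3 (A * (D * (D))) := g3_of known (w := Rep.z) (by
  have h : (Rep.z * (Wa.u * (Rep.z⁻¹ * (A * (D * (D)))))) ^ 19 = 1 := Tb.r_v1002
  simpa only [mul_inv_rev, mul_assoc, inv_inv] using h)

theorem g_v1010 : G3 (A * (C₁)) := g3_of known (w := Rep.z) (by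
  have h : (Rep.z * (Wa.u * (Rep.z⁻¹ * (A * (C₁))))) ^ 19 = 1 := Tb.r_v1010
  simpa only [mul_inv_rev, mul_assoc, inv_inv] using h)

theorem g_v1011 : G3 (A * (C₁ * (D))) := g3_of known (w := Rep.y) (by
  have h : (Rep.y * (Wa.u * (Rep.y⁻¹ * (A * (C₁ * (D)))))) ^ 19 = 1 := Tb.r_v1011
  simpa only [mul_inv_rev, mul_assoc, inv_inv] using h)

theorem g_v1012 : G3 (A * (C₁ * (D * (D)))) := g3_of known (w := Rep.x * Rep.x) (by
  have h : (Rep.x * (Rep.x * (Wa.u * (Rep.x⁻¹ * (Rep.x⁻¹ * (A * (C₁ * (D * (D))))))))) ^ 19 = 1 := Tb.r_v1012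
  simpa only [mul_inv_rev, mul_assoc, inv_inv] using h)

theorem g_v1020 : G3 (A * (C₁ * (C₁))) := g3_of known (w := Rep.t) (by
  have h : (Rep.t * (Wa.u * (Rep.t⁻¹ * (A * (C₁ * (C₁)))))) ^ 19 = 1 := Tb.r_v1020
  simpa only [mul_inv_rev, mul_assoc, inv_inv] using h)

theorem g_v1021 : G3 (A * (C₁ * (C₁ * (D)))) := g3_of known (w := Rep.x * Rep.z) (by
  have h : (Rep.x * (Rep.z * (Wa.u * (Rep.z⁻¹ * (Rep.x⁻¹ * (A * (C₁ * (C₁ * (D))))))))) ^ 19 = 1 := Tb.r_v1021
  simpa only [mul_inv_rev, mul_assoc, inv_inv] using h)

theorem g_v1120 : G3 (A * (B * (C₁ * (C₁)))) := g3_of known (w := Rep.y⁻¹) (by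
  have h : (Rep.y⁻¹ * (Wa.u * (Rep.y * (A * (B * (C₁ * (C₁))))))) ^ 19 = 1 := Tb.r_v1120
  simpa only [mul_inv_rev, mul_assoc, inv_inv] using h)

theorem goodQ : ∀ v < 81, v ≠ 0 → ∀ m, G3 (nv v m) := by
  intro v hv h0
  refine all_of_rank (P := fun v => ∀ m, G3 (nv v m)) chk1 move1 ?_ _ v (Nat.lt_succ_self _) hv h0
  intro v hv m
  simp only [List.mem_cons, List.not_mem_nil, or_false] at hv
  rcases hv with rfl | rfl | rfl | rfl | rfl | rfl | rfl | rfl | rfl | rfl | rfl | rfl | rfl | rfl | rfl | rfl
  · refine rep_all (r0 := ((d0 27 : ℕ) : ℤ)) (r1 := ((d1 27 : ℕ) : ℤ)) (r2 := ((d2 27 : ℕ) : ℤ)) (r3 := ((d3 27 : ℕ) : ℤ))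
      0 0 1 0 (by decide) ?_ m
    have h : nf W A B C₁ D ((d0 27 : ℕ) : ℤ) ((d1 27 : ℕ) : ℤ) ((d2 27 : ℕ) : ℤ) ((d3 27 : ℕ) : ℤ) 0 = D := by
      simp [nf, d0e, d1e, d2e, d3e, pow_two, mul_assoc]
    rw [h]
    exact g_v0001 known
  · refine rep_all (r0 := ((d0 9 : ℕ) : ℤ)) (r1 := ((d1 9 : ℕ) : ℤ)) (r2 := ((d2 9 : ℕ) : ℤ)) (r3 := ((d3 9 : ℕ) : ℤ))
      0 0 0 (-1) (by decide) ?_ m
    have h : nf W A B C₁ D ((d0 9 : ℕ) : ℤ) ((d1 9 : ℕ) : ℤ) ((d2 9 : ℕ) : ℤ) ((d3 9 : ℕ) : ℤ) 0 = C₁ := by
      simp [nf, d0e, d1e, d2e, d3e, pow_two, mul_assoc]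
    rw [h]
    exact g_v0010 known
  · refine rep_all (r0 := ((d0 3 : ℕ) : ℤ)) (r1 := ((d1 3 : ℕ) : ℤ)) (r2 := ((d2 3 : ℕ) : ℤ)) (r3 := ((d3 3 : ℕ) : ℤ))
      1 0 0 0 (by decide) ?_ m
    have h : nf W A B C₁ D ((d0 3 : ℕ) : ℤ) ((d1 3 : ℕ) : ℤ) ((d2 3 : ℕ) : ℤ) ((d3 3 : ℕ) : ℤ) 0 = B := by
      simp [nf, d0e, d1e, d2e, d3e, pow_two, mul_assoc]
    rw [h]
    exact g_v0100 known
  · refine rep_all (r0 := ((d0 1 : ℕ) : ℤ)) (r1 := ((d1 1 : ℕ) : ℤ)) (r2 := ((d2 1 : ℕ) : ℤ)) (r3 := ((d3 1 : ℕ) : ℤ))
      0 (-1) 0 0 (by decide) ?_ m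
    have h : nf W A B C₁ D ((d0 1 : ℕ) : ℤ) ((d1 1 : ℕ) : ℤ) ((d2 1 : ℕ) : ℤ) ((d3 1 : ℕ) : ℤ) 0 = A := by
      simp [nf, d0e, d1e, d2e, d3e, pow_two, mul_assoc]
    rw [h]
    exact g_v1000 known
  · refine rep_all (r0 := ((d0 30 : ℕ) : ℤ)) (r1 := ((d1 30 : ℕ) : ℤ)) (r2 := ((d2 30 : ℕ) : ℤ)) (r3 := ((d3 30 : ℕ) : ℤ))
      0 0 1 0 (by decide) ?_ m
    have h : nf W A B C₁ D ((d0 30 : ℕ) : ℤ) ((d1 30 : ℕ) : ℤ) ((d2 30 : ℕ) : ℤ) ((d3 30 : ℕ) : ℤ) 0 = B * (D) := by
      simp [nf, d0e, d1e, d2e, d3e, pow_two, mul_assoc]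
    rw [h]
    exact g_v0101 known
  · refine rep_all (r0 := ((d0 12 : ℕ) : ℤ)) (r1 := ((d1 12 : ℕ) : ℤ)) (r2 := ((d2 12 : ℕ) : ℤ)) (r3 := ((d3 12 : ℕ) : ℤ))
      0 0 0 (-1) (by decide) ?_ m
    have h : nf W A B C₁ D ((d0 12 : ℕ) : ℤ) ((d1 12 : ℕ) : ℤ) ((d2 12 : ℕ) : ℤ) ((d3 12 : ℕ) : ℤ) 0 = B * (C₁) := by
      simp [nf, d0e, d1e, d2e, d3e, pow_two, mul_assoc]
    rw [h]
    exact g_v0110 known
  · refine rep_all (r0 := ((d0 28 : ℕ) : ℤ)) (r1 := ((d1 28 : ℕ) : ℤ)) (r2 := ((d2 28 : ℕ) : ℤ)) (r3 := ((d3 28 : ℕ) : ℤ))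
      0 0 1 0 (by decide) ?_ m
    have h : nf W A B C₁ D ((d0 28 : ℕ) : ℤ) ((d1 28 : ℕ) : ℤ) ((d2 28 : ℕ) : ℤ) ((d3 28 : ℕ) : ℤ) 0 = A * (D) := by
      simp [nf, d0e, d1e, d2e, d3e, pow_two, mul_assoc]
    rw [h]
    exact g_v1001 known
  · refine rep_all (r0 := ((d0 10 : ℕ) : ℤ)) (r1 := ((d1 10 : ℕ) : ℤ)) (r2 := ((d2 10 : ℕ) : ℤ)) (r3 := ((d3 10 : ℕ) : ℤ))
      0 0 0 (-1) (by decide) ?_ m
    have h : nf W A B C₁ D ((d0 10 : ℕ) : ℤ) ((d1 10 : ℕ) : ℤ) ((d2 10 : ℕ) : ℤ) ((d3 10 : ℕ) : ℤ) 0 = A * (C₁) := by
      simp [nf, d0e, d1e, d2e, d3e, pow_two, mul_assoc]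
    rw [h]
    exact g_v1010 known
  · refine rep_all (r0 := ((d0 57 : ℕ) : ℤ)) (r1 := ((d1 57 : ℕ) : ℤ)) (r2 := ((d2 57 : ℕ) : ℤ)) (r3 := ((d3 57 : ℕ) : ℤ))
      1 0 0 0 (by decide) ?_ m
    have h : nf W A B C₁ D ((d0 57 : ℕ) : ℤ) ((d1 57 : ℕ) : ℤ) ((d2 57 : ℕ) : ℤ) ((d3 57 : ℕ) : ℤ) 0 = B * (D * (D)) := by
      simp [nf, d0e, d1e, d2e, d3e, pow_two, mul_assoc]
    rw [h]
    exact g_v0102 known
  · refine rep_all (r0 := ((d0 21 : ℕ) : ℤ)) (r1 := ((d1 21 : ℕ) : ℤ)) (r2 := ((d2 21 : ℕ) : ℤ)) (r3 := ((d3 21 : ℕ) : ℤ))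
      1 0 0 0 (by decide) ?_ m
    have h : nf W A B C₁ D ((d0 21 : ℕ) : ℤ) ((d1 21 : ℕ) : ℤ) ((d2 21 : ℕ) : ℤ) ((d3 21 : ℕ) : ℤ) 0 = B * (C₁ * (C₁)) := by
      simp [nf, d0e, d1e, d2e, d3e, pow_two, mul_assoc]
    rw [h]
    exact g_v0120 known
  · refine rep_all (r0 := ((d0 55 : ℕ) : ℤ)) (r1 := ((d1 55 : ℕ) : ℤ)) (r2 := ((d2 55 : ℕ) : ℤ)) (r3 := ((d3 55 : ℕ) : ℤ))
      0 (-1) 0 0 (by decide) ?_ m
    have h : nf W A B C₁ D ((d0 55 : ℕ) : ℤ) ((d1 55 : ℕ) : ℤ) ((d2 55 : ℕ) : ℤ) ((d3 55 : ℕ) : ℤ) 0 = A * (D * (D)) := by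
      simp [nf, d0e, d1e, d2e, d3e, pow_two, mul_assoc]
    rw [h]
    exact g_v1002 known
  · refine rep_all (r0 := ((d0 37 : ℕ) : ℤ)) (r1 := ((d1 37 : ℕ) : ℤ)) (r2 := ((d2 37 : ℕ) : ℤ)) (r3 := ((d3 37 : ℕ) : ℤ))
      0 0 0 (-1) (by decide) ?_ m
    have h : nf W A B C₁ D ((d0 37 : ℕ) : ℤ) ((d1 37 : ℕ) : ℤ) ((d2 37 : ℕ) : ℤ) ((d3 37 : ℕ) : ℤ) 0 = A * (C₁ * (D)) := by
      simp [nf, d0e, d1e, d2e, d3e, pow_two, mul_assoc]
    rw [h]
    exact g_v1011 known
  · refine rep_all (r0 := ((d0 19 : ℕ) : ℤ)) (r1 := ((d1 19 : ℕ) : ℤ)) (r2 := ((d2 19 : ℕ) : ℤ)) (r3 := ((d3 19 : ℕ) : ℤ))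
      0 (-1) 0 0 (by decide) ?_ m
    have h : nf W A B C₁ D ((d0 19 : ℕ) : ℤ) ((d1 19 : ℕ) : ℤ) ((d2 19 : ℕ) : ℤ) ((d3 19 : ℕ) : ℤ) 0 = A * (C₁ * (C₁)) := by
      simp [nf, d0e, d1e, d2e, d3e, pow_two, mul_assoc]
    rw [h]
    exact g_v1020 known
  · refine rep_all (r0 := ((d0 64 : ℕ) : ℤ)) (r1 := ((d1 64 : ℕ) : ℤ)) (r2 := ((d2 64 : ℕ) : ℤ)) (r3 := ((d3 64 : ℕ) : ℤ))
      0 0 0 (-1) (by decide) ?_ m
    have h : nf W A B C₁ D ((d0 64 : ℕ) : ℤ) ((d1 64 : ℕ) : ℤ) ((d2 64 : ℕ) : ℤ) ((d3 64 : ℕ) : ℤ) 0 = A * (C₁ * (D * (D))) := by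
      simp [nf, d0e, d1e, d2e, d3e, pow_two, mul_assoc]
    rw [h]
    exact g_v1012 known
  · refine rep_all (r0 := ((d0 46 : ℕ) : ℤ)) (r1 := ((d1 46 : ℕ) : ℤ)) (r2 := ((d2 46 : ℕ) : ℤ)) (r3 := ((d3 46 : ℕ) : ℤ))
      0 0 1 0 (by decide) ?_ m
    have h : nf W A B C₁ D ((d0 46 : ℕ) : ℤ) ((d1 46 : ℕ) : ℤ) ((d2 46 : ℕ) : ℤ) ((d3 46 : ℕ) : ℤ) 0 = A * (C₁ * (C₁ * (D))) := by
      simp [nf, d0e, d1e, d2e, d3e, pow_two, mul_assoc]
    rw [h]
    exact g_v1021 known
  · refine rep_all (r0 := ((d0 22 : ℕ) : ℤ)) (r1 := ((d1 22 : ℕ) : ℤ)) (r2 := ((d2 22 : ℕ) : ℤ)) (r3 := ((d3 22 : ℕ) : ℤ))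
      0 (-1) 0 0 (by decide) ?_ m
    have h : nf W A B C₁ D ((d0 22 : ℕ) : ℤ) ((d1 22 : ℕ) : ℤ) ((d2 22 : ℕ) : ℤ) ((d3 22 : ℕ) : ℤ) 0 = A * (B * (C₁ * (C₁))) := by
      simp [nf, d0e, d1e, d2e, d3e, pow_two, mul_assoc]
    rw [h]
    exact g_v1120 known

/-! ### the coset of `F` -/

omit known in
theorem nfm {i i' u u' m m' : ℤ} (h1 : (3 : ℤ) ∣ i - i') (h2 : (3 : ℤ) ∣ u - u') (h3 : (3 : ℤ) ∣ m - m') :
    nf W A B C₁ D i 0 u 0 m = nf W A B C₁ D i' 0 u' 0 m' := by
  unfold nf
  rw [zpow_eq ext.ha h1, zpow_eq ext.hc h2, zpow_eq e_w3 h3]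

omit known in
/-- the central part, `i ≢ 0` -/
theorem norm_i {i u : ℤ} (hi : ¬ (3 : ℤ) ∣ i) (h : G3 (nf W A B C₁ D i 0 u 0 0 * F)) (m : ℤ) :
    G3 (nf W A B C₁ D i 0 u 0 m * F) := by
  have s0 : ∀ m : ℤ, (3 : ℤ) ∣ m → G3 (nf W A B C₁ D i 0 u 0 m * F) := by
    intro m hm
    rw [nfm (i' := i) (u' := u) (m' := 0) (by simp) (by simp) (by simpa using hm)]
    exact h
  have s1 : ∀ m : ℤ, G3 (nf W A B C₁ D i 0 u 0 (m - i) * F) → G3 (nf W A B C₁ D i 0 u 0 m * F) := by
    intro m hm
    apply G3.of_conj B
    rw [conj_B]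
    exact hm
  have h3 : (3 : ℤ) ∣ m ∨ (3 : ℤ) ∣ m - i ∨ (3 : ℤ) ∣ m - i - i := by
    have h4 : i % 3 = 1 ∨ i % 3 = 2 := by omega
    have h5 : m % 3 = 0 ∨ m % 3 = 1 ∨ m % 3 = 2 := by omega
    rcases h4 with h4 | h4 <;> rcases h5 with h5 | h5 | h5 <;> omega
  rcases h3 with h3 | h3 | h3
  · exact s0 m h3
  · exact s1 m (s0 _ h3)
  · exact s1 m (s1 _ (s0 _ h3))

omit known in
/-- the central part, `u ≢ 0` -/
theorem norm_u {i u : ℤ} (hu : ¬ (3 : ℤ) ∣ u) (h : G3 (nf W A B C₁ D i 0 u 0 0 * F)) (m : ℤ) :
    G3 (nf W A B C₁ D i 0 u 0 m * F) := by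
  have s0 : ∀ m : ℤ, (3 : ℤ) ∣ m → G3 (nf W A B C₁ D i 0 u 0 m * F) := by
    intro m hm
    rw [nfm (i' := i) (u' := u) (m' := 0) (by simp) (by simp) (by simpa using hm)]
    exact h
  have s1 : ∀ m : ℤ, G3 (nf W A B C₁ D i 0 u 0 (m - u) * F) → G3 (nf W A B C₁ D i 0 u 0 m * F) := by
    intro m hm
    apply G3.of_conj D
    rw [conj_D]
    exact hm
  have h3 : (3 : ℤ) ∣ m ∨ (3 : ℤ) ∣ m - u ∨ (3 : ℤ) ∣ m - u - u := by
    have h4 : u % 3 = 1 ∨ u % 3 = 2 := by omega
    have h5 : m % 3 = 0 ∨ m % 3 = 1 ∨ m % 3 = 2 := by omega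
    rcases h4 with h4 | h4 <;> rcases h5 with h5 | h5 | h5 <;> omega
  rcases h3 with h3 | h3 | h3
  · exact s0 m h3
  · exact s1 m (s0 _ h3)
  · exact s1 m (s1 _ (s0 _ h3))

omit known in
/-- signs -/
theorem sign {i u m : ℤ} (h : G3 (nf W A B C₁ D (-i) 0 (-u) 0 m * F)) : G3 (nf W A B C₁ D i 0 u 0 m * F) := by
  apply G3.of_conj S
  rw [conj_S]
  exact h

omit known in
theorem good_AF : G3 (nf W A B C₁ D 1 0 0 0 0 * F) := by
  intro h
  exfalso
  apply Ta.ne_AF
  have h1 : nf W A B C₁ D 1 0 0 0 0 = A := by simp [nf]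
  rwa [h1] at h

omit known in
theorem good_CF : G3 (nf W A B C₁ D 0 0 1 0 0 * F) := by
  intro h
  exfalso
  apply Ta.ne_CF
  have h1 : nf W A B C₁ D 0 0 1 0 0 = C₁ := by simp [nf]
  rwa [h1] at h

theorem good_ACF : G3 (nf W A B C₁ D 1 0 1 0 0 * F) := by
  have h1 : nf W A B C₁ D 1 0 1 0 0 = A * C₁ := by simp [nf]
  rw [h1, mul_assoc]
  exact g_ACF known

theorem good_ACCF : G3 (nf W A B C₁ D 1 0 2 0 0 * F) := by
  have h1 : nf W A B C₁ D 1 0 2 0 0 * F = A * (C₁ * (C₁ * F)) := by
    simp only [nf, zpow_one, zpow_zero, mul_one, zpow_ofNat, pow_two, pow_one, pow_zero, one_mul, mul_assoc]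
  rw [h1]
  exact g_ACCF known

theorem good_m (m : ℤ) : G3 (nf W A B C₁ D 0 0 0 0 m * F) := by
  have h3 : (3 : ℤ) ∣ m - 0 ∨ (3 : ℤ) ∣ m - 1 ∨ (3 : ℤ) ∣ m - 2 := by omega
  rcases h3 with h | h | h
  · rw [nfm (i' := 0) (u' := 0) (m' := 0) (by simp) (by simp) h]
    have h1 : nf W A B C₁ D 0 0 0 0 0 = 1 := nf_zero
    rw [h1, one_mul]
    exact g_F known
  · rw [nfm (i' := 0) (u' := 0) (m' := 1) (by simp) (by simp) h]
    have h1 : nf W A B C₁ D 0 0 0 0 1 = W := by simp [nf]
    rw [h1]
    exact g_WF known
  · rw [nfm (i' := 0) (u' := 0) (m' := 2) (by simp) (by simp) h]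
    have h1 : nf W A B C₁ D 0 0 0 0 2 * F = W * (W * F) := by
      simp only [nf, zpow_zero, one_mul, zpow_ofNat, pow_two, pow_zero, mul_assoc]
    rw [h1]
    exact g_WWF known

theorem good_iu (i u m : ℤ) : G3 (nf W A B C₁ D i 0 u 0 m * F) := by
  have key : ∀ i' u' : ℤ, (3 : ℤ) ∣ i - i' → (3 : ℤ) ∣ u - u' → (∀ m, G3 (nf W A B C₁ D i' 0 u' 0 m * F)) →
      G3 (nf W A B C₁ D i 0 u 0 m * F) := by
    intro i' u' h1 h2 h
    rw [nfm h1 h2 (m' := m) (by simp)]
    exact h m
  have hi : (3 : ℤ) ∣ i - 0 ∨ (3 : ℤ) ∣ i - 1 ∨ (3 : ℤ) ∣ i - (-1) := by omega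
  have hu : (3 : ℤ) ∣ u - 0 ∨ (3 : ℤ) ∣ u - 1 ∨ (3 : ℤ) ∣ u - (-1) := by omega
  have a10 := norm_i (i := 1) (u := 0) (by norm_num) good_AF
  have a01 := norm_u (i := 0) (u := 1) (by norm_num) good_CF
  have a11 := norm_i (i := 1) (u := 1) (by norm_num) (good_ACF known)
  have a12 := norm_i (i := 1) (u := 2) (by norm_num) (good_ACCF known)
  rcases hi with hi | hi | hi <;> rcases hu with hu | hu | hu
  · exact key 0 0 hi hu (good_m known)
  · exact key 0 1 hi hu a01
  · exact key 0 (-1) hi hu fun m => sign (by simpa using a01 m)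
  · exact key 1 0 hi hu a10
  · exact key 1 1 hi hu a11
  · exact key 1 2 hi (by omega) a12
  · exact key (-1) 0 hi hu fun m => sign (by simpa using a10 m)
  · exact key (-1) (-2) hi (by omega) fun m => sign (by simpa using a12 m)
  · exact key (-1) (-1) hi hu fun m => sign (by simpa using a11 m)

theorem goodF {q : Spor.HN} (hq : q ∈ ext.Q) : G3 (q * F) := by
  obtain ⟨i, j, u, l, m, rfl⟩ := hq
  have hl : ∀ i u m l : ℤ, G3 (nf W A B C₁ D i 0 u l m * F) := by
    intro i u m l
    have s0 : ∀ l m : ℤ, (3 : ℤ) ∣ l → G3 (nf W A B C₁ D i 0 u l m * F) := by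
      intro l m h
      rw [nf_mod (j' := 0) (l' := 0) (by simp) (by simpa using h)]
      exact good_iu known i u m
    have s1 : ∀ l m : ℤ, (∀ m, G3 (nf W A B C₁ D i 0 u (l - 2) m * F)) → G3 (nf W A B C₁ D i 0 u l m * F) := by
      intro l m h
      apply G3.of_conj C₁
      obtain ⟨m', hm⟩ := conj_C i 0 u l m
      rw [hm]
      exact h m'
    have h3 : (3 : ℤ) ∣ l ∨ (3 : ℤ) ∣ l - 2 ∨ (3 : ℤ) ∣ (l - 2) - 2 := by omega
    rcases h3 with h | h | h
    · exact s0 l m h
    · exact s1 l m fun m => s0 _ m h
    · exact s1 l m fun m => s1 _ m fun m => s0 _ m h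
  have s0 : ∀ j m : ℤ, (3 : ℤ) ∣ j → G3 (nf W A B C₁ D i j u l m * F) := by
    intro j m h
    rw [nf_mod (j' := 0) (l' := l) (by simpa using h) (by simp)]
    exact hl i u m l
  have s1 : ∀ j m : ℤ, (∀ m, G3 (nf W A B C₁ D i (j - 1) u l m * F)) → G3 (nf W A B C₁ D i j u l m * F) := by
    intro j m h
    apply G3.of_conj A
    obtain ⟨m', hm⟩ := conj_A i j u l m
    rw [hm]
    exact h m'
  have h3 : (3 : ℤ) ∣ j ∨ (3 : ℤ) ∣ j - 1 ∨ (3 : ℤ) ∣ (j - 1) - 1 := by omega
  rcases h3 with h | h | h
  · exact s0 j m h
  · exact s1 j m fun m => s0 _ m h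
  · exact s1 j m fun m => s1 _ m fun m => s0 _ m h

theorem good_W (m : ℤ) (hm : W ^ m ≠ 1) : G3 (W ^ m) := by
  have h3 : (3 : ℤ) ∣ m - 0 ∨ (3 : ℤ) ∣ m - 1 ∨ (3 : ℤ) ∣ m - (-1) := by omega
  rcases h3 with h | h | h
  · exact absurd (by rw [zpow_eq e_w3 h, zpow_zero]) hm
  · rw [zpow_eq e_w3 h, zpow_one]
    exact g_W known
  · rw [zpow_eq e_w3 h]
    apply G3.of_pow 2
    have h1 : (W ^ (-1 : ℤ)) ^ 2 = W := by
      rw [← zpow_natCast, ← zpow_mul, zpow_eq e_w3 (j := 1) (by norm_num), zpow_one]
    rw [h1]
    exact g_W known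

/-- **elements of order `3` are good** -/
theorem goodI_3 (x : Spor.HN) (hx : orderOf x = 3) : GoodI x := by
  have hx3 : x ^ 3 = 1 := by rw [← hx]; exact pow_orderOf_eq_one x
  obtain ⟨g, hg⟩ := Cfsg.Agent.H478.RadHeis.exists_conj_mem isPGroup_P index_P hx3
  have hgx3 : (g * x * g⁻¹) ^ 3 = 1 := by rw [conj_pow, hx3, mul_one, mul_inv_cancel]
  have hgx1 : g * x * g⁻¹ ≠ 1 := by
    intro h
    rw [conj_eq_one_iff] at h
    rw [h, orderOf_one] at hx
    omega
  apply GoodI.of_conj g
  suffices h : G3 (g * x * g⁻¹) from h hgx3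
  obtain ⟨q, hq, s, hs⟩ := hg
  rw [hs] at hgx1 ⊢
  have h3 : (3 : ℤ) ∣ s - 0 ∨ (3 : ℤ) ∣ s - 1 ∨ (3 : ℤ) ∣ s - (-1) := by omega
  rcases h3 with h | h | h
  · rw [zpow_eq e_f3 h, zpow_zero, mul_one] at hgx1 ⊢
    obtain ⟨i, j, u, l, m, rfl⟩ := hq
    obtain ⟨v, hv, he⟩ := exists_code i j u l m
    rw [he] at hgx1 ⊢
    by_cases h0 : v = 0
    · subst h0
      have h2 : nv 0 m = W ^ m := by simp [nv, nf, d0e, d1e, d2e, d3e]
      rw [h2] at hgx1 ⊢
      exact good_W known m hgx1
    · exact goodQ known v hv h0 m
  · rw [zpow_eq e_f3 h, zpow_one]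
    exact goodF known hq
  · rw [zpow_eq e_f3 h, zpow_neg_one]
    apply G3.of_pow 2
    -- `(q F⁻¹)² = q (F⁻¹ q F) F⁻²`, `F⁻² = F`
    have h1 : (q * F⁻¹) ^ 2 = (q * (F * (F * q * F⁻¹) * F⁻¹)) * F := by
      have h2 : F⁻¹ = F * F := by rw [eq_comm, sq_eq e_f3]
      calc (q * F⁻¹) ^ 2 = q * F⁻¹ * q * F⁻¹ := by rw [pow_two]; simp only [mul_assoc]
        _ = q * (F * F) * q * F⁻¹ := congrArg (fun y => q * y * q * F⁻¹) h2
        _ = _ := by group
    rw [h1]
    exact goodF known (mul_mem hq (F_Q _ (F_Q _ hq)))

end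

end Cfsg.Agent.H315.SpHN.Three
end

-- part: H315/Spr/HNFin
section
/-!
# S3938, row `HN` (helper315, task 5132): the assembly
-/

set_option autoImplicit false

namespace Cfsg.Agent.H315.SpHN

open Subgroup Cfsg Cfsg.Agent.H609.TH Cfsg.Agent.H424.Spr

/-- **the elements of prime order are good** -/
theorem hn_inner (known : Cfsg.Agent.H257.El.Known.{0}) (g : Cfsg.Spor.HN) (hg : (orderOf g).Prime) : GoodI g :=
  goodI_prime known (Three.goodI_3 known) g hg

/-- the row, from the outer involutions -/
theorem spr_of_outer (known : Cfsg.Agent.H257.El.Known.{0})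
    (hO : ∀ a : MulAut Spor.HN, orderOf a = 2 → (∀ g : Spor.HN, a ≠ MulAut.conj g) → GoodA a)
    {T : Type} [Group T] [Finite T] (h : Spor.IsoHN T) : Spr T := by
  obtain ⟨e⟩ := h
  have hfin : Finite Spor.HN := Cfsg.Agent.H845.HNNineteen.finite_HN
  have hsim : IsSimpleGroup Spor.HN := Cfsg.Agent.S1701.result.1
  refine Spr.congr e.symm ?_
  refine spr_of_parts (exists_not_comm card_HN (by norm_num)) (hn_inner known) fun a ha hne => ?_
  by_cases h2 : orderOf a = 2
  · exact hO a h2 hne
  · exfalso
    obtain ⟨g, hg⟩ := Cfsg.Agent.H256.OddInner.hn ⟨MulEquiv.refl Spor.HN⟩ a (ha.odd_of_ne_two h2)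
    exact hne g hg

end Cfsg.Agent.H315.SpHN
end

private theorem dce_b40fc96c34c2 : _root_.True := by
  try have : _root_.True := by simp only [_root_.Cfsg.Agent.H315.SpHN.Three.en.eq_1]
  try have : _root_.True := by simp only [_root_.Cfsg.Agent.H328.SprHe.mN.eq_1]
  try have : _root_.True := by simp only [_root_.Cfsg.Agent.H315.SpHN.Tb.u.eq_1]
  try have : _root_.True := by simp only [_root_.Cfsg.Agent.H315.SpHN.Three.nv.eq_1]
  exact _root_.True.intro
end

-- part: H849/SprM
section
prune_inst 0xd0203544040000000004051240003e87eb000090000b800159c60f460686de600000ae20eca00f02100280040030000811000030421000000a000400411800a088a25600b308a00c67000780b002180c00000000000000000000000000041000000000000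
set_option linter.all false
open scoped Cfsg.Agent.FastGrp

/-!
# S3938: the row of the Monster

`t` a 2A involution, `y` of order 47, `t y = y t`: `C(t)` is the only maximal subgroup containing `t y`.
-/

set_option autoImplicit false
set_option maxRecDepth 100000

namespace Cfsg.Agent.H849.SprM

open Subgroup Cfsg.Agent.OrdDiv Cfsg.Agent.H257.El Cfsg.Agent.H424.Spr Cfsg.Agent.H609.TH
open Cfsg.Agent.H241.Mon (Gam)
open Cfsg.Agent.H291.SCAbs (om om_ne_bot)

universe u

/-! ### Involutory automorphisms fixing an element of order 47 -/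

section

open scoped Pointwise

variable {N : Type*} [Group N]

theorem smul_conj_smul (α : MulAut N) (g : N) (P : Sylow 47 N) : α • (g • P) = (α g) • (α • P) := by
  rw [Sylow.smul_def, Sylow.smul_def, smul_smul, smul_smul]
  congr 1
  ext z
  simp only [MulAut.mul_apply, MulAut.conj_apply, _root_.map_mul, _root_.map_inv]

theorem div_1104 : ∀ d ∈ Nat.divisors 1104, d % 47 = 1 → d = 1 ∨ d = 48 := by decide +kernel

/-- an involutory automorphism of a simple group of order `|L₂(47)|` which fixes an element of order 47 is trivial -/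
theorem aut_eq_one [Finite N] [IsSimpleGroup N] (hc : Nat.card N = 51888) {y : N} (hy : orderOf y = 47) (α : MulAut N)
    (hα : α * α = 1) (hαy : α y = y) : α = 1 := by
  classical
  have hF : Fact (Nat.Prime 47) := ⟨by norm_num⟩
  have hz : Nat.card (zpowers y) = 47 := by rw [Nat.card_zpowers, hy]
  have hpg : IsPGroup 47 (zpowers y) := IsPGroup.of_card (n := 1) (by rw [hz, pow_one])
  have hidx : (zpowers y).index = 1104 := by
    have h1 := (zpowers y).card_mul_index
    rw [hz, hc] at h1
    omega
  let P0 : Sylow 47 N := hpg.toSylow (by rw [hidx]; norm_num)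
  have hP0 : (P0 : Subgroup N) = zpowers y := rfl
  have hcP : ∀ P : Sylow 47 N, Nat.card (P : Subgroup N) = 47 := by
    intro P
    rw [P.card_eq_multiplicity, ← P0.card_eq_multiplicity, hP0, hz]
  -- the number of the Sylow subgroups
  have hnn : ¬ (P0 : Subgroup N).Normal := by
    intro h
    rcases h.eq_bot_or_eq_top with h1 | h1
    · have := hcP P0
      rw [h1, card_bot] at this
      norm_num at this
    · have := hcP P0
      rw [h1, card_top, hc] at this
      norm_num at this
  have hX : Nat.card (Sylow 47 N) = 48 := by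
    have h1 : Nat.card (Sylow 47 N) ∣ 1104 := by
      have := P0.card_dvd_index
      rwa [hP0, hidx] at this
    have h2 : Nat.card (Sylow 47 N) % 47 = 1 := card_sylow_modEq_one 47 N
    rcases div_1104 _ (Nat.mem_divisors.2 ⟨h1, by norm_num⟩) h2 with h3 | h3
    · exfalso
      have hsub : Subsingleton (Sylow 47 N) := (Nat.card_eq_one_iff_unique.1 h3).1
      exact hnn (Sylow.normal_of_subsingleton P0)
    · exact h3
  -- `y` fixes only `P0`
  have hfix : ∀ P : Sylow 47 N, y • P = P → P = P0 := by
    intro P hP
    have h2 : y ∈ (P : Subgroup N) := by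
      have h3 : y ∈ zpowers y ⊓ normalizer (P : Set N) := ⟨mem_zpowers y, Sylow.smul_eq_iff_mem_normalizer.1 hP⟩
      rw [hpg.inf_normalizer_sylow P] at h3
      exact h3.2
    apply Sylow.ext
    rw [hP0]
    symm
    refine eq_of_le_of_card_ge (by rwa [zpowers_le]) ?_
    rw [hcP, hz]
  let X := {P : Sylow 47 N // P ≠ P0}
  have _ : Fintype X := Fintype.ofFinite X
  have _ : Fintype (Sylow 47 N) := Fintype.ofFinite _
  have hXc : Fintype.card X = 47 := by
    have h1 : Fintype.card X = Fintype.card (Sylow 47 N) - 1 := by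
      have := Fintype.card_subtype_compl (fun P : Sylow 47 N => P = P0)
      rw [Fintype.card_subtype_eq] at this
      exact this
    rw [h1, ← Nat.card_eq_fintype_card, hX]
  have hα0 : α • P0 = P0 := by
    apply Sylow.ext
    rw [hP0]
    change α • (P0 : Subgroup N) = zpowers y
    rw [hP0]
    change (zpowers y).map α.toMonoidHom = zpowers y
    rw [MonoidHom.map_zpowers]
    exact congrArg zpowers hαy
  have hαα : ∀ P : Sylow 47 N, α • (α • P) = P := by
    intro P
    rw [smul_smul, hα, one_smul]
  let σ : Equiv.Perm X :=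
    { toFun := fun P => ⟨α • P.1, fun h => P.2 (by rw [← hαα P.1, h, hα0])⟩
      invFun := fun P => ⟨α • P.1, fun h => P.2 (by rw [← hαα P.1, h, hα0])⟩
      left_inv := fun P => Subtype.ext (hαα P.1)
      right_inv := fun P => Subtype.ext (hαα P.1) }
  have hF2 : Fact (Nat.Prime 2) := ⟨Nat.prime_two⟩
  obtain ⟨P1, hP1⟩ := Equiv.Perm.exists_fixed_point_of_prime (p := 2) (n := 1) (α := X) (by rw [hXc]; norm_num) (σ := σ)
    (by
      rw [pow_one, pow_two]
      exact Equiv.ext fun P => Subtype.ext (hαα P.1))
  have hP1' : α • P1.1 = P1.1 := congrArg Subtype.val hP1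
  -- `⟨y⟩` is transitive on the other Sylow subgroups
  have hy0 : ∀ i : ℕ, y ^ i • P0 = P0 := by
    intro i
    rw [Sylow.smul_eq_iff_mem_normalizer]
    exact le_normalizer (by rw [hP0]; exact npow_mem_zpowers y i)
  let f : Fin 47 → X := fun i => ⟨y ^ (i : ℕ) • P1.1, fun h => P1.2 (by
    have h1 : y ^ (i : ℕ) • P1.1 = y ^ (i : ℕ) • P0 := by rw [h, hy0]
    exact smul_left_cancel _ h1)⟩
  have hpow : ∀ k : ℕ, ¬ 47 ∣ k → y ^ k • P1.1 ≠ P1.1 := by
    intro k hk h
    apply P1.2
    apply hfix
    rw [Sylow.smul_eq_iff_mem_normalizer] at h ⊢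
    have hco : Nat.Coprime k (orderOf y) := by
      rw [hy, Nat.coprime_comm]
      exact (Nat.Prime.coprime_iff_not_dvd hF.out).2 hk
    obtain ⟨m, hm⟩ := exists_pow_eq_self_of_coprime hco
    rw [← hm]
    exact pow_mem h m
  have hf : Function.Injective f := by
    have key : ∀ i j : Fin 47, i ≤ j → f i = f j → i = j := by
      intro i j hij h
      have h1 : y ^ (i : ℕ) • P1.1 = y ^ (j : ℕ) • P1.1 := congrArg Subtype.val h
      have h2 : y ^ ((j : ℕ) - i) • P1.1 = P1.1 := by
        apply smul_left_cancel (y ^ (i : ℕ))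
        rw [smul_smul, ← pow_add, Nat.add_sub_cancel' (by exact_mod_cast hij), ← h1]
      by_contra hne
      have hlt : (i : ℕ) < j := lt_of_le_of_ne (by exact_mod_cast hij) fun h => hne (Fin.ext h)
      refine hpow _ (fun hd => ?_) h2
      have h3 := Nat.le_of_dvd (by omega) hd
      have := j.2
      omega
    intro i j h
    rcases le_total i j with hij | hij
    · exact key i j hij h
    · exact (key j i hij h.symm).symm
  have hsurj : Function.Surjective f :=
    ((Fintype.bijective_iff_injective_and_card f).2 ⟨hf, by rw [hXc, Fintype.card_fin]⟩).2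
  have hall : ∀ P : Sylow 47 N, α • P = P := by
    intro P
    by_cases h : P = P0
    · rw [h, hα0]
    · obtain ⟨i, hi⟩ := hsurj ⟨P, h⟩
      have hi' : y ^ (i : ℕ) • P1.1 = P := congrArg Subtype.val hi
      rw [← hi', smul_conj_smul, map_pow, hαy, hP1']
  -- the kernel of the action
  have hker : (MulAction.toPermHom N (Sylow 47 N)).ker = ⊥ := by
    rcases (inferInstance : (MulAction.toPermHom N (Sylow 47 N)).ker.Normal).eq_bot_or_eq_top with h | h
    · exact h
    · exfalso
      apply hnn
      have h1 : normalizer ((P0 : Subgroup N) : Set N) = ⊤ := by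
        rw [eq_top_iff]
        intro g _
        refine Sylow.smul_eq_iff_mem_normalizer.1 (?_ : g • P0 = P0)
        have h2 : g ∈ (MulAction.toPermHom N (Sylow 47 N)).ker := by rw [h]; trivial
        exact congrArg (fun e : Equiv.Perm (Sylow 47 N) => e P0) h2
      exact normalizer_eq_top_iff.1 h1
  ext n
  rw [MulAut.one_apply]
  have h1 : n⁻¹ * α n ∈ (MulAction.toPermHom N (Sylow 47 N)).ker := by
    rw [MonoidHom.mem_ker]
    ext1 P
    change (n⁻¹ * α n) • P = P
    rw [mul_smul]
    have h2 : (α n) • P = n • P := by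
      have h3 := smul_conj_smul α n P
      rw [hall P, hall (n • P)] at h3
      exact h3.symm
    rw [h2, inv_smul_smul]
  rw [hker, mem_bot, inv_mul_eq_one] at h1
  exact h1.symm

end

/-- the proper overgroups, trivial core -/
theorem of_bot {T : Type u} [Group T] [Finite T] {n : ℕ} {l : List (ℕ × ℕ)} {r : ℕ} {K : Subgroup T}
    (S : SitP T n l r K) {O : Subgroup K} [hO : O.Normal] {N : Subgroup (K ⧸ O)} (h : _root_.Cfsg.Agent.H257.El.Top K r O N) (hO1 : O = ⊥)
    {s : T} (hs : orderOf s = r) (hsK : s ∈ K) :
    K ≤ normalizer ((zpowers s : Subgroup T) : Set T) ∨ ∃ N' : Subgroup T, _root_.Cfsg.Agent.H609.TH.IsTop T n l r s K N' := by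
  have hN := h.normal
  have hinj : Function.Injective (QuotientGroup.mk' O) := by
    rw [← MonoidHom.ker_eq_bot_iff, QuotientGroup.ker_mk', hO1]
  set N₀ : Subgroup K := N.comap (QuotientGroup.mk' O) with hN₀
  have hN₀n : N₀.Normal := hN.comap _
  let e₀ : N₀ ≃* N := by
    refine MulEquiv.ofBijective ((QuotientGroup.mk' O).subgroupComap N) ⟨?_, ?_⟩
    · intro a b hab
      exact Subtype.ext (hinj (congrArg Subtype.val hab))
    · rintro ⟨z, hz⟩
      obtain ⟨y, rfl⟩ := QuotientGroup.mk'_surjective O z
      exact ⟨⟨y, hz⟩, rfl⟩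
  let e₁ : N₀ ≃* N₀.map K.subtype := N₀.equivMapOfInjective K.subtype K.subtype_injective
  have hle : N₀.map K.subtype ≤ K := by
    rintro _ ⟨y, -, rfl⟩
    exact y.2
  have hnorm : K ≤ normalizer ((N₀.map K.subtype : Subgroup T) : Set T) := by
    intro k hk
    rw [mem_normalizer_iff]
    intro z
    constructor
    · rintro ⟨w, hw, rfl⟩
      exact ⟨(⟨k, hk⟩ * w * ⟨k, hk⟩⁻¹ :), hN₀n.conj_mem w hw _, rfl⟩
    · rintro ⟨w, hw, hwz⟩
      refine ⟨(⟨k, hk⟩⁻¹ * w * ⟨k, hk⟩⁻¹⁻¹ :), hN₀n.conj_mem w hw _, ?_⟩
      change k⁻¹ * (K.subtype w) * (k⁻¹)⁻¹ = z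
      rw [hwz]
      group
  have hcard : Nat.card (N₀.map K.subtype) = Nat.card N := by
    rw [← Nat.card_congr e₁.toEquiv, Nat.card_congr e₀.toEquiv]
  have hmem : s ∈ N₀.map K.subtype := by
    refine ⟨⟨s, hsK⟩, ?_, rfl⟩
    change QuotientGroup.mk' O ⟨s, hsK⟩ ∈ N
    set z : K ⧸ O := QuotientGroup.mk' O ⟨s, hsK⟩ with hz
    have h1 : orderOf z ∣ r := by
      rw [hz, ← hs, ← Subgroup.orderOf_mk s hsK]
      exact orderOf_map_dvd _ _
    have h3 : orderOf (QuotientGroup.mk' N z) ∣ r := (orderOf_map_dvd _ _).trans h1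
    rcases (Nat.dvd_prime S.prime).1 h3 with h4 | h4
    · rw [orderOf_eq_one_iff] at h4
      exact (QuotientGroup.eq_one_iff z).1 h4
    · exfalso
      have h5 : r ∣ N.index := by
        rw [← h4, index_eq_card]
        exact _root_.orderOf_dvd_natCard _
      apply h.sq'
      rw [← Subgroup.card_mul_index N, pow_two]
      exact mul_dvd_mul h.dvd h5
  have hsim : IsSimpleGroup (N₀.map K.subtype) := by
    have := h.simple
    have e : N ≃* N₀.map K.subtype := e₀.symm.trans e₁
    have : Nontrivial (N₀.map K.subtype) := e.symm.toEquiv.nontrivial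
    exact IsSimpleGroup.isSimpleGroup_of_surjective e.toMonoidHom e.surjective
  by_cases hc : ∀ a b : N, a * b = b * a
  · left
    have h1 : Nat.card (N₀.map K.subtype) = r := hcard.trans (h.card_of_comm hc)
    have h3 : zpowers s = N₀.map K.subtype := by
      refine eq_of_le_of_card_ge (by rwa [zpowers_le]) ?_
      rw [h1, Nat.card_zpowers, hs]
    rw [h3]
    exact hnorm
  · right
    have hna : ¬ ∀ a b : N₀.map K.subtype, a * b = b * a := by
      intro h1
      apply hc
      intro a b
      have h3 := h1 ((e₀.symm.trans e₁) a) ((e₀.symm.trans e₁) b)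
      rw [← map_mul, ← map_mul] at h3
      exact (e₀.symm.trans e₁).injective h3
    refine ⟨_, hle, hnorm, hmem, hsim, hna, ?_⟩
    have hd : Nat.card (N₀.map K.subtype) ∣ n := by
      rw [← S.card]
      exact card_subgroup_dvd_card _
    obtain ⟨g, hg, hgr, hgc⟩ := _root_.Cfsg.Agent.OrdDiv.exists_good S.tab (S.known _) hna S.valid hd
    refine ⟨g, List.mem_filter.2 ⟨hg, ?_⟩, hgr, hgc⟩
    unfold okG
    rw [Bool.and_eq_true, Bool.and_eq_true]
    refine ⟨⟨?_, ?_⟩, rfl⟩
    · have h3 : r ∣ Nat.card (N₀.map K.subtype) := by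
        have := Subgroup.orderOf_dvd_natCard _ hmem
        rwa [hs] at this
      rw [← hgc, Nat.mod_eq_zero_of_dvd h3]
      rfl
    · rw [← hgc]
      have h3 : Nat.card (N₀.map K.subtype) ≤ Nat.card K := Nat.le_of_dvd Nat.card_pos (card_dvd_of_le hle)
      have h4 := S.card_lt
      have h5 : Nat.card (N₀.map K.subtype) ≠ n := by omega
      simpa only [_root_.Subgroup.mem_map, _root_.Subgroup.subtype_apply, _root_.Subtype.exists, _root_.exists_and_right, _root_.exists_eq_right, _root_.bne_iff_ne, _root_.ne_eq] using h5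

theorem map_conj {T : Type*} [Group T] {K : Subgroup T} (O : Subgroup K) [hO : O.Normal] {k : T} (hk : k ∈ K) {a : T}
    (ha : a ∈ O.map K.subtype) : k * a * k⁻¹ ∈ O.map K.subtype := by
  obtain ⟨w, hw, rfl⟩ := ha
  exact ⟨(⟨k, hk⟩ * w * ⟨k, hk⟩⁻¹ :), hO.conj_mem w hw _, rfl⟩

theorem map_normal {T : Type*} [Group T] {K : Subgroup T} (O : Subgroup K) [hO : O.Normal] {y : T} (hy : y ∈ K) :
    y ∈ normalizer ((O.map K.subtype : Subgroup T) : Set T) := by
  rw [mem_normalizer_iff]
  intro a
  refine ⟨map_conj O hy, fun ha => ?_⟩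
  have h1 := map_conj O (inv_mem hy) ha
  have h2 : y⁻¹ * (y * a * y⁻¹) * y⁻¹⁻¹ = a := by group
  rwa [h2] at h1

theorem map_norm {T : Type*} [Group T] {K : Subgroup T} {P' : Subgroup K} {z : K} (hzP : z ∈ normalizer (P' : Set K)) :
    (z : T) ∈ normalizer ((P'.map K.subtype : Subgroup T) : Set T) := by
  rw [mem_normalizer_iff]
  intro x
  constructor
  · rintro ⟨w, hw, rfl⟩
    exact ⟨z * w * z⁻¹, (mem_normalizer_iff.1 hzP w).1 hw, rfl⟩
  · rintro ⟨w, hw, hwx⟩
    have hxK : x ∈ K := by
      have h3 : x = (z : T)⁻¹ * (K.subtype w) * z := by rw [hwx]; group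
      rw [h3]
      exact mul_mem (mul_mem (inv_mem z.2) w.2) z.2
    refine ⟨⟨x, hxK⟩, (mem_normalizer_iff.1 hzP _).2 ?_, rfl⟩
    have h4 : z * ⟨x, hxK⟩ * z⁻¹ = w := Subtype.ext hwx.symm
    rw [h4]
    exact hw

/-! ### The Monster -/

def lM : List (ℕ × ℕ) := [(2, 46), (3, 20), (5, 9), (7, 6), (11, 2), (13, 3), (17, 1), (19, 1), (23, 1), (29, 1), (31, 1),
  (41, 1), (47, 1), (59, 1), (71, 1)]

def nM : ℕ := 808017424794512875886459904961710757005754368000000000

theorem valid_m : valid lM nM = true := by decide +kernel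

theorem surv_m : ∀ g ∈ surv nM lM 47 [], g = Grp.psl 2 47 ∨ g = Grp.b := by decide +kernel

theorem ok_m : (lM.all fun x => (x.1 == 2) || (x.1 == 47) || okPow lM 47 x.1) = true := by decide +kernel

theorem p47 : Nat.Prime 47 := by norm_num

theorem card_m : Nat.card Gam = nM := Cfsg.Agent.H241.Mon.card_G

theorem sq47 : ¬ 47 ^ 2 ∣ nM := by unfold nM; norm_num

theorem rank_m : PRankLE 2 15 Gam := by
  obtain ⟨e⟩ := Cfsg.Agent.MonsterP.Equiv.equiv
  intro A hA hA2
  have h := Cfsg.Agent.H332.MonUpper.monster_le (A.map e.symm.toMonoidHom) ?_ ?_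
  · rwa [Subgroup.card_map_of_injective e.symm.injective] at h
  · refine ⟨⟨?_⟩⟩
    rintro ⟨_, a, ha, rfl⟩ ⟨_, b, hb, rfl⟩
    apply Subtype.ext
    show e.symm a * e.symm b = e.symm b * e.symm a
    rw [← map_mul, ← map_mul]
    have h1 : a * b = b * a := congrArg Subtype.val (hA.is_comm.comm (⟨a, ha⟩ : A) ⟨b, hb⟩)
    rw [h1]
  · rintro _ ⟨a, ha, rfl⟩
    show (e.symm a) ^ 2 = 1
    rw [← map_pow, hA2 a ha, map_one]

/-- the base data -/
structure Base (t y : Gam) : Prop where
  ht : orderOf t = 2
  hy : orderOf y = 47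
  hty : t * y = y * t
  ne : centralizer ({t} : Set Gam) ≠ ⊤
  triv : ∀ K : Subgroup Gam, K ≤ centralizer {t} → y ∈ normalizer (K : Set Gam) → ¬ 47 ∣ Nat.card K → K ≤ zpowers t

theorem exists_base (known : Known.{0}) : ∃ t y : Gam, Base t y := by
  have hF : Fact (Nat.Prime 47) := ⟨p47⟩
  have hK : Cfsg.Agent.H995.CopEngine.AllKnown.{0} := fun S _ _ _ => known S
  obtain ⟨t, ht, -, hct, q, hq, hqk⟩ := Cfsg.Agent.H241.Mon.exists_cov
  obtain ⟨x1, hx1⟩ := exists_prime_orderOf_dvd_card' (G := centralizer ({t} : Set Gam)) 47 (by rw [hct]; norm_num)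
  have hx1' : orderOf (x1 : Gam) = 47 := by rw [Subgroup.orderOf_coe, hx1]
  have hfin : Finite Spor.BabyMonster := CTwoTab.BInst.finite_B
  have hqx : orderOf (q x1) = 47 := by
    refine orderOf_eq_prime (by rw [← map_pow, ← hx1, pow_orderOf_eq_one, map_one]) fun h => ?_
    rcases hqk _ h with h1 | h1
    · rw [h1, orderOf_one] at hx1
      norm_num at hx1
    · rw [h1, ht] at hx1'
      norm_num at hx1'
  refine ⟨t, x1, ht, hx1', (mem_centralizer_singleton_iff.1 x1.2).symm, ?_, ?_⟩
  · intro h
    have h1 := card_m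
    rw [← card_top, ← h, hct] at h1
    norm_num [nM] at h1
  · intro K hKt hxK h47
    set K1 : Subgroup (centralizer ({t} : Set Gam)) := K.subgroupOf _ with hK1
    have hc1 : Nat.card K1 = Nat.card K := Nat.card_congr (subgroupOfEquivOfLe hKt).toEquiv
    have hn1 : q x1 ∈ normalizer ((K1.map q : Subgroup Spor.BabyMonster) : Set Spor.BabyMonster) := by
      rw [mem_normalizer_iff]
      have hxx := mem_normalizer_iff.1 hxK
      intro b
      constructor
      · rintro ⟨c, hc, rfl⟩
        refine ⟨x1 * c * x1⁻¹, ?_, by rw [map_mul, map_mul, map_inv]⟩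
        exact (hxx (c : Gam)).1 hc
      · rintro ⟨c, hc, hcb⟩
        refine ⟨x1⁻¹ * c * x1, ?_, by rw [map_mul, map_mul, map_inv, hcb]; group⟩
        refine (hxx _).2 ?_
        change (x1 : Gam) * ((x1 : Gam)⁻¹ * c * x1) * (x1 : Gam)⁻¹ ∈ K
        have h3 : (x1 : Gam) * ((x1 : Gam)⁻¹ * c * x1) * (x1 : Gam)⁻¹ = c := by group
        rw [h3]
        exact hc
    have h471 : ¬ 47 ∣ Nat.card (K1.map q) := by
      intro h
      apply h47
      rw [← hc1]
      exact h.trans (card_map_dvd K1 q)
    have htr := Cfsg.Agent.H291.SCBaby.bHyp.triv hqx hn1 h471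
    intro k hk
    have hk1 : (⟨k, hKt hk⟩ : centralizer ({t} : Set Gam)) ∈ K1 := hk
    have h2 : q ⟨k, hKt hk⟩ = 1 := by
      have h3 := htr _ (mem_map_of_mem q hk1)
      have h4 : orderOf (q ⟨k, hKt hk⟩) ∣ 47 := by
        have h5 := Subgroup.orderOf_dvd_natCard _ (mem_centralizer_singleton_iff.2 h3.symm)
        rwa [Cfsg.Agent.H291.SCBaby.sc hK (q x1) hqx] at h5
      have h5 : orderOf (q ⟨k, hKt hk⟩) ∣ Nat.card (K1.map q) :=
        Subgroup.orderOf_dvd_natCard _ (mem_map_of_mem q hk1)
      rcases (Nat.dvd_prime p47).1 h4 with h6 | h6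
      · exact orderOf_eq_one_iff.1 h6
      · rw [h6] at h5
        exact absurd h5 h471
    rcases hqk _ h2 with h3 | h3
    · have h4 : k = 1 := congrArg Subtype.val h3
      rw [h4]
      exact _root_.OneMemClass.one_mem _
    · have h4 : k = t := h3
      rw [h4]
      exact mem_zpowers t

section

variable {t y : Gam} (B : Base t y) (known : Known.{0})

include B

theorem Base.tt : t * t = 1 := by rw [← pow_two, ← B.ht, pow_orderOf_eq_one]

theorem Base.order : orderOf (t * y) = 94 := by
  rw [Commute.orderOf_mul_eq_mul_orderOf_of_coprime B.hty (by rw [B.ht, B.hy]; norm_num), B.ht, B.hy]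

theorem Base.pow47 : (t * y) ^ 47 = t := by
  have hc : Commute t y := B.hty
  rw [hc.mul_pow, show y ^ 47 = 1 by rw [← B.hy, pow_orderOf_eq_one], mul_one]
  have h2 : t ^ 2 = 1 := by rw [← B.ht, pow_orderOf_eq_one]
  calc t ^ 47 = (t ^ 2) ^ 23 * t := by rw [← pow_mul, ← pow_succ]
    _ = t := by rw [h2, one_pow, one_mul]

include known

theorem Base.cent_eq : centralizer ({y} : Set Gam) = zpowers (t * y) := by
  have hK : Cfsg.Agent.H995.CopEngine.AllKnown.{0} := fun S _ _ _ => known S
  have h1 : Nat.card (centralizer ({y} : Set Gam)) = 47 * 2 := Cfsg.Agent.H436.MonLoc.card47 hK B.hy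
  symm
  refine eq_of_le_of_card_ge ?_ ?_
  · rw [zpowers_le, mem_centralizer_singleton_iff]
    exact ((show Commute t y from B.hty).mul_left (Commute.refl y)).eq
  · rw [h1, Nat.card_zpowers, B.order]

/-- the only involution commuting with `y` -/
theorem Base.inv_unique {e : Gam} (he : orderOf e = 2) (hey : e * y = y * e) : e = t := by
  have h1 : e ∈ zpowers (t * y) := by
    rw [← B.cent_eq known]
    exact mem_centralizer_singleton_iff.2 hey
  rw [← mem_powers_iff_mem_zpowers] at h1
  obtain ⟨k, hk⟩ := h1
  have hk' : (t * y) ^ k = e := hk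
  have h2 : (t * y) ^ (k * 2) = 1 := by rw [pow_mul, hk', ← he, pow_orderOf_eq_one]
  have h3 : 94 ∣ k * 2 := by
    rw [← B.order]
    exact orderOf_dvd_of_pow_eq_one h2
  obtain ⟨m, rfl⟩ : 47 ∣ k := by omega
  rw [pow_mul, B.pow47] at hk'
  rcases Nat.even_or_odd m with ⟨j, rfl⟩ | ⟨j, rfl⟩
  · exfalso
    rw [← two_mul, pow_mul, show t ^ 2 = 1 by rw [← B.ht, pow_orderOf_eq_one], one_pow] at hk'
    rw [← hk', orderOf_one] at he
    norm_num at he
  · rw [pow_succ, pow_mul, show t ^ 2 = 1 by rw [← B.ht, pow_orderOf_eq_one], one_pow, one_mul] at hk'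
    exact hk'.symm

/-- the 2-subgroups normalised by `y` -/
theorem Base.two {R : Subgroup Gam} (hR : IsPGroup 2 R) (hyR : y ∈ normalizer (R : Set Gam)) : R ≤ zpowers t := by
  have hF2 : Fact (Nat.Prime 2) := ⟨Nat.prime_two⟩
  by_cases h : R = ⊥
  · rw [h]
    exact bot_le
  have h1 := om_ne_bot hR h
  have h2 : ∀ a ∈ om R, a ^ 2 = 1 := fun a ha => ha.2.2
  have h3 : IsMulCommutative (om R) := ⟨⟨fun a b => Subtype.ext (a.2.2.1 b b.2.1)⟩⟩
  have h4 : Nat.card (om R) ≤ 2 ^ 15 := rank_m (om R) h3 h2
  have h5 : IsPGroup 2 (om R) := fun a => ⟨1, Subtype.ext (by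
    rw [pow_one]
    exact h2 a a.2)⟩
  have h6 : y ∈ normalizer ((om R : Subgroup Gam) : Set Gam) := by
    have key : ∀ z : Gam, z ∈ normalizer (R : Set Gam) → ∀ a ∈ om R, z * a * z⁻¹ ∈ om R := by
      intro z hz a ha
      refine ⟨(mem_normalizer_iff.1 hz a).1 ha.1, fun b hb => ?_, ?_⟩
      · have hb' : z⁻¹ * b * z ∈ R := by
          have := (mem_normalizer_iff.1 (inv_mem hz) b).1 hb
          simpa only [_root_.inv_inv] using this
        have h7 := ha.2.1 _ hb'
        calc z * a * z⁻¹ * b = z * (a * (z⁻¹ * b * z)) * z⁻¹ := by group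
          _ = z * ((z⁻¹ * b * z) * a) * z⁻¹ := by rw [h7]
          _ = b * (z * a * z⁻¹) := by group
      · have h7 : (z * a * z⁻¹) ^ 2 = z * a ^ 2 * z⁻¹ := by
          rw [pow_two, pow_two]; group
        rw [h7, ha.2.2]; group
    rw [mem_normalizer_iff]
    intro a
    refine ⟨key y hyR a, fun ha => ?_⟩
    have h7 := key y⁻¹ (inv_mem hyR) _ ha
    have h8 : y⁻¹ * (y * a * y⁻¹) * y⁻¹⁻¹ = a := by group
    rwa [h8] at h7
  obtain ⟨k, hk⟩ := IsPGroup.iff_card.1 h5
  have hk15 : k ≤ 15 := by
    rw [hk] at h4
    exact (Nat.pow_le_pow_iff_right (by norm_num)).1 h4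
  have hk1 : 1 ≤ k := by
    by_contra hk0
    have : k = 0 := by omega
    subst this
    rw [pow_zero] at hk
    exact h1 (card_eq_one.1 hk)
  obtain ⟨e, heR, he, hye⟩ := exists_comm_of_normalizer p47 Nat.prime_two B.hy h5 h6 (by
    rw [hk]
    interval_cases k <;> norm_num)
  have het := B.inv_unique known he hye.symm
  rw [het] at heR
  refine B.triv R (fun a ha => ?_) hyR ?_
  · rw [mem_centralizer_singleton_iff]
    exact (heR.2.1 a ha).symm
  · obtain ⟨j, hj⟩ := IsPGroup.iff_card.1 hR
    rw [hj]
    intro h7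
    have h8 := (Nat.prime_dvd_prime_iff_eq p47 Nat.prime_two).1 (p47.dvd_of_dvd_pow h7)
    norm_num at h8

omit B in
/-- the odd primes -/
theorem odd_bot {z : Gam} (hz : orderOf z = 47) {q : ℕ} (hq : q.Prime) (hq2 : q ≠ 2) (hq47 : q ≠ 47)
    {R : Subgroup Gam} (hR : IsPGroup q R) (hzR : z ∈ normalizer (R : Set Gam)) : R = ⊥ := by
  have hq' : Fact q.Prime := ⟨hq⟩
  have hK : Cfsg.Agent.H995.CopEngine.AllKnown.{0} := fun S _ _ _ => known S
  by_contra hne
  obtain ⟨b, hb⟩ := IsPGroup.iff_card.1 hR
  have hb1 : 1 ≤ b := by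
    by_contra hb0
    have : b = 0 := by omega
    subst this
    rw [pow_zero] at hb
    exact hne (card_eq_one.1 hb)
  have hdn : q ^ b ∣ nM := by
    rw [← hb, ← card_m]
    exact card_subgroup_dvd_card R
  have hqn : q ∣ nM := (dvd_pow_self q (by omega)).trans hdn
  obtain ⟨k, hk, -⟩ := exists_pair valid_m hq le_rfl (by rwa [pow_one])
  have hok := ok_m
  rw [List.all_eq_true] at hok
  have h1 := hok (q, k) hk
  rw [Bool.or_eq_true, Bool.or_eq_true] at h1
  rcases h1 with (h1 | h1) | h1
  · exact hq2 (by simpa using h1)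
  · exact hq47 (by simpa using h1)
  · obtain ⟨w, -, hw, hzw⟩ := exists_comm_of_normalizer p47 hq hz hR hzR (by
      rw [hb]
      exact okPow_spec valid_m h1 hq hb1 hdn)
    have h2 : Nat.card (centralizer ({z} : Set Gam)) = 47 * 2 := Cfsg.Agent.H436.MonLoc.card47 hK hz
    have h3 := Subgroup.orderOf_dvd_natCard _ (mem_centralizer_singleton_iff.2 hzw.symm)
    rw [h2, hw] at h3
    rcases hq.dvd_mul.1 h3 with h4 | h4
    · exact hq47 ((Nat.prime_dvd_prime_iff_eq hq p47).1 h4)
    · exact hq2 ((Nat.prime_dvd_prime_iff_eq hq Nat.prime_two).1 h4)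

/-- an involution normalising a simple group at the top centralises it -/
theorem Base.cent_top {K N : Subgroup Gam} (h : _root_.Cfsg.Agent.H609.TH.IsTop Gam nM lM 47 y K N) (htK : t ∈ K) : ∀ n ∈ N, t * n = n * t := by
  have hK : Cfsg.Agent.H995.CopEngine.AllKnown.{0} := fun S _ _ _ => known S
  have hsim := h.simple
  have htN := mem_normalizer_iff.1 (h.le_norm htK)
  have htt := B.tt
  have hti : t⁻¹ = t := (inv_eq_of_mul_eq_one_left htt :)
  let α : MulAut N :=
    { toFun := fun n => ⟨t * n * t⁻¹, (htN n).1 n.2⟩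
      invFun := fun n => ⟨t * n * t⁻¹, (htN n).1 n.2⟩
      left_inv := fun n => Subtype.ext (by
        change t * (t * (n : Gam) * t⁻¹) * t⁻¹ = n
        rw [hti]
        calc t * (t * (n : Gam) * t) * t = (t * t) * n * (t * t) := by group
          _ = n := by rw [htt, one_mul, mul_one])
      right_inv := fun n => Subtype.ext (by
        change t * (t * (n : Gam) * t⁻¹) * t⁻¹ = n
        rw [hti]
        calc t * (t * (n : Gam) * t) * t = (t * t) * n * (t * t) := by group
          _ = n := by rw [htt, one_mul, mul_one])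
      map_mul' := fun a b => Subtype.ext (by
        change t * ((a : Gam) * b) * t⁻¹ = (t * a * t⁻¹) * (t * b * t⁻¹)
        group) }
  have hα : ∀ n : N, ((α n : N) : Gam) = t * n * t⁻¹ := fun _ => rfl
  have hαα : α * α = 1 := by
    refine MulEquiv.ext fun n => Subtype.ext ?_
    change t * (t * (n : Gam) * t⁻¹) * t⁻¹ = n
    rw [hti]
    calc t * (t * (n : Gam) * t) * t = (t * t) * n * (t * t) := by group
      _ = n := by rw [htt, one_mul, mul_one]
  have hyN : α ⟨y, h.mem⟩ = ⟨y, h.mem⟩ := by
    apply Subtype.ext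
    rw [hα, B.hty]
    group
  have hy' : orderOf (⟨y, h.mem⟩ : N) = 47 := by rw [Subgroup.orderOf_mk, B.hy]
  have h1 : α = 1 := by
    obtain ⟨g, hg, hgr, hgc⟩ := h.real
    rcases surv_m g hg with rfl | rfl
    · refine aut_eq_one ?_ hy' α hαα hyN
      rw [hgc]
      decide +kernel
    · obtain ⟨e⟩ := hgr
      obtain ⟨b, hb⟩ := Cfsg.Agent.CpAut.TwoInner.inner_b (MulAut.congr e α)
      have hfin : Finite Spor.BabyMonster := CTwoTab.BInst.finite_B
      have hsB : IsSimpleGroup Spor.BabyMonster := Cfsg.Agent.S1704.result.1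
      -- `b` commutes with the image of `y`
      have hval : ∀ x : Spor.BabyMonster, e (α (e.symm x)) = b * x * b⁻¹ := fun x => by
        have h2 := congrArg (fun f : MulAut Spor.BabyMonster => f x) hb
        exact h2
      set w : Spor.BabyMonster := e ⟨y, h.mem⟩ with hw
      have hwo : orderOf w = 47 := by rw [hw, MulEquiv.orderOf_eq, hy']
      have hbw : b * w * b⁻¹ = w := by
        rw [← hval, hw, e.symm_apply_apply, hyN]
      have hb2 : b * b ∈ center Spor.BabyMonster := by
        rw [mem_center_iff]
        intro x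
        have h3 : b * (b * x * b⁻¹) * b⁻¹ = x := by
          rw [← hval x, ← hval, e.symm_apply_apply]
          have h4 : α (α (e.symm x)) = e.symm x := congrArg (fun f : MulAut N => f (e.symm x)) hαα
          rw [h4, e.apply_symm_apply]
        calc x * (b * b) = (b * (b * x * b⁻¹) * b⁻¹) * (b * b) := by rw [h3]
          _ = b * b * x := by group
      have hcen : center Spor.BabyMonster = ⊥ := by
        rcases (inferInstance : (center Spor.BabyMonster).Normal).eq_bot_or_eq_top with h3 | h3
        · exact h3
        · exfalso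
          have h4 : centralizer ({w} : Set Spor.BabyMonster) = ⊤ := by
            rw [eq_top_iff]
            intro x _
            rw [mem_centralizer_singleton_iff]
            have h5 : w ∈ center Spor.BabyMonster := by rw [h3]; trivial
            exact mem_center_iff.1 h5 x
          have h5 := Cfsg.Agent.H291.SCBaby.sc hK w hwo
          rw [h4, card_top, Cfsg.Agent.S1704.result.2] at h5
          norm_num at h5
      rw [hcen, mem_bot] at hb2
      have hb47 : orderOf b ∣ 47 := by
        have h3 : b * w = w * b := mul_inv_eq_iff_eq_mul.1 hbw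
        have h4 := Subgroup.orderOf_dvd_natCard _ (mem_centralizer_singleton_iff.2 h3)
        rwa [Cfsg.Agent.H291.SCBaby.sc hK w hwo] at h4
      have hb1 : b = 1 := by
        have h3 : orderOf b ∣ 2 := orderOf_dvd_of_pow_eq_one (by rw [pow_two, hb2])
        have h4 : orderOf b ∣ 1 := by
          have := Nat.dvd_gcd hb47 h3
          norm_num at this
          rw [this, orderOf_one]
        exact orderOf_eq_one_iff.1 (Nat.dvd_one.1 h4)
      refine MulEquiv.ext fun n => ?_
      have h3 := hval (e n)
      rw [hb1, e.symm_apply_apply] at h3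
      have h4 : α n = n := e.injective (by rw [h3]; group)
      rw [h4]
      rfl
  intro n hn
  have h2 : t * n * t⁻¹ = n := by
    have h3 := hα ⟨n, hn⟩
    rw [h1] at h3
    exact h3.symm
  exact mul_inv_eq_iff_eq_mul.1 h2

/-- **`C(t)` is the only maximal subgroup containing `t y`.** -/
theorem Base.le_cent {K : Subgroup Gam} (hK : K ≠ ⊤) (hs : t * y ∈ K) : K ≤ centralizer ({t} : Set Gam) := by
  have hF : Fact (Nat.Prime 47) := ⟨p47⟩
  have htK : t ∈ K := by
    rw [← B.pow47]
    exact pow_mem hs 47
  have hyK : y ∈ K := by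
    have h1 : y = t⁻¹ * (t * y) := by group
    rw [h1]
    exact mul_mem (inv_mem htK) hs
  have h47K : 47 ∣ Nat.card K := by
    rw [← B.hy]
    exact Subgroup.orderOf_dvd_natCard K hyK
  have S : SitP Gam nM lM 47 K := ⟨table, known, card_m, valid_m, p47, sq47, hK, h47K⟩
  obtain ⟨O, hO, N, h⟩ := S.exists_top
  -- conjugates of `t`
  have key : ∀ k : Gam, (k * t * k⁻¹) * y = y * (k * t * k⁻¹) → k ∈ centralizer ({t} : Set Gam) := by
    intro k hk
    have h1 : orderOf (k * t * k⁻¹) = 2 := by
      rw [← MulAut.conj_apply, MulEquiv.orderOf_eq, B.ht]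
    have h2 := B.inv_unique known h1 hk
    rw [mem_centralizer_singleton_iff]
    exact mul_inv_eq_iff_eq_mul.1 h2
  -- the core is a 2-group
  have hO2 : ∀ q : ℕ, q.Prime → q ∣ Nat.card O → q = 2 := by
    intro q hq hqd
    have hq' : Fact q.Prime := ⟨hq⟩
    by_contra hq2
    have hq47 : q ≠ 47 := by
      rintro rfl
      exact h.core hqd
    obtain ⟨P⟩ : Nonempty (Sylow q O) := inferInstance
    obtain ⟨z, hz, hzP⟩ := exists_normalizer h.dvdR O h.core P
    set P' : Subgroup K := ((P : Subgroup O).map O.subtype :) with hP'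
    have hPp : IsPGroup q P' := P.isPGroup'.map _
    have h1 := odd_bot known (z := (z : Gam)) (by rw [Subgroup.orderOf_coe]; exact hz) hq hq2 hq47
      (R := P'.map K.subtype) (hPp.map _) (map_norm hzP)
    have h5 : Nat.card P = 1 := by
      have h6 : Nat.card (P'.map K.subtype) = Nat.card P := by
        rw [card_map_of_injective K.subtype_injective, hP', card_map_of_injective O.subtype_injective]
      rw [← h6, h1, card_bot]
    have h7 : q ∣ Nat.card P := P.dvd_card_of_dvd_card hqd
    rw [h5] at h7
    exact hq.one_lt.ne' (Nat.dvd_one.1 h7)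
  have hOp : IsPGroup 2 O := by
    have h1 : Nat.card O = 2 ^ (Nat.card O).primeFactorsList.length :=
      Nat.eq_prime_pow_of_unique_prime_dvd Nat.card_pos.ne' fun {d} hd hdd => hO2 d hd hdd
    exact IsPGroup.of_card h1
  have hnormO : ∀ k ∈ K, ∀ a : Gam, a ∈ O.map K.subtype → k * a * k⁻¹ ∈ O.map K.subtype := fun k hk a ha =>
    map_conj O hk ha
  have hOle : O.map K.subtype ≤ zpowers t := by
    exact B.two known (hOp.map _) (map_normal O hyK)
  by_cases hO1 : O = ⊥
  · rcases of_bot S h hO1 B.hy hyK with h1 | ⟨N', hN'⟩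
    · intro k hk
      apply key
      have h2 := mem_normalizer_iff.1 (h1 hk)
      have h3 : k⁻¹ * y * k ∈ zpowers y := by
        rw [h2]
        have h4 : k * (k⁻¹ * y * k) * k⁻¹ = y := by group
        rw [h4]
        exact mem_zpowers y
      obtain ⟨m, hm⟩ := mem_zpowers_iff.1 h3
      have h4 : t * (k⁻¹ * y * k) = (k⁻¹ * y * k) * t := by
        rw [← hm]
        exact ((show Commute t y from B.hty).zpow_right m).eq
      calc (k * t * k⁻¹) * y = k * (t * (k⁻¹ * y * k)) * k⁻¹ := by group
        _ = k * ((k⁻¹ * y * k) * t) * k⁻¹ := by rw [h4]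
        _ = y * (k * t * k⁻¹) := by group
    · intro k hk
      apply key
      have h2 := mem_normalizer_iff.1 (hN'.le_norm hk)
      have h3 : k⁻¹ * y * k ∈ N' := by
        rw [h2]
        have h4 : k * (k⁻¹ * y * k) * k⁻¹ = y := by group
        rw [h4]
        exact hN'.mem
      have h4 := B.cent_top known hN' htK _ h3
      calc (k * t * k⁻¹) * y = k * (t * (k⁻¹ * y * k)) * k⁻¹ := by group
        _ = k * ((k⁻¹ * y * k) * t) * k⁻¹ := by rw [h4]
        _ = y * (k * t * k⁻¹) := by group
  · have htO : t ∈ O.map K.subtype := by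
      have h1 : O.map K.subtype ≠ ⊥ := by
        rw [Ne, map_eq_bot_iff_of_injective _ K.subtype_injective]
        exact hO1
      have h2 : O.map K.subtype = zpowers t := by
        refine eq_of_le_of_card_ge hOle ?_
        have h3 : Nat.card (O.map K.subtype) ∣ 2 := by
          have := card_dvd_of_le hOle
          rwa [Nat.card_zpowers, B.ht] at this
        rcases (Nat.dvd_prime Nat.prime_two).1 h3 with h4 | h4
        · exact absurd (card_eq_one.1 h4) h1
        · rw [h4, Nat.card_zpowers, B.ht]
      rw [h2]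
      exact mem_zpowers t
    intro k hk
    apply key
    have h1 := hOle (hnormO k hk t htO)
    obtain ⟨m, hm⟩ := mem_zpowers_iff.1 h1
    rw [← hm]
    exact ((show Commute t y from B.hty).zpow_left m).eq

end

theorem spr_gam (known : Known.{0}) : Spr Gam := by
  obtain ⟨t, y, B⟩ := exists_base known
  obtain ⟨e⟩ := Cfsg.Agent.MonsterP.Equiv.equiv
  have hs : IsSimpleGroup Gam := by
    have h1 : IsSimpleGroup Spor.Monster := Cfsg.Agent.S1705.result.1
    have : Nontrivial Gam := e.symm.toEquiv.nontrivial
    exact IsSimpleGroup.isSimpleGroup_of_surjective e.toMonoidHom e.surjective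
  refine spr_of_one (exists_not_comm card_m ?_) (s := t * y) (M := centralizer ({t} : Set Gam)) B.ne
    fun K hsK hK => B.le_cent known hK hsK
  unfold nM
  norm_num

/-- **The row of the Monster (S3938).** -/
theorem spr_m (known : Known.{0}) {T : Type} [Group T] [Finite T] (h : Spor.IsoM T) : Spr T := by
  obtain ⟨e⟩ := h
  obtain ⟨f⟩ := Cfsg.Agent.MonsterP.Equiv.equiv
  exact Spr.congr (e.trans f).symm (spr_gam known)

end Cfsg.Agent.H849.SprM

private theorem dce_8453c7894cf2 : _root_.True := by
  try have : _root_.True := by simp only [_root_.Cfsg.Agent.H849.SprM.nM.eq_1]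
  exact _root_.True.intro
end

-- part: H109/SprJ2_mg
section

end
end
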